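import Mathlib.GroupTheory.SpecificGroups.Alternating
import Mathlib.Tactic.FinCases

/-!
Elements of order three of `Alt(4)` and `Alt(5)`, labelled by their fixed points.
-/

set_option autoImplicit false

namespace Cfsg.Agent.Lib.Frobenius.Zassenhaus

/-- The fixed points. -/
def fixset {n : ℕ} (a : alternatingGroup (Fin n)) : Finset (Fin n) :=
  Finset.univ.filter fun i => (a : Equiv.Perm (Fin n)) i = i

/-- The facts about elements of order three used in the counting. -/
structure ThreeFacts (n : ℕ) : Prop where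
  card : ∀ a : alternatingGroup (Fin n), a * a * a = 1 → a ≠ 1 → (fixset a).card = n - 3
  eq_or : ∀ a b : alternatingGroup (Fin n), a * a * a = 1 → a ≠ 1 → b * b * b = 1 → b ≠ 1 →
    fixset a = fixset b → b = a ∨ b = a * a
  surj : ∀ s : Finset (Fin n), s.card = n - 3 →
    ∃ a : alternatingGroup (Fin n), a * a * a = 1 ∧ a ≠ 1 ∧ fixset a = s

theorem threeFacts_four : ThreeFacts 4 :=
  ⟨by decide +kernel, by decide +kernel, by decide +kernel⟩

theorem threeFacts_five : ThreeFacts 5 :=
  ⟨by decide +kernel, by decide +kernel, by decide +kernel⟩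

theorem disjoint_five : ∀ a b : alternatingGroup (Fin 5), a * a * a = 1 → a ≠ 1 → b * b * b = 1 → b ≠ 1 →
    ¬ (fixset a ∩ fixset b).Nonempty →
    ((a * b) ^ 5 = 1 ∧ a * b ≠ 1) ∨ ((a * b * b) ^ 5 = 1 ∧ a * b * b ≠ 1) := by decide +kernel

theorem exists_moving : ∀ i : Fin 5, ∃ a : alternatingGroup (Fin 5), (a : Equiv.Perm (Fin 5)) i ≠ i := by
  decide +kernel

/-- Adjacency of two-element subsets. -/
def Meet (s t : Finset (Fin 5)) : Prop := s ≠ t ∧ (s ∩ t).Nonempty

instance : DecidableRel Meet := fun s t => inferInstanceAs (Decidable (_ ∧ _))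

theorem meet_deg : ∀ s : Finset (Fin 5), s.card = 2 →
    ((Finset.univ.powersetCard 2).filter (Meet s)).card = 6 := by decide +kernel

theorem meet_lam : ∀ s t : Finset (Fin 5), s.card = 2 → t.card = 2 → Meet s t →
    ((Finset.univ.powersetCard 2).filter fun u => Meet s u ∧ Meet t u).card = 3 := by decide +kernel

theorem meet_mu : ∀ s t : Finset (Fin 5), s.card = 2 → t.card = 2 → s ≠ t → ¬ Meet s t →
    ((Finset.univ.powersetCard 2).filter fun u => Meet s u ∧ Meet t u).card = 4 := by decide +kernel

end Cfsg.Agent.Lib.Frobenius.Zassenhaus
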