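import Cfsg.Agent.Lib.Frobenius.Zassenhaus.Quaternion
import Mathlib.GroupTheory.Perm.Basic

/-!
The automorphism group of the quaternion group of order eight permutes four subgroups of order three.
-/

set_option autoImplicit false

namespace Cfsg.Agent.Lib.Frobenius.Zassenhaus

open QuaternionGroup

/-- Four automorphisms of order three, as maps. -/
def phi : Fin 4 → QuaternionGroup 2 → QuaternionGroup 2 :=
  ![qmap (.xa 0) (.a 1 * .xa 0), qmap (.xa 2) (.a 1 * .xa 0)⁻¹, qmap (.xa 2) (.a 1 * .xa 0),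
    qmap (.xa 0) (.a 1 * .xa 0)⁻¹]

/-- `f` sends the `d`-th subgroup to the `e`-th. -/
def Moves (f : QuaternionGroup 2 → QuaternionGroup 2) (d e : Fin 4) : Prop :=
  (∀ q, f (phi d q) = phi e (f q)) ∨ ∀ q, f (phi d q) = phi e (phi e (f q))

instance (f : QuaternionGroup 2 → QuaternionGroup 2) (d e : Fin 4) : Decidable (Moves f d e) :=
  inferInstanceAs (Decidable (_ ∨ _))

theorem phi_facts : ∀ u v : QuaternionGroup 2, (∀ p q, qmap u v (p * q) = qmap u v p * qmap u v q) →
    (∀ p q, qmap u v p = qmap u v q → p = q) →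
    (∀ d, ∃ e, Moves (qmap u v) d e ∧ ∀ e', Moves (qmap u v) d e' → e' = e) ∧
      ((∀ d, Moves (qmap u v) d d) → ∀ q, qmap u v q = q) := by decide +kernel

theorem eq_qmap (σ : MulAut (QuaternionGroup 2)) (q : QuaternionGroup 2) :
    σ q = qmap (σ (.a 1)) (σ (.xa 0)) q := by
  rcases q with i | i
  · have e : (QuaternionGroup.a i : QuaternionGroup 2) = QuaternionGroup.a 1 ^ i.val := by
      rw [a_one_pow, ZMod.natCast_zmod_val]
    conv_lhs => rw [e, map_pow]
    rfl
  · have e : (QuaternionGroup.xa i : QuaternionGroup 2) = .xa 0 * QuaternionGroup.a 1 ^ i.val := by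
      rw [a_one_pow, ZMod.natCast_zmod_val, xa_mul_a, zero_add]
    conv_lhs => rw [e, map_mul, map_pow]
    rfl

theorem facts (σ : MulAut (QuaternionGroup 2)) :
    (∀ d, ∃ e, Moves σ d e ∧ ∀ e', Moves σ d e' → e' = e) ∧ ((∀ d, Moves σ d d) → σ = 1) := by
  have hfun : ⇑σ = qmap (σ (.a 1)) (σ (.xa 0)) := funext (eq_qmap σ)
  obtain ⟨h1, h2⟩ := phi_facts _ _ (fun p q => by rw [← hfun, map_mul]) (fun p q h => σ.injective (by rwa [hfun]))
  rw [hfun]
  exact ⟨h1, fun h => MulEquiv.ext fun q => by rw [hfun]; exact h2 h q⟩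

/-- The image of a subgroup. -/
noncomputable def perm4 (σ : MulAut (QuaternionGroup 2)) (d : Fin 4) : Fin 4 := ((facts σ).1 d).choose

theorem perm4_eq {σ : MulAut (QuaternionGroup 2)} {d e : Fin 4} (h : Moves σ d e) : perm4 σ d = e :=
  (((facts σ).1 d).choose_spec.2 e h).symm

theorem perm4_mul (σ τ : MulAut (QuaternionGroup 2)) (d : Fin 4) : perm4 (σ * τ) d = perm4 σ (perm4 τ d) := by
  obtain ⟨hτ, -⟩ := ((facts τ).1 d).choose_spec
  obtain ⟨hσ, -⟩ := ((facts σ).1 (perm4 τ d)).choose_spec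
  have h3 : ∀ (e : Fin 4) (q : QuaternionGroup 2), phi e (phi e (phi e (phi e q))) = phi e q := by decide +kernel
  apply perm4_eq
  change (∀ q, σ (τ (phi d q)) = phi _ (σ (τ q))) ∨ ∀ q, σ (τ (phi d q)) = phi _ (phi _ (σ (τ q)))
  rcases hτ with hτ | hτ <;> rcases hσ with hσ | hσ
  · exact Or.inl fun q => by rw [hτ]; exact hσ _
  · exact Or.inr fun q => by rw [hτ]; exact hσ _
  · refine Or.inr fun q => ?_
    rw [hτ]
    exact (hσ _).trans (congrArg _ (hσ _))
  · refine Or.inl fun q => ?_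
    rw [hτ]
    refine (hσ _).trans ?_
    exact (congrArg (fun t => phi _ (phi _ t)) (hσ _)).trans (h3 _ _)

theorem perm4_one (d : Fin 4) : perm4 1 d = d := perm4_eq (Or.inl fun _ => rfl)

/-- The action on the four subgroups of order three. -/
noncomputable def chi : MulAut (QuaternionGroup 2) →* Equiv.Perm (Fin 4) where
  toFun σ :=
    { toFun := perm4 σ
      invFun := perm4 σ⁻¹
      left_inv := fun d => by rw [← perm4_mul, inv_mul_cancel, perm4_one]
      right_inv := fun d => by rw [← perm4_mul, mul_inv_cancel, perm4_one] }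
  map_one' := Equiv.ext perm4_one
  map_mul' σ τ := Equiv.ext (perm4_mul σ τ)

theorem chi_injective : Function.Injective chi := by
  rw [injective_iff_map_eq_one]
  intro σ h
  refine (facts σ).2 fun d => ?_
  have hd : perm4 σ d = d := congrArg (fun π : Equiv.Perm (Fin 4) => π d) h
  have hm := ((facts σ).1 d).choose_spec.1
  rwa [show ((facts σ).1 d).choose = d from hd] at hm

end Cfsg.Agent.Lib.Frobenius.Zassenhaus
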