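import Cfsg.Agent.Lib.Frobenius.Zassenhaus.Structure
import Cfsg.Agent.Lib.Frobenius.Zassenhaus.QuaternionAut
import Cfsg.Agent.Lib.Cores.Fitting

/-!
The automorphism group of a solvable fixed-point-free group is solvable.
-/

set_option autoImplicit false
set_option linter.style.haveILetI false
set_option linter.unusedSectionVars false

namespace Cfsg.Agent.Lib.Frobenius.Zassenhaus

open QuaternionGroup

theorem isSolvable_mulAut_cyclic {C : Type*} [Group C] [IsCyclic C] : Group.IsSolvable (MulAut C) := by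
  refine Group.isSolvable_of_comm fun a b => MulEquiv.ext fun u => ?_
  obtain ⟨i, hi⟩ := MonoidHom.map_cyclic a.toMonoidHom
  obtain ⟨j, hj⟩ := MonoidHom.map_cyclic b.toMonoidHom
  show a.toMonoidHom (b.toMonoidHom u) = b.toMonoidHom (a.toMonoidHom u)
  rw [hi, hj, hj, hi, ← zpow_mul, ← zpow_mul, mul_comm]

theorem isSolvable_perm_four : Group.IsSolvable (Equiv.Perm (Fin 4)) :=
  Characters.isSolvable_of_card_eq_pow_mul_pow (a := 3) (b := 1) Nat.prime_two Nat.prime_three
    (by rw [Nat.card_eq_fintype_card, Fintype.card_perm]; rfl)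

theorem isSolvable_mulAut_quaternion (m : ℕ) : Group.IsSolvable (MulAut (QuaternionGroup (2 ^ (m + 1)))) := by
  rcases m with _ | m
  · haveI := isSolvable_perm_four
    exact Coprime.isSolvable_of_injective (f := chi) chi_injective inferInstance
  set n := 2 ^ (m + 1 + 1) with hn
  haveI : NeZero n := ⟨by positivity⟩
  have h4 : 4 ≤ n := by
    rw [hn]
    calc (4 : ℕ) = 2 ^ 2 := rfl
      _ ≤ 2 ^ (m + 1 + 1) := Nat.pow_le_pow_right two_pos (by omega)
  have hu : ∀ σ : MulAut (QuaternionGroup n), ∃ i : ZMod (2 * n), ∀ t, σ (.a t) = .a (i * t) := by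
    intro σ
    have ho : orderOf (σ (QuaternionGroup.a 1)) = 2 * n := by rw [MulEquiv.orderOf_eq σ, orderOf_a_one]
    rcases hi : σ (QuaternionGroup.a 1) with i | i
    swap
    · rw [hi, orderOf_xa] at ho; omega
    refine ⟨i, fun t => ?_⟩
    conv_lhs => rw [← ZMod.natCast_zmod_val t, ← a_one_pow, map_pow, hi]
    conv_rhs => rw [← ZMod.natCast_zmod_val t]
    induction t.val with
    | zero => rw [pow_zero, Nat.cast_zero, mul_zero]; exact one_def
    | succ j ih => rw [pow_succ (QuaternionGroup.a i) j, ih, a_mul_a, Nat.cast_succ, mul_add, mul_one]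
  choose u hu using hu
  let χ : MulAut (QuaternionGroup n) →* ZMod (2 * n) :=
    { toFun := u
      map_one' := by
        have := hu 1 1
        rw [MulAut.one_apply, mul_one] at this
        exact (QuaternionGroup.a.inj this).symm
      map_mul' := fun σ τ => by
        have := hu (σ * τ) 1
        rw [MulAut.mul_apply, hu, hu, mul_one, mul_one] at this
        exact (QuaternionGroup.a.inj this).symm }
  haveI : Group.IsSolvable χ.toHomUnits.ker := by
    have hfix : ∀ σ ∈ χ.toHomUnits.ker, ∃ j, ∀ s, σ (.xa s) = .xa (j + s) ∧ σ (.a s) = .a s := by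
      intro σ hσ
      have h1 : u σ = 1 := congrArg Units.val (MonoidHom.mem_ker.mp hσ)
      have ha : ∀ t, σ (.a t) = .a t := fun t => by rw [hu, h1, one_mul]
      rcases hj : σ (QuaternionGroup.xa 0) with j | j
      · exfalso
        have := σ.injective (hj.trans (ha j).symm)
        cases this
      refine ⟨j, fun s => ⟨?_, ha s⟩⟩
      rw [show (QuaternionGroup.xa s : QuaternionGroup n) = .xa 0 * .a s by rw [xa_mul_a, zero_add],
        map_mul, hj, ha, xa_mul_a]
    refine Group.isSolvable_of_comm fun a b => Subtype.ext (MulEquiv.ext fun q => ?_)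
    obtain ⟨i, hi⟩ := hfix a a.2
    obtain ⟨j, hj⟩ := hfix b b.2
    show (a : MulAut (QuaternionGroup n)) ((b : MulAut (QuaternionGroup n)) q) =
      (b : MulAut (QuaternionGroup n)) ((a : MulAut (QuaternionGroup n)) q)
    rcases q with s | s
    · rw [(hi s).2, (hj s).2, (hi s).2]
    · rw [(hj s).1, (hi _).1, (hi s).1, (hj _).1, add_left_comm]
  exact Group.isSolvable_of_ker_le_range χ.toHomUnits.ker.subtype χ.toHomUnits
    (by rw [Subgroup.range_subtype])

/-- The automorphisms of a solvable fixed-point-free group form a solvable group. -/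
theorem IsFPF.isSolvable_mulAut {G : Type*} [Group G] [Finite G] (hG : IsFPF G) (hs : Group.IsSolvable G) :
    Group.IsSolvable (MulAut G) := by
  classical
  have hP : ∀ p : ℕ, p.Prime → Group.IsSolvable (MulAut (Cfsg.pCore p G)) := by
    intro p hp
    haveI := Fact.mk hp
    rcases hG.sylow_shape (Cfsg.pCore p G) (Cores.pCore_isPGroup p G) with hc | ⟨-, m, ⟨e⟩⟩
    · haveI := hc
      exact isSolvable_mulAut_cyclic
    · haveI := isSolvable_mulAut_quaternion m
      exact Coprime.isSolvable_of_injective (f := (MulAut.congr e).toMonoidHom) (MulAut.congr e).injective inferInstance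
  have hres : ∀ p : ℕ, p.Prime → ∃ d, ∀ σ ∈ derivedSeries (MulAut G) d, ∀ x ∈ Cfsg.pCore p G, σ x = x := by
    intro p hp
    obtain ⟨d, hd⟩ := hP p hp
    refine ⟨d, fun σ hσ x hx => ?_⟩
    have hinv : ∀ (τ : MulAut G), ∀ y ∈ Cfsg.pCore p G, τ y ∈ Cfsg.pCore p G := fun τ y hy => by
      have h := (inferInstance : (Cfsg.pCore p G).Characteristic).fixed τ
      rw [← h] at hy
      exact hy
    let r : MulAut G →* MulAut (Cfsg.pCore p G) :=
      { toFun := fun τ =>
          { toFun := fun y => ⟨τ y, hinv τ y y.2⟩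
            invFun := fun y => ⟨τ.symm y, hinv τ.symm y y.2⟩
            left_inv := fun y => Subtype.ext (τ.symm_apply_apply _)
            right_inv := fun y => Subtype.ext (τ.apply_symm_apply _)
            map_mul' := fun y z => Subtype.ext (map_mul τ _ _) }
        map_one' := rfl
        map_mul' := fun _ _ => rfl }
    have h1 : r σ = 1 := by
      rw [← Subgroup.mem_bot, ← hd]
      exact map_derivedSeries_le_derivedSeries r d ⟨σ, hσ, rfl⟩
    exact congrArg Subtype.val (congrArg (fun τ : MulAut (Cfsg.pCore p G) => τ ⟨x, hx⟩) h1)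
  choose d hd using hres
  set N := (Nat.card G).primeFactors.attach.sup fun p => d p (Nat.prime_of_mem_primeFactors p.2)
  set F := Cfsg.fittingSubgroup G
  have hF : ∀ σ ∈ derivedSeries (MulAut G) N, ∀ x ∈ F, σ x = x := by
    intro σ hσ x hx
    refine (Cores.fittingSubgroup_le_of_pCore_le (K :=
      MonoidHom.eqLocus σ.toMonoidHom (MonoidHom.id G)) fun p hp y hy => ?_) hx
    show σ y = y
    haveI := Fact.mk hp
    by_cases hpd : p ∣ Nat.card G
    · have hm : p ∈ (Nat.card G).primeFactors := Nat.mem_primeFactors.mpr ⟨hp, hpd, Nat.card_pos.ne'⟩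
      exact hd p hp σ (derivedSeries_antitone _
        (Finset.le_sup (f := fun p : {q // q ∈ (Nat.card G).primeFactors} =>
          d p (Nat.prime_of_mem_primeFactors p.2)) (Finset.mem_attach _ ⟨p, hm⟩)) hσ) y hy
    · obtain ⟨k, hk⟩ := IsPGroup.iff_orderOf.mp (Cores.pCore_isPGroup p G) ⟨y, hy⟩
      rw [Subgroup.orderOf_mk] at hk
      rcases k with _ | k
      · rw [pow_zero, orderOf_eq_one_iff] at hk; rw [hk, map_one]
      · exact absurd ((dvd_pow_self p k.succ_ne_zero).trans (hk ▸ orderOf_dvd_natCard y)) hpd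
  refine ⟨N + 1, ?_⟩
  rw [derivedSeries_succ, Subgroup.commutator_eq_bot_iff_le_centralizer]
  intro σ hσ τ hτ
  -- derivations into the centre of the Fitting subgroup
  have hz : ∀ ρ ∈ derivedSeries (MulAut G) N, ∀ g : G, g⁻¹ * ρ g ∈ F ∧ ∀ f ∈ F, f * (g⁻¹ * ρ g) = g⁻¹ * ρ g * f := by
    intro ρ hρ g
    have hc : ∀ f ∈ F, f * (g⁻¹ * ρ g) = g⁻¹ * ρ g * f := by
      intro f hf
      have h := hF ρ hρ _ ((inferInstance : F.Normal).conj_mem f hf g)
      rw [map_mul, map_mul, map_inv, hF ρ hρ f hf] at h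
      calc f * (g⁻¹ * ρ g) = g⁻¹ * (g * f * g⁻¹) * ρ g := by group
        _ = g⁻¹ * (ρ g * f * (ρ g)⁻¹) * ρ g := by rw [h]
        _ = g⁻¹ * ρ g * f := by group
    exact ⟨Cores.centralizer_fittingSubgroup_le hs (fun f hf => hc f hf), hc⟩
  apply MulEquiv.ext
  intro g
  show τ (σ g) = σ (τ g)
  obtain ⟨hs1, hs2⟩ := hz σ hσ g
  obtain ⟨ht1, -⟩ := hz τ hτ g
  calc τ (σ g) = τ (g * (g⁻¹ * σ g)) := by rw [mul_inv_cancel_left]
    _ = τ g * (g⁻¹ * σ g) := by rw [map_mul, hF τ hτ _ hs1]
    _ = g * ((g⁻¹ * τ g) * (g⁻¹ * σ g)) := by group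
    _ = g * ((g⁻¹ * σ g) * (g⁻¹ * τ g)) := by rw [← hs2 _ ht1]
    _ = σ g * (g⁻¹ * τ g) := by group
    _ = σ (g * (g⁻¹ * τ g)) := by rw [map_mul, hF σ hσ _ ht1]
    _ = σ (τ g) := by rw [mul_inv_cancel_left]

end Cfsg.Agent.Lib.Frobenius.Zassenhaus
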