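import Mathlib.FieldTheory.IsAlgClosed.AlgebraicClosure
import Mathlib.LinearAlgebra.Eigenspace.Triangularizable
import Mathlib.LinearAlgebra.Matrix.ToLin
import Mathlib.GroupTheory.OrderOfElement
import Mathlib.RingTheory.RootsOfUnity.PrimitiveRoots
import Mathlib.Algebra.Field.ZMod

/-!
Finite groups acting linearly without fixed points: commuting elements.
-/

set_option autoImplicit false
set_option linter.style.haveILetI false
set_option linter.unusedSectionVars false

namespace Cfsg.Agent.Lib.Frobenius.Zassenhaus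

variable {G : Type*} [Group G] {F V : Type*} [Field F] [AddCommGroup V] [Module F V]

/-- `ρ` has no non-zero fixed vector at a non-identity element. -/
def FixedFree (ρ : G →* Module.End F V) : Prop :=
  ∀ g : G, g ≠ 1 → ∀ v : V, ρ g v = v → v = 0

/-- The group acts fixed-point-freely on a non-zero space over an algebraic closure of a prime field
of characteristic prime to its order. -/
def IsFPF (G : Type*) [Group G] : Prop :=
  ∃ (ℓ : ℕ) (_ : Fact ℓ.Prime), ¬ ℓ ∣ Nat.card G ∧ ∃ (n : ℕ), 0 < n ∧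
    ∃ ρ : G →* Module.End (AlgebraicClosure (ZMod ℓ)) (Fin n → AlgebraicClosure (ZMod ℓ)), FixedFree ρ

variable {ρ : G →* Module.End F V}

theorem apply_mul (g h : G) (v : V) : ρ (g * h) v = ρ g (ρ h v) := by
  rw [map_mul]; rfl

theorem apply_one (v : V) : ρ 1 v = v := by
  rw [map_one]; rfl

theorem inv_apply_apply (g : G) (v : V) : ρ g⁻¹ (ρ g v) = v := by
  rw [← apply_mul, inv_mul_cancel, apply_one]

theorem apply_inv_apply (g : G) (v : V) : ρ g (ρ g⁻¹ v) = v := by
  rw [← apply_mul, mul_inv_cancel, apply_one]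

theorem apply_injective (g : G) : Function.Injective (ρ g) := fun a b h => by
  have := congrArg (ρ g⁻¹) h
  rwa [inv_apply_apply, inv_apply_apply] at this

theorem eigen_ne_zero {g : G} {v : V} (hv : v ≠ 0) {a : F} (h : ρ g v = a • v) : a ≠ 0 := by
  rintro rfl
  rw [zero_smul] at h
  exact hv (apply_injective g (h.trans (map_zero _).symm))

theorem pow_eigen {g : G} {v : V} {a : F} (h : ρ g v = a • v) (k : ℕ) : ρ (g ^ k) v = a ^ k • v := by
  induction k with
  | zero => rw [pow_zero, pow_zero, one_smul, apply_one]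
  | succ k ih => rw [pow_succ, apply_mul, h, map_smul, ih, smul_smul, ← pow_succ']

namespace FixedFree

theorem eq_one (hρ : FixedFree ρ) {g : G} {v : V} (hv : v ≠ 0) (h : ρ g v = v) : g = 1 :=
  by_contra fun e => hv (hρ g e v h)

theorem eq_of_apply_eq (hρ : FixedFree ρ) {g h : G} {v : V} (hv : v ≠ 0) (e : ρ g v = ρ h v) :
    g = h := by
  have : ρ (h⁻¹ * g) v = v := by rw [apply_mul, e, inv_apply_apply]
  exact (inv_mul_eq_one.mp (hρ.eq_one hv this)).symm

theorem comp_subgroup (hρ : FixedFree ρ) (K : Subgroup G) : FixedFree (ρ.comp K.subtype) :=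
  fun g hg v h => hρ g (fun e => hg (Subtype.ext e)) v h

theorem quad_three (hρ : FixedFree ρ) {x : G} (hx : orderOf x = 3) (v : V) :
    ρ x (ρ x v) = -v - ρ x v := by
  have hx1 : x ≠ 1 := fun e => by rw [e, orderOf_one] at hx; omega
  have h3 : ρ x (ρ x (ρ x v)) = v := by
    rw [← apply_mul, ← apply_mul, ← pow_three', ← hx, pow_orderOf_eq_one, apply_one]
  have hw : ρ x (v + ρ x v + ρ x (ρ x v)) = v + ρ x v + ρ x (ρ x v) := by
    rw [map_add, map_add, h3]; abel
  have h0 := hρ x hx1 _ hw
  rw [← sub_eq_zero, ← h0]; abel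

theorem commute_of_common (hρ : FixedFree ρ) {x y : G} {v : V} (hv : v ≠ 0) {a b : F}
    (ha : ρ x v = a • v) (hb : ρ y v = b • v) : x * y = y * x :=
  hρ.eq_of_apply_eq hv <| by
    rw [apply_mul, apply_mul, ha, hb, map_smul, map_smul, ha, hb, smul_smul, smul_smul, mul_comm]

theorem exists_eigen [IsAlgClosed F] [FiniteDimensional F V] (f : Module.End F V) {W : Submodule F V}
    (hW : W ≠ ⊥) (hf : ∀ w ∈ W, f w ∈ W) : ∃ v ∈ W, v ≠ 0 ∧ ∃ a : F, f v = a • v := by
  haveI : Nontrivial W := Submodule.nontrivial_iff_ne_bot.mpr hW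
  obtain ⟨a, ha⟩ := Module.End.exists_eigenvalue (f.restrict hf)
  obtain ⟨⟨v, hv⟩, h⟩ := ha.exists_hasEigenvector
  exact ⟨v, hv, fun e => h.2 (Subtype.ext e), a, congrArg Subtype.val h.apply_eq_smul⟩

/-- In a fixed-point-free group commuting elements lie in one cyclic group. -/
theorem mem_zpowers_of_commute [IsAlgClosed F] [FiniteDimensional F V] [Nontrivial V] [Finite G]
    (hρ : FixedFree ρ) {a b : G} (hab : a * b = b * a) (hd : orderOf b ∣ orderOf a) :
    b ∈ Subgroup.zpowers a := by
  obtain ⟨α, hα⟩ := Module.End.exists_eigenvalue (ρ a)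
  set W := Module.End.eigenspace (ρ a) α
  have hW : W ≠ ⊥ := hα
  obtain ⟨v, hvW, hv, β, hβ⟩ := exists_eigen (ρ b) hW fun w hw => by
    rw [Module.End.mem_eigenspace_iff] at hw ⊢
    rw [← apply_mul, hab, apply_mul, hw, map_smul]
  have hav : ρ a v = α • v := Module.End.mem_eigenspace_iff.mp hvW
  haveI : NeZero (orderOf a) := ⟨(orderOf_pos a).ne'⟩
  have hprim : IsPrimitiveRoot α (orderOf a) := by
    refine ⟨?_, fun k hk => orderOf_dvd_of_pow_eq_one (hρ.eq_one hv ?_)⟩
    · have := pow_eigen hav (orderOf a)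
      rw [pow_orderOf_eq_one, apply_one] at this
      exact (smul_left_injective F hv ((one_smul F v).trans this)).symm
    · rw [pow_eigen hav, hk, one_smul]
  have hβ1 : β ^ orderOf a = 1 := by
    have := pow_eigen hβ (orderOf a)
    rw [orderOf_dvd_iff_pow_eq_one.mp hd, apply_one] at this
    exact (smul_left_injective F hv ((one_smul F v).trans this)).symm
  obtain ⟨k, -, hk⟩ := hprim.eq_pow_of_pow_eq_one hβ1
  rw [hρ.eq_of_apply_eq hv (g := b) (h := a ^ k) (by rw [hβ, pow_eigen hav, hk])]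
  exact Subgroup.npow_mem_zpowers a k

end FixedFree

end Cfsg.Agent.Lib.Frobenius.Zassenhaus
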