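import Mathlib.NumberTheory.LSeries.PrimesInAP
import Mathlib.NumberTheory.LegendreSymbol.QuadraticReciprocity
import Mathlib.NumberTheory.GaussSum
import Mathlib.NumberTheory.Cyclotomic.Basic
import Mathlib.NumberTheory.Cyclotomic.PrimitiveRoots
import Mathlib.FieldTheory.Finite.Basic
import Mathlib.RingTheory.Polynomial.Cyclotomic.Roots
import Mathlib.Algebra.Polynomial.OfFn

/-!
Quaternion relations in a division ring: what cannot commute with two anticommuting square roots of `-1`.
-/

set_option autoImplicit false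
set_option linter.style.haveILetI false

namespace Cfsg.Agent.Lib.Frobenius.Zassenhaus.DivisionRing

open Polynomial

section Ring

variable {D : Type*} [DivisionRing D]

theorem two_commute (y : D) : Commute (2 : D) y := by
  rw [← one_add_one_eq_two]
  exact (Commute.one_left y).add_left (Commute.one_left y)

theorem eq_of_mul_self_eq {a b : D} (hab : Commute a b) (h : a * a = b * b) : a = b ∨ a = -b :=
  hab.mul_self_eq_mul_self_iff.mp h

/-- A norm equal to `-1` gives a zero divisor. -/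
theorem false_of_norm {X w a b n : D} (h2 : (2 : D) ≠ 0) (hwX : w * X = -(X * w)) (hX : X ≠ 0)
    (hw : w * w = -1) (hn : X * X = -n) (haX : Commute a X) (haw : Commute a w) (hbX : Commute b X)
    (hbw : Commute b w) (hab : Commute a b) (h : a * a + n * (b * b) = -1) : False := by
  set Z := a + b * X
  set Z' := a - b * X
  have hwZ : w * Z = Z' * w := by
    simp only [Z, Z', mul_add, sub_mul]
    rw [← haw.eq, ← mul_assoc w b X, ← hbw.eq, mul_assoc b w X, hwX, mul_neg, ← mul_assoc, sub_eq_add_neg]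
  have hZZ : Z * Z' = -1 := by
    have hc : Commute a (b * X) := hab.mul_right haX
    have hsq : b * X * (b * X) = -(n * (b * b)) := by
      rw [← mul_assoc, mul_assoc b X b, ← hbX.eq, ← mul_assoc, mul_assoc (b * b) X X, hn]
      have : Commute n (b * b) := by
        have e : Commute (X * X) b := (hbX.symm.mul_left hbX.symm)
        rw [hn] at e
        have e' : Commute n b := by simpa using e.neg_left
        exact e'.mul_right e'
      rw [mul_neg, this.eq]
    rw [show Z * Z' = a * a - b * X * (b * X) by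
      simp only [Z, Z', add_mul, mul_sub]; rw [hc.eq]; abel, hsq, sub_neg_eq_add, h]
  have hsq : (Z * w) * (Z * w) = 1 * 1 := by
    calc Z * w * (Z * w) = Z * (w * Z) * w := by simp only [mul_assoc]
      _ = Z * Z' * (w * w) := by rw [hwZ]; simp only [mul_assoc]
      _ = 1 * 1 := by rw [hZZ, hw, neg_mul_neg]
  have hZX : Commute Z X := haX.add_left (hbX.mul_left (Commute.refl X))
  have hanti : Z * w * X = -(X * (Z * w)) := by
    rw [mul_assoc, hwX, mul_neg, ← mul_assoc, hZX.eq, mul_assoc]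
  have key : X = -X := by
    rcases eq_of_mul_self_eq (Commute.one_right _) hsq with e | e
    · rwa [e, one_mul, mul_one] at hanti
    · rw [e, neg_one_mul, mul_neg_one, neg_neg] at hanti
      exact hanti.symm
  have : (2 : D) * X = 0 := by rw [two_mul]; exact eq_neg_iff_add_eq_zero.mp key
  rcases mul_eq_zero.mp this with e | e
  · exact h2 e
  · exact hX e

theorem false_of_sum_two_squares {i j a b : D} (h2 : (2 : D) ≠ 0) (hi : i * i = -1) (hj : j * j = -1)
    (hij : i * j = -(j * i)) (hai : Commute a i) (haj : Commute a j) (hbi : Commute b i) (hbj : Commute b j)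
    (hab : Commute a b) (h : a * a + b * b = -1) : False :=
  false_of_norm (X := i) (w := j) (n := 1) h2 (by rw [hij, neg_neg])
    (fun e => by rw [e, mul_zero] at hi; exact neg_ne_zero.mpr one_ne_zero hi.symm) hj
    hi hai haj hbi hbj hab (by rw [one_mul]; exact h)

theorem charZero_of_quaternion {i j : D} (h2 : (2 : D) ≠ 0) (hi : i * i = -1) (hj : j * j = -1)
    (hij : i * j = -(j * i)) : CharZero D := by
  by_contra hc
  obtain ⟨p, hp⟩ := CharP.exists D
  rcases CharP.char_is_prime_or_zero D p with hpp | rfl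
  swap
  · exact hc (CharP.charP_to_charZero D)
  haveI := Fact.mk hpp
  obtain ⟨a, b, hab⟩ := ZMod.sq_add_sq p (-1)
  set f := ZMod.castHom (dvd_refl p) D
  have hcast : ∀ (x : ZMod p) (y : D), Commute (f x) y := fun x y => by
    rw [← ZMod.natCast_zmod_val x, map_natCast]
    exact Nat.cast_commute _ y
  refine false_of_sum_two_squares h2 hi hj hij (hcast a i) (hcast a j) (hcast b i) (hcast b j) (hcast a _) ?_
  rw [← map_mul, ← map_mul, ← map_add, ← pow_two, ← pow_two, hab, map_neg, map_one]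

/-- Two commuting square roots of the same element, one of them not central to `i`. -/
theorem false_of_sq_eq {i x m : D} (hxm : Commute x m) (hxi : Commute x i) (h : x * x = m * m)
    (hmi : ¬ Commute m i) : False := by
  rcases eq_of_mul_self_eq hxm h with e | e
  · exact hmi (e ▸ hxi)
  · exact hmi (by rw [show m = -x by rw [e, neg_neg]]; exact hxi.neg_left)

theorem quaternion_facts {i j : D} (hi : i * i = -1) (hj : j * j = -1) (hij : i * j = -(j * i)) :
    i * (i * j) = -j ∧ i * j * i = j ∧ j * (i * j) = i ∧ i * j * j = -i ∧ i * j * (i * j) = -1 := by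
  have h1 : i * (i * j) = -j := by rw [← mul_assoc, hi, neg_one_mul]
  have h2 : i * j * i = j := by
    rw [hij, neg_mul, mul_assoc, hi, mul_neg_one, neg_neg]
  have h3 : j * (i * j) = i := by
    rw [hij, mul_neg, ← mul_assoc, hj, neg_one_mul, neg_neg]
  have h4 : i * j * j = -i := by rw [mul_assoc, hj, mul_neg_one]
  refine ⟨h1, h2, h3, h4, ?_⟩
  rw [← mul_assoc, h2, hj]

/-- An element of order eight normalising the quaternions and moving `√5`. -/
theorem false_of_octahedral {i j u s : D} (h2 : (2 : D) ≠ 0) (hi : i * i = -1) (hj : j * j = -1)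
    (hij : i * j = -(j * i)) (hu : u * u = i) (huj : u * j = i * j * u ∨ u * j = -(i * j * u))
    (hs : s * s = 5) (hsi : Commute s i) (hsj : Commute s j) (hus : u * s = -(s * u)) : False := by
  obtain ⟨h1, h3, h4, h5, h6⟩ := quaternion_facts hi hj hij
  have hiu : Commute i u := by rw [← hu]; exact (Commute.refl u).mul_left (Commute.refl u)
  have hji : j * i = -(i * j) := by rw [hij, neg_neg]
  set k := i * j
  obtain ⟨e, he, hue⟩ : ∃ e : D, (e = 1 ∨ e = -1) ∧ u * j = e * (k * u) := by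
    rcases huj with h | h
    · exact ⟨1, Or.inl rfl, by rw [one_mul]; exact h⟩
    · exact ⟨-1, Or.inr rfl, by rw [neg_one_mul]; exact h⟩
  have he1 : e * e = 1 := by rcases he with rfl | rfl <;> norm_num
  have hec : ∀ y : D, Commute e y := fun y => by
    rcases he with rfl | rfl
    · exact Commute.one_left y
    · exact Commute.neg_one_left y
  set δ := u * (1 - e * i)
  have hei : Commute i (1 - e * i) := (Commute.one_right i).sub_right ((hec i).symm.mul_right (Commute.refl i))
  have hδi : Commute δ i := (hiu.mul_right hei).symm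
  have hδj : Commute δ j := by
    have hL : δ * j = e * (k * u) + k * i * u := by
      calc δ * j = u * j - e * (u * (i * j)) := by
            simp only [δ, mul_sub, sub_mul, mul_one, mul_assoc]
            rw [← mul_assoc u e, ← (hec u).eq, mul_assoc]
        _ = u * j + e * (u * j * i) := by
            rw [show i * j = -(j * i) from hij, mul_neg, mul_neg, sub_neg_eq_add, ← mul_assoc u j i]
        _ = e * (k * u) + k * i * u := by
            rw [hue, mul_assoc e (k * u) i, ← mul_assoc e e, he1, one_mul, mul_assoc k u i, ← hiu.eq]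
            simp only [mul_assoc]
    have hR : j * δ = j * u + e * (k * u) := by
      calc j * δ = j * u - e * (j * (u * i)) := by
            simp only [δ, mul_sub, mul_one]
            rw [← mul_assoc u e, ← (hec u).eq, mul_assoc, ← mul_assoc j e, ← (hec j).eq, mul_assoc]
        _ = j * u + e * (k * u) := by
            rw [← hiu.eq, ← mul_assoc j i u, hji, neg_mul, mul_neg, sub_neg_eq_add]
    show δ * j = j * δ
    rw [hL, hR, h3, add_comm]
  have hδδ : δ * δ = 2 * e := by
    calc δ * δ = u * u * ((1 - e * i) * (1 - e * i)) := by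
          simp only [δ, mul_assoc]
          rw [← mul_assoc (1 - e * i) u, ((Commute.one_left u).sub_left ((hec u).mul_left hiu)).eq, mul_assoc]
      _ = i * (-(2 * (e * i))) := by
          rw [hu]
          congr 1
          have hee : e * i * (e * i) = -1 := by
            rw [mul_assoc, ← mul_assoc i e, ← (hec i).eq, mul_assoc e i i, hi, ← mul_assoc, he1, one_mul]
          rw [sub_mul, one_mul, mul_sub, mul_one, hee, two_mul]
          abel
      _ = 2 * e := by
          rw [mul_neg, ← mul_assoc, ← (two_commute i).eq, mul_assoc, ← mul_assoc i e,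
            ← (hec i).eq, mul_assoc, hi, mul_neg_one, mul_neg, neg_neg]
  have hik : Commute δ k := hδi.mul_right hδj
  rcases he with rfl | rfl
  · -- `s + δ + sδ` squares to `-3`
    have hsu : δ * s = -(s * δ) := by
      simp only [δ, mul_assoc]
      rw [show (1 - (1 : D) * i) * s = s * (1 - 1 * i) from
        ((Commute.one_left s).sub_left ((Commute.one_left s).mul_left hsi.symm)).eq,
        ← mul_assoc, hus, neg_mul, mul_assoc]
    have h2' : δ * δ = 2 := by rw [hδδ, mul_one]
    set x := s + δ + s * δ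
    have hx : x * x = -3 := by
      have a1 : δ * (s * δ) = -(2 * s) := by
        rw [← mul_assoc, hsu, neg_mul, mul_assoc, h2', ← Nat.cast_ofNat, ← (Nat.cast_commute 2 s).eq]
      have a2 : s * δ * s = -(5 * δ) := by rw [mul_assoc, hsu, mul_neg, ← mul_assoc, hs]
      have a3 : s * (s * δ) = 5 * δ := by rw [← mul_assoc, hs]
      have a4 : s * δ * δ = 2 * s := by rw [mul_assoc, h2', ← Nat.cast_ofNat, ← (Nat.cast_commute 2 s).eq]
      have a5 : s * δ * (s * δ) = -10 := by rw [← mul_assoc, a2, neg_mul, mul_assoc, h2']; norm_num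
      simp only [x, add_mul, mul_add, hs, h2', hsu, a1, a2, a3, a4, a5]
      abel_nf
      norm_num
    set m := i + j + k
    have hm : m * m = -3 := by
      have b1 : j * k = i := h4
      have b2 : k * j = -i := h5
      have b3 : i * k = -j := h1
      have b4 : k * i = j := h3
      simp only [m, add_mul, mul_add, hi, hj, h6, hji, b1, b2, b3, b4, show i * j = k from rfl]
      abel_nf
      norm_num
    have hxi : Commute x i := (hsi.add_left hδi).add_left (hsi.mul_left hδi)
    have hxj : Commute x j := (hsj.add_left hδj).add_left (hsj.mul_left hδj)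
    refine false_of_sq_eq ((hxi.add_right hxj).add_right (hxi.mul_right hxj)) hxi (hx.trans hm.symm) fun hc => ?_
    have hc' := hc.eq
    simp only [m, add_mul, mul_add, hi, hji, h1, h3, show i * j = k from rfl] at hc'
    have : (2 : D) * (j - k) = 0 := by
      rw [two_mul]
      have := sub_eq_zero.mpr hc'
      abel_nf at this ⊢
      exact this
    rcases mul_eq_zero.mp this with h | h
    · exact h2 h
    · have hjk : j = k := sub_eq_zero.mp h
      have := h4
      rw [← hjk, hj] at this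
      rw [← this] at hi
      rw [neg_mul_neg, one_mul] at hi
      exact h2 (by rw [← one_add_one_eq_two]; nth_rewrite 1 [hi]; exact neg_add_cancel 1)
  · -- `δ` is a square root of `-2`
    have hsq : δ * δ = (i + j) * (i + j) := by
      rw [hδδ, mul_neg_one]
      simp only [add_mul, mul_add, hi, hj, hji]
      rw [← one_add_one_eq_two]
      abel
    refine false_of_sq_eq (hδi.add_right hδj) hδi hsq fun hc => ?_
    have hc' := hc.eq
    simp only [add_mul, mul_add, hi, hji, show i * j = k from rfl] at hc'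
    have : (2 : D) * k = 0 := by
      rw [two_mul]
      have := sub_eq_zero.mpr hc'.symm
      abel_nf at this ⊢
      exact this
    rcases mul_eq_zero.mp this with h | h
    · exact h2 h
    · rw [h, mul_zero] at h6; exact neg_ne_zero.mpr one_ne_zero h6.symm

end Ring

section Arith

theorem five_facts : ¬ IsSquare (3 : ZMod 5) ∧ (∀ u : ZMod 5, u * u ≠ 3 ∧ u * u ≠ 2) ∧
    (3 : ZMod 5) * ((4 : ℤ) : ZMod 5) = 2 := by decide +kernel

theorem exists_prime {q : ℕ} (hq : q.Prime) (hq2 : q ≠ 2) (hq5 : q ≠ 5) :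
    ∃ ℓ : ℕ, ℓ.Prime ∧ ℓ % 20 = 3 ∧ q ∣ ℓ + 1 := by
  have hco : Nat.Coprime 20 q := by
    rw [show (20 : ℕ) = 2 ^ 2 * 5 from rfl, Nat.coprime_mul_iff_left]
    exact ⟨((Nat.coprime_primes Nat.prime_two hq).mpr (Ne.symm hq2)).pow_left 2,
      (Nat.coprime_primes Nat.prime_five hq).mpr (Ne.symm hq5)⟩
  obtain ⟨a, ha1, ha2⟩ := Nat.chineseRemainder hco 3 (q - 1)
  haveI : NeZero (20 * q) := ⟨mul_ne_zero (by norm_num) hq.ne_zero⟩
  have hunit : IsUnit (a : ZMod (20 * q)) := by
    rw [ZMod.isUnit_iff_coprime]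
    refine Nat.Coprime.mul_right ?_ ?_
    · show Nat.gcd a 20 = 1
      rw [Nat.gcd_comm, Nat.gcd_rec, ha1]; rfl
    · rw [Nat.coprime_comm, hq.coprime_iff_not_dvd]
      intro h
      have h1 : q ∣ q - 1 := (Nat.ModEq.dvd_iff ha2 (dvd_refl q)).mp h
      have := Nat.le_of_dvd (by have := hq.two_le; omega) h1
      have := hq.two_le
      omega
  obtain ⟨ℓ, -, hℓ, hℓa⟩ := Nat.forall_exists_prime_gt_and_eq_mod hunit 0
  rw [ZMod.natCast_eq_natCast_iff'] at hℓa
  have h20 : ℓ % 20 = a % 20 := by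
    rw [← Nat.mod_mul_right_mod ℓ 20 q, hℓa, Nat.mod_mul_right_mod]
  have hqm : ℓ % q = a % q := by
    rw [← Nat.mod_mul_left_mod ℓ 20 q, hℓa, Nat.mod_mul_left_mod]
  refine ⟨ℓ, hℓ, by rw [h20, ha1], ?_⟩
  rw [Nat.dvd_iff_mod_eq_zero, Nat.add_mod, hqm, ha2, Nat.mod_add_mod, Nat.add_mod_mod,
    Nat.sub_add_cancel hq.one_le, Nat.mod_self]

theorem exists_two_mul {ℓ : ℕ} (hℓ : ℓ.Prime) (h : ℓ % 20 = 3) : ∃ A B : ℤ, A ^ 2 + 5 * B ^ 2 = 2 * ℓ := by
  haveI := Fact.mk hℓ
  haveI : Fact (Nat.Prime 5) := ⟨Nat.prime_five⟩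
  have h4 : ℓ % 4 = 3 := by omega
  have hℓ2 : ℓ ≠ 2 := by omega
  have hℓ5 : (ℓ : ZMod 5) = 3 := by
    rw [← ZMod.natCast_mod, show ℓ % 5 = 3 by omega]; rfl
  have hn5 : ¬ IsSquare (5 : ZMod ℓ) := by
    have := (ZMod.exists_sq_eq_prime_iff_of_mod_four_eq_one (p := 5) (q := ℓ) (by norm_num) hℓ2)
    rw [hℓ5] at this
    intro hs
    have h3 : IsSquare (3 : ZMod 5) := this.mpr (by exact_mod_cast hs)
    exact five_facts.1 h3
  have hn1 : ¬ IsSquare (-1 : ZMod ℓ) := fun hs => (ZMod.exists_sq_eq_neg_one_iff.mp hs) h4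
  obtain ⟨r, hr⟩ : IsSquare (-5 : ZMod ℓ) := by
    have e1 := quadraticChar_neg_one_iff_not_isSquare.mpr hn1
    have e5 := quadraticChar_neg_one_iff_not_isSquare.mpr hn5
    have h5 : (-5 : ZMod ℓ) ≠ 0 := by
      intro e
      rw [neg_eq_zero, show (5 : ZMod ℓ) = ((5 : ℕ) : ZMod ℓ) by norm_num, ZMod.natCast_eq_zero_iff] at e
      have := (Nat.prime_dvd_prime_iff_eq hℓ Nat.prime_five).mp e
      omega
    refine (quadraticChar_one_iff_isSquare h5).mp ?_
    rw [show (-5 : ZMod ℓ) = -1 * 5 by ring, map_mul, e1, e5]; norm_num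
  -- two small pairs with the same value
  set n := Nat.sqrt ℓ with hn
  have hlt : ℓ < (n + 1) * (n + 1) := Nat.lt_succ_sqrt ℓ
  have hnn : n * n < ℓ := by
    refine lt_of_le_of_ne (Nat.sqrt_le ℓ) fun e => ?_
    rcases hℓ.eq_one_or_self_of_dvd n (Dvd.intro n e) with h1 | h1
    · rw [h1] at e; omega
    · rw [h1] at e
      nlinarith [hℓ.two_le]
  have hni : ¬ Function.Injective (fun t : Fin (n + 1) × Fin (n + 1) => ((t.1 : ℕ) : ZMod ℓ) - r * ((t.2 : ℕ) : ZMod ℓ)) := by
    intro hinj
    have := Fintype.card_le_of_injective _ hinj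
    rw [Fintype.card_prod, Fintype.card_fin, ZMod.card] at this
    omega
  rw [Function.not_injective_iff] at hni
  obtain ⟨⟨a, b⟩, ⟨a', b'⟩, heq, hne⟩ := hni
  set x : ℤ := (a : ℕ) - (a' : ℕ) with hx
  set y : ℤ := (b : ℕ) - (b' : ℕ) with hy
  have hxy : x ≠ 0 ∨ y ≠ 0 := by
    by_contra hcon
    push Not at hcon
    refine hne (Prod.ext (Fin.ext ?_) (Fin.ext ?_))
    · show (a : ℕ) = a'; omega
    · show (b : ℕ) = b'; omega
  have hdvd : (ℓ : ℤ) ∣ x ^ 2 + 5 * y ^ 2 := by
    rw [← ZMod.intCast_zmod_eq_zero_iff_dvd]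
    have hxr : (x : ZMod ℓ) = r * (y : ZMod ℓ) := by
      simp only [hx, hy]
      push_cast
      linear_combination heq
    push_cast
    rw [hxr]
    linear_combination (y : ZMod ℓ) ^ 2 * hr.symm
  obtain ⟨k, hk⟩ := hdvd
  have hxb : x ^ 2 ≤ (n : ℤ) * n := by nlinarith [a.2, a'.2]
  have hyb : y ^ 2 ≤ (n : ℤ) * n := by nlinarith [b.2, b'.2]
  have hnn' : (n : ℤ) * n < ℓ := by exact_mod_cast hnn
  have hpos : 0 < x ^ 2 + 5 * y ^ 2 := by
    rcases hxy with h | h <;> nlinarith [sq_pos_iff.mpr h, sq_nonneg x, sq_nonneg y]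
  have hk0 : 0 < k := by
    by_contra hle
    push Not at hle
    nlinarith
  have hk6 : k < 6 := by
    by_contra hle
    push Not at hle
    nlinarith
  have key5 := five_facts.2.1
  have cast5 : ∀ (u v m : ℤ), u ^ 2 + 5 * v ^ 2 = (ℓ : ℤ) * m → (u : ZMod 5) * u = 3 * (m : ZMod 5) := by
    intro u v m e
    have := congrArg (Int.cast : ℤ → ZMod 5) e
    push_cast at this
    rw [hℓ5, show (5 : ZMod 5) = 0 from rfl, zero_mul, add_zero, pow_two] at this
    exact this
  interval_cases k
  · exact absurd (by simpa using cast5 x y 1 hk) (key5 _).1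
  · exact ⟨x, y, by rw [hk]; ring⟩
  · -- multiply by `1 + 5` and divide by nine
    have h3 : (3 : ℤ) ∣ x - y ∨ (3 : ℤ) ∣ x + y := by
      have key3 : ∀ u v : ZMod 3, u * u + 2 * (v * v) = 0 → u - v = 0 ∨ u + v = 0 := by decide +kernel
      have := congrArg (Int.cast : ℤ → ZMod 3) hk
      push_cast at this
      rw [show (3 : ZMod 3) = 0 from rfl, mul_zero, show (5 : ZMod 3) = 2 from rfl, pow_two, pow_two] at this
      rcases key3 _ _ this with e | e
      · exact Or.inl ((ZMod.intCast_zmod_eq_zero_iff_dvd _ 3).mp (by push_cast; exact e))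
      · exact Or.inr ((ZMod.intCast_zmod_eq_zero_iff_dvd _ 3).mp (by push_cast; exact e))
    rcases h3 with ⟨t, ht⟩ | ⟨t, ht⟩
    · refine ⟨2 * y + t, t, ?_⟩
      rw [show x = y + 3 * t by linarith] at hk
      nlinarith
    · refine ⟨-2 * y + t, t, ?_⟩
      rw [show x = -y + 3 * t by linarith] at hk
      nlinarith
  · exact absurd (by simpa using (cast5 x y 4 hk).trans five_facts.2.2) (key5 _).2
  · have h5x : (5 : ℤ) ∣ x := by
      have := cast5 x y 5 hk
      rw [show ((5 : ℤ) : ZMod 5) = 0 from rfl, mul_zero, mul_self_eq_zero] at this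
      exact (ZMod.intCast_zmod_eq_zero_iff_dvd _ 5).mp this
    obtain ⟨t, ht⟩ := h5x
    rw [ht] at hk
    exact absurd (by simpa using cast5 y t 1 (by linarith)) (key5 _).1

/-- Gauss's formula for `4 Φ_ℓ`. -/
theorem cyclotomic_split {ℓ : ℕ} [hℓ : Fact ℓ.Prime] (h4 : ℓ % 4 = 3) :
    ∃ a b : ℚ[X], a ^ 2 + C (ℓ : ℚ) * b ^ 2 = cyclotomic ℓ ℚ := by
  classical
  have hℓ2 : ℓ ≠ 2 := by omega
  haveI : NeZero ℓ := ⟨hℓ.out.ne_zero⟩
  haveI : NeZero (ℓ : ℚ) := ⟨by exact_mod_cast hℓ.out.ne_zero⟩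
  letI : Algebra ℚ (CyclotomicField ℓ ℚ) := CyclotomicField.algebra ℓ ℚ
  haveI : IsCyclotomicExtension {ℓ} ℚ (CyclotomicField ℓ ℚ) := CyclotomicField.isCyclotomicExtension ℓ ℚ
  have hζ := IsCyclotomicExtension.zeta_spec ℓ ℚ (CyclotomicField ℓ ℚ)
  set ζ := IsCyclotomicExtension.zeta ℓ ℚ (CyclotomicField ℓ ℚ)
  set χ : MulChar (ZMod ℓ) (CyclotomicField ℓ ℚ) := (quadraticChar (ZMod ℓ)).ringHomComp (algebraMap ℤ (CyclotomicField ℓ ℚ))
  have hχ : χ ≠ 1 := (MulChar.ringHomComp_ne_one_iff (algebraMap ℤ (CyclotomicField ℓ ℚ)).injective_int).mpr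
    (quadraticChar_ne_one (by rw [ZMod.ringChar_zmod_n]; exact hℓ2))
  set g := gaussSum χ (AddChar.zmodChar ℓ ((IsPrimitiveRoot.iff_def ζ ℓ).mp hζ).left)
  have hg : g ^ 2 = -(ℓ : (CyclotomicField ℓ ℚ)) := by
    rw [gaussSum_sq hχ ((quadraticChar_isQuadratic (ZMod ℓ)).comp _)
      (AddChar.zmodChar_primitive_of_primitive_root ℓ hζ), ZMod.card]
    show algebraMap ℤ (CyclotomicField ℓ ℚ) (quadraticChar (ZMod ℓ) (-1)) * _ = _
    rw [quadraticChar_neg_one_iff_not_isSquare.mpr fun hs => (ZMod.exists_sq_eq_neg_one_iff.mp hs) h4]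
    simp
  set m := (ℓ - 1) / 2
  have hm : 2 * m = ℓ - 1 := by omega
  have hmin : cyclotomic ℓ ℚ = minpoly ℚ ζ := cyclotomic_eq_minpoly_rat hζ hℓ.out.pos
  have hdeg : (cyclotomic ℓ ℚ).natDegree = ℓ - 1 := by
    rw [natDegree_cyclotomic, Nat.totient_prime hℓ.out]
  have hsmall : ∀ T : ℚ[X], T.degree < (2 * m : ℕ) → aeval ζ T = 0 → T = 0 := by
    intro T hT h0
    by_contra hne
    have h1 := minpoly.degree_le_of_ne_zero ℚ ζ hne h0
    rw [← hmin, degree_eq_natDegree (cyclotomic_ne_zero ℓ ℚ), hdeg, ← hm] at h1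
    exact absurd (h1.trans_lt hT) (lt_irrefl _)
  have hroot : ∀ a b : ℚ[X], aeval ζ a + g * aeval ζ b = 0 →
      aeval ζ (a ^ 2 + C (ℓ : ℚ) * b ^ 2) = 0 := by
    intro a b h
    rw [map_add, map_mul, map_pow, map_pow, aeval_C, map_natCast, eq_neg_of_add_eq_zero_left h,
      neg_sq, mul_pow, hg]
    ring
  let V := degreeLT ℚ m
  let Φ : (V × V) →ₗ[ℚ] (CyclotomicField ℓ ℚ) :=
    ((aeval ζ).toLinearMap.comp V.subtype).coprod ((LinearMap.mulLeft ℚ g).comp ((aeval ζ).toLinearMap.comp V.subtype))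
  have hΦ : ∀ t, Φ t = aeval ζ (t.1 : ℚ[X]) + g * aeval ζ (t.2 : ℚ[X]) := fun t => rfl
  have hinj : Function.Injective Φ := by
    rw [← LinearMap.ker_eq_bot, LinearMap.ker_eq_bot']
    rintro ⟨⟨a, ha⟩, ⟨b, hb⟩⟩ h
    rw [hΦ] at h
    rw [mem_degreeLT] at ha hb
    have hT : a ^ 2 + C (ℓ : ℚ) * b ^ 2 = 0 := by
      refine hsmall _ ?_ (hroot a b h)
      refine (degree_add_le _ _).trans_lt (max_lt ?_ ?_)
      · rcases eq_or_ne a 0 with rfl | h0
        · rw [zero_pow two_ne_zero, degree_zero]; exact WithBot.bot_lt_coe _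
        · rw [degree_eq_natDegree (pow_ne_zero _ h0), natDegree_pow]
          rw [degree_eq_natDegree h0, Nat.cast_lt] at ha
          exact_mod_cast (by omega : 2 * a.natDegree < 2 * m)
      · rw [degree_C_mul (by exact_mod_cast hℓ.out.ne_zero : (ℓ : ℚ) ≠ 0)]
        rcases eq_or_ne b 0 with rfl | h0
        · rw [zero_pow two_ne_zero, degree_zero]; exact WithBot.bot_lt_coe _
        · rw [degree_eq_natDegree (pow_ne_zero _ h0), natDegree_pow]
          rw [degree_eq_natDegree h0, Nat.cast_lt] at hb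
          exact_mod_cast (by omega : 2 * b.natDegree < 2 * m)
    have hz : ∀ r : ℚ, a.eval r = 0 ∧ b.eval r = 0 := by
      intro r
      have h1 := congrArg (eval r) hT
      simp only [eval_add, eval_mul, eval_pow, eval_C, eval_zero] at h1
      have hl : (0 : ℚ) < ℓ := by exact_mod_cast hℓ.out.pos
      obtain ⟨e1, e2⟩ := (add_eq_zero_iff_of_nonneg (sq_nonneg _) (mul_nonneg hl.le (sq_nonneg _))).mp h1
      exact ⟨pow_eq_zero_iff two_ne_zero |>.mp e1,
        pow_eq_zero_iff two_ne_zero |>.mp ((mul_eq_zero.mp e2).resolve_left hl.ne')⟩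
    have ha0 : a = 0 := funext fun r => by rw [(hz r).1, eval_zero]
    have hb0 : b = 0 := funext fun r => by rw [(hz r).2, eval_zero]
    simp [ha0, hb0]
  haveI : FiniteDimensional ℚ V := Module.Finite.equiv (degreeLTEquiv ℚ m).symm
  have hsurj : Function.Surjective Φ := by
    refine (LinearMap.injective_iff_surjective_of_finrank_eq_finrank ?_).mp hinj
    rw [Module.finrank_prod, (degreeLTEquiv ℚ m).finrank_eq, Module.finrank_fin_fun,
      IsCyclotomicExtension.finrank (CyclotomicField ℓ ℚ) (cyclotomic.irreducible_rat hℓ.out.pos), Nat.totient_prime hℓ.out]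
    omega
  obtain ⟨⟨⟨a₀, ha⟩, ⟨b, hb⟩⟩, hab⟩ := hsurj (-(ζ ^ m))
  rw [hΦ] at hab
  rw [mem_degreeLT] at ha hb
  set a := X ^ m + a₀
  have hmon : a.Monic := monic_X_pow_add ha
  have hadeg : a.natDegree = m := by
    apply natDegree_eq_of_degree_eq_some
    rw [degree_add_eq_left_of_degree_lt (by rwa [degree_X_pow]), degree_X_pow]
  refine ⟨a, b, ?_⟩
  have hlt : (C (ℓ : ℚ) * b ^ 2).degree < (a ^ 2).degree := by
    rw [degree_eq_natDegree (pow_ne_zero 2 hmon.ne_zero), natDegree_pow, hadeg]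
    rw [degree_C_mul (by exact_mod_cast hℓ.out.ne_zero : (ℓ : ℚ) ≠ 0)]
    rcases eq_or_ne b 0 with rfl | h0
    · rw [zero_pow two_ne_zero, degree_zero]; exact WithBot.bot_lt_coe _
    · rw [degree_eq_natDegree (pow_ne_zero _ h0), natDegree_pow]
      rw [degree_eq_natDegree h0, Nat.cast_lt] at hb
      exact_mod_cast (by omega : 2 * b.natDegree < 2 * m)
  have hTm : (a ^ 2 + C (ℓ : ℚ) * b ^ 2).Monic := (hmon.pow 2).add_of_left hlt
  have hTz : aeval ζ (a ^ 2 + C (ℓ : ℚ) * b ^ 2) = 0 := hroot a b (by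
    rw [map_add, map_pow, aeval_X]; linear_combination hab)
  refine eq_of_monic_of_dvd_of_natDegree_le (cyclotomic.monic ℓ ℚ) hTm (hmin ▸ minpoly.dvd ℚ ζ hTz) ?_
  rw [hdeg, natDegree_eq_of_degree_eq (degree_add_eq_left_of_degree_lt hlt), natDegree_pow, hadeg]
  omega

end Arith

theorem commute_aeval {D : Type*} [Ring D] [Algebra ℚ D] {c x : D} (h : Commute c x) (p : ℚ[X]) :
    Commute (aeval c p) x := by
  induction p using Polynomial.induction_on with
  | C r => rw [aeval_C]; exact Algebra.commutes r x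
  | add p q hp hq => rw [map_add]; exact hp.add_left hq
  | monomial n r _ => rw [map_mul, map_pow, aeval_C, aeval_X]; exact (show Commute _ x from Algebra.commutes r x).mul_left (h.pow_left _)

/-- No element of odd prime order other than five commutes with `i`, `j` and `√5`. -/
theorem false_of_prime_order {D : Type*} [DivisionRing D] {i j s c : D} (h2 : (2 : D) ≠ 0)
    (hi : i * i = -1) (hj : j * j = -1) (hij : i * j = -(j * i))
    (hs : s * s = 5) (hsi : Commute s i) (hsj : Commute s j)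
    {q : ℕ} (hq : q.Prime) (hq2 : q ≠ 2) (hq5 : q ≠ 5) (hc : c ^ q = 1) (hc1 : c ≠ 1)
    (hci : Commute c i) (hcj : Commute c j) (hcs : Commute c s) : False := by
  haveI := charZero_of_quaternion h2 hi hj hij
  obtain ⟨ℓ, hℓ, h20, hdvd⟩ := exists_prime hq hq2 hq5
  haveI := Fact.mk hℓ
  obtain ⟨A, B, hAB⟩ := exists_two_mul hℓ h20
  obtain ⟨pa, pb, hpab⟩ := cyclotomic_split (ℓ := ℓ) (by omega)
  obtain ⟨e, he⟩ := hdvd
  -- `Φ_ℓ(c) = -c⁻¹`
  have hval : aeval c (cyclotomic ℓ ℚ) * (c * (c - 1)) = -(c - 1) := by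
    have hg : aeval c (cyclotomic ℓ ℚ) * (c - 1) = c ^ ℓ - 1 := by
      have := congrArg (aeval c) (cyclotomic_prime_mul_X_sub_one ℚ ℓ)
      simpa [map_mul, map_sub, map_pow] using this
    calc aeval c (cyclotomic ℓ ℚ) * (c * (c - 1)) = aeval c (cyclotomic ℓ ℚ) * (c - 1) * c := by
          rw [mul_assoc, ((Commute.refl c).sub_right (Commute.one_right c)).eq]
      _ = c ^ ℓ * c - c := by rw [hg, sub_mul, one_mul]
      _ = -(c - 1) := by rw [← pow_succ, he, pow_mul, hc, one_pow]; abel
  have hPhi : aeval c (cyclotomic ℓ ℚ) * c = -1 := by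
    apply mul_right_cancel₀ (sub_ne_zero.mpr hc1)
    rw [mul_assoc, hval, neg_one_mul]
  -- a square root of `c`
  obtain ⟨t, ht⟩ : ∃ t, q = 2 * t + 1 := hq.odd_of_ne_two hq2
  set d := c ^ (t + 1)
  have hd : d * d = c := by
    rw [← pow_add, show t + 1 + (t + 1) = q + 1 by omega, pow_succ, hc, one_mul]
  set a := d * aeval c pa
  set b := d * aeval c pb
  have hcd : ∀ x : D, Commute c x → Commute d x := fun x h => h.pow_left _
  have hpd : ∀ p : ℚ[X], Commute (aeval c p) d := fun p => commute_aeval ((Commute.refl c).pow_right _) p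
  have hsum : a * a + (ℓ : D) * (b * b) = -1 := by
    have key : ∀ p : ℚ[X], d * aeval c p * (d * aeval c p) = aeval c p * aeval c p * c := fun p => by
      rw [(hpd p).mul_mul_mul_comm d (aeval c p), hd,
        ((commute_aeval (Commute.refl c) p).mul_left (commute_aeval (Commute.refl c) p)).eq]
    have ha : a * a = aeval c pa * aeval c pa * c := key pa
    have hb : b * b = aeval c pb * aeval c pb * c := key pb
    rw [ha, hb, ← mul_assoc, ← add_mul, ← hPhi, ← hpab]
    simp [pow_two]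
  -- a square root of `-ℓ`
  set u : D := (A : D) + s * (B : D)
  set v : D := (A : D) - s * (B : D)
  have hcomm : ∀ x : D, Commute s x → Commute u x ∧ Commute v x := fun x h =>
    ⟨(Int.cast_commute A x).add_left (h.mul_left (Int.cast_commute B x)),
      (Int.cast_commute A x).sub_left (h.mul_left (Int.cast_commute B x))⟩
  have huv : Commute u v := ((hcomm u ((hcomm s (Commute.refl s)).1.symm)).2).symm
  set X := u * i + v * j
  have hX2 : X * X = -(4 * (ℓ : D)) := by
    obtain ⟨hui, hvi⟩ := hcomm i hsi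
    obtain ⟨huj, hvj⟩ := hcomm j hsj
    have e1 : u * i * (u * i) = -(u * u) := by
      rw [mul_assoc, ← mul_assoc i u, ← hui.eq, mul_assoc u i i, hi, mul_neg_one, mul_neg]
    have e2 : v * j * (v * j) = -(v * v) := by
      rw [mul_assoc, ← mul_assoc j v, ← hvj.eq, mul_assoc v j j, hj, mul_neg_one, mul_neg]
    have e3 : u * i * (v * j) = -(v * j * (u * i)) := by
      rw [mul_assoc, ← mul_assoc i v, ← hvi.eq, mul_assoc v i j, mul_assoc v j, ← mul_assoc j u, ← huj.eq,
        mul_assoc u j i, ← mul_assoc v u, ← mul_assoc u v, huv.eq, hij, mul_neg]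
    have hAB' : ((A * A + 5 * (B * B) : ℤ) : D) = ((2 * ℓ : ℤ) : D) := by
      rw [← hAB]; congr 1; ring
    push_cast at hAB'
    have e4 : u * u + v * v = 4 * (ℓ : D) := by
      have hsB : s * (B : D) * (s * (B : D)) = 5 * ((B : D) * B) := by
        rw [mul_assoc, ← mul_assoc (B : D) s, (Int.cast_commute B s).eq, mul_assoc s (B : D), ← mul_assoc s s, hs]
      calc u * u + v * v = 2 * ((A : D) * A + 5 * ((B : D) * B)) := by
            simp only [u, v, add_mul, mul_add, sub_mul, mul_sub, hsB, two_mul]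
            abel
        _ = 4 * (ℓ : D) := by rw [hAB', ← mul_assoc]; norm_num
    rw [← e4]
    simp only [X, add_mul, mul_add, e1, e2, e3]
    abel
  have hk : i * j * X = -(X * (i * j)) := by
    obtain ⟨hui, hvi⟩ := hcomm i hsi
    obtain ⟨huj, hvj⟩ := hcomm j hsj
    obtain ⟨q1, q3, q4, q5, -⟩ := quaternion_facts hi hj hij
    simp only [X, mul_add, add_mul, neg_add, mul_assoc u, mul_assoc v]
    rw [← mul_assoc (i * j) u, ← (hui.mul_right huj).eq, ← mul_assoc (i * j) v, ← (hvi.mul_right hvj).eq,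
      mul_assoc u (i * j) i, mul_assoc v (i * j) j, q3, q5, q1, q4, mul_neg, mul_neg, neg_neg]
  have hne : X ≠ 0 := fun e => by
    rw [e, zero_mul, eq_comm, neg_eq_zero] at hX2
    exact mul_ne_zero (by norm_num) (by exact_mod_cast hℓ.ne_zero) hX2
  have hkk := (quaternion_facts hi hj hij).2.2.2.2
  have hh : Commute ((2 : D)⁻¹) b := ((Nat.cast_commute 2 b).inv_left₀ : Commute ((2 : ℕ) : D)⁻¹ b)
  have hcu : Commute c u := ((hcomm c hcs.symm).1).symm
  have hcv : Commute c v := ((hcomm c hcs.symm).2).symm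
  have hcX : Commute c X := (hcu.mul_right hci).add_right (hcv.mul_right hcj)
  have hca : ∀ x : D, Commute c x → Commute a x ∧ Commute b x := fun x h =>
    ⟨(hcd x h).mul_left (commute_aeval h pa), (hcd x h).mul_left (commute_aeval h pb)⟩
  have h2c : ∀ x : D, Commute (2 : D)⁻¹ x := fun x => ((Nat.cast_commute 2 x).inv_left₀ : Commute ((2 : ℕ) : D)⁻¹ x)
  refine false_of_norm (X := X) (w := i * j) (a := a) (b := (2 : D)⁻¹ * b) (n := 4 * (ℓ : D)) h2 hk hne hkk hX2
    (hca X hcX).1 (hca _ (hci.mul_right hcj)).1 ((h2c X).mul_left (hca X hcX).2)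
    ((h2c _).mul_left (hca _ (hci.mul_right hcj)).2) ((h2c a).symm.mul_right ?_) ?_
  · exact (hca b ((hca c (Commute.refl c)).2.symm)).1
  · rw [← hsum]
    congr 1
    have hhalf : (4 : D) * ((2 : D)⁻¹ * (2 : D)⁻¹) = 1 := by
      rw [show (4 : D) = 2 * 2 by norm_num, mul_assoc, ← mul_assoc (2 : D) (2 : D)⁻¹, mul_inv_cancel₀ h2, one_mul,
        mul_inv_cancel₀ h2]
    rw [mul_assoc (2 : D)⁻¹ b, ← mul_assoc b, ← hh.eq, mul_assoc (2 : D)⁻¹ b b,
      ← mul_assoc (2 : D)⁻¹ (2 : D)⁻¹, ((show Commute (4 : D) (ℓ : D) from (Nat.cast_commute ℓ _).symm)).eq, mul_assoc (ℓ : D),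
      ← mul_assoc (4 : D), hhalf, one_mul]

end Cfsg.Agent.Lib.Frobenius.Zassenhaus.DivisionRing
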