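import Cfsg.Agent.Lib.Frobenius.Zassenhaus.Types
import Cfsg.Agent.Lib.Classical.SmallIso
import Mathlib.GroupTheory.Transfer
import Mathlib.GroupTheory.SpecificGroups.Alternating.Simple

/-!
A double cover of `Alt(5)` with a unique involution is `SL(2,5)`.
-/

set_option autoImplicit false
set_option linter.style.haveILetI false
set_option linter.unusedSectionVars false

namespace Cfsg.Agent.Lib.Frobenius.Zassenhaus

open scoped commutatorElement

theorem generators_five : ∃ a b : alternatingGroup (Fin 5), a * a = 1 ∧ a ≠ 1 ∧ b * b * b = 1 ∧ b ≠ 1 ∧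
    (a * b) ^ 5 = 1 ∧ a * b ≠ 1 := by decide +kernel

theorem eq_top_of_235 {a b : alternatingGroup (Fin 5)} (h2 : a * a = 1) (ha : a ≠ 1) (h3 : b * b * b = 1)
    (hb : b ≠ 1) (h5 : (a * b) ^ 5 = 1) (hab : a * b ≠ 1) (H : Subgroup (alternatingGroup (Fin 5)))
    (haH : a ∈ H) (hbH : b ∈ H) : H = ⊤ := by
  have o2 : orderOf a = 2 := by
    haveI : Fact (Nat.Prime 2) := ⟨Nat.prime_two⟩
    exact orderOf_eq_prime (by rw [pow_two, h2]) ha
  have o3 : orderOf b = 3 := by
    haveI : Fact (Nat.Prime 3) := ⟨Nat.prime_three⟩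
    exact orderOf_eq_prime (by rw [pow_three', h3]) hb
  have o5 : orderOf (a * b) = 5 := by
    haveI : Fact (Nat.Prime 5) := ⟨Nat.prime_five⟩
    exact orderOf_eq_prime h5 hab
  have d2 : 2 ∣ Nat.card H := o2 ▸ Subgroup.orderOf_dvd_natCard H haH
  have d3 : 3 ∣ Nat.card H := o3 ▸ Subgroup.orderOf_dvd_natCard H hbH
  have d5 : 5 ∣ Nat.card H := by
    have h := Subgroup.orderOf_dvd_natCard H (mul_mem haH hbH)
    rwa [o5] at h
  have d30 : 30 ∣ Nat.card H := by
    have : Nat.lcm (Nat.lcm 2 3) 5 ∣ Nat.card H := Nat.lcm_dvd (Nat.lcm_dvd d2 d3) d5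
    rwa [show Nat.lcm (Nat.lcm 2 3) 5 = 30 by decide] at this
  have hmul := H.card_mul_index
  rw [card_alt_five] at hmul
  obtain ⟨c, hc⟩ := d30
  by_contra hne
  have hi : H.index = 2 := by
    have hi1 : H.index ≠ 1 := fun e => hne (Subgroup.index_eq_one.mp e)
    have : c * H.index = 2 := by rw [hc] at hmul; linarith
    exact ((Nat.dvd_prime Nat.prime_two).mp (Dvd.intro_left c this)).resolve_left hi1
  haveI := Subgroup.normal_of_index_eq_two hi
  rcases Subgroup.Normal.eq_bot_or_eq_top (G := alternatingGroup (Fin 5)) (H := H) ‹_› with e | e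
  · exact ha (by simpa [e] using haH)
  · exact hne e

theorem commutator_le_two {P : Type*} [Group P] {E : Subgroup P} (hE : E ≤ Subgroup.center P)
    {p q : P} (hpq : ∀ x : P, x ∈ E ∨ p⁻¹ * x ∈ E ∨ q⁻¹ * x ∈ E ∨ (p * q)⁻¹ * x ∈ E)
    (hp : p * p ∈ E) (hq : q * q ∈ E) (hc : ⁅p, q⁆ ∈ E) :
    ∀ x y : P, ⁅x, y⁆ ∈ Subgroup.zpowers ⁅p, q⁆ := by
  have hcen : ∀ e ∈ E, ∀ x : P, e * x = x * e := fun e he x => (Subgroup.mem_center_iff.mp (hE he) x).symm
  set Z := Subgroup.zpowers ⁅p, q⁆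
  have hZc : ∀ c ∈ Z, ∀ x : P, c * x = x * c := fun c hc' x => hcen c (Subgroup.zpowers_le.mpr hc hc') x
  -- the set of elements commuting with a given one modulo `Z` is a subgroup
  have hsub : ∀ (x : P) (S : Set P), (∀ s ∈ S, ⁅x, s⁆ ∈ Z) → ∀ y ∈ Subgroup.closure S, ⁅x, y⁆ ∈ Z := by
    intro x S hS y hy
    induction hy using Subgroup.closure_induction with
    | mem s hs => exact hS s hs
    | one => rw [commutatorElement_one_right]; exact Z.one_mem
    | mul a b _ _ ha hb =>
      have e : ⁅x, a * b⁆ = ⁅x, a⁆ * (a * ⁅x, b⁆ * a⁻¹) := by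
        simp only [commutatorElement_def]; group
      rw [e, ← hZc _ hb a, mul_inv_cancel_right]
      exact Z.mul_mem ha hb
    | inv a _ ha =>
      have e : ⁅x, a⁻¹⁆ = a⁻¹ * ⁅x, a⁆⁻¹ * a := by
        simp only [commutatorElement_def]; group
      rw [e, mul_assoc, hZc _ (Z.inv_mem ha) a, ← mul_assoc, inv_mul_cancel, one_mul]
      exact Z.inv_mem ha
  have hgen : ∀ x : P, x ∈ Subgroup.closure ((E : Set P) ∪ {p, q}) := by
    intro x
    set C := Subgroup.closure ((E : Set P) ∪ {p, q})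
    have he : ∀ e ∈ E, e ∈ C := fun e h => Subgroup.subset_closure (Or.inl h)
    have hpC : p ∈ C := Subgroup.subset_closure (Or.inr (Set.mem_insert _ _))
    have hqC : q ∈ C := Subgroup.subset_closure (Or.inr (Set.mem_insert_of_mem _ rfl))
    rcases hpq x with h | h | h | h
    · exact he x h
    · rw [show x = p * (p⁻¹ * x) by group]; exact mul_mem hpC (he _ h)
    · rw [show x = q * (q⁻¹ * x) by group]; exact mul_mem hqC (he _ h)
    · rw [show x = p * q * ((p * q)⁻¹ * x) by group]; exact mul_mem (mul_mem hpC hqC) (he _ h)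
  have hswap : ∀ x y : P, ⁅x, y⁆ ∈ Z → ⁅y, x⁆ ∈ Z := fun x y h => by
    rw [← commutatorElement_inv]; exact Z.inv_mem h
  have hEx : ∀ e ∈ E, ∀ x : P, ⁅x, e⁆ ∈ Z := fun e he x => by
    rw [commutatorElement_eq_one_iff_commute.mpr (hcen e he x).symm]; exact Z.one_mem
  have hgenpq : ∀ u ∈ (E : Set P) ∪ {p, q}, ∀ s ∈ (E : Set P) ∪ {p, q}, ⁅u, s⁆ ∈ Z := by
    intro u hu s hs
    rcases hs with hs | hs
    · exact hEx s hs u
    rcases hu with hu | hu
    · exact hswap _ _ (hEx u hu s)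
    rcases hu with rfl | rfl <;> rcases hs with rfl | rfl
    · rw [commutatorElement_self]; exact Z.one_mem
    · exact Subgroup.mem_zpowers _
    · exact hswap _ _ (Subgroup.mem_zpowers _)
    · rw [commutatorElement_self]; exact Z.one_mem
  intro x y
  exact hsub x _ (fun s hs => hswap _ _ (hsub s _ (fun u hu => hgenpq s hs u hu) x (hgen x))) y (hgen y)

theorem center_of_cover {U : Type*} [Group U] [Finite U] (h : Ico U) :
    ∃ z : U, z * z = 1 ∧ z ≠ 1 ∧ (∀ k : U, k * k = 1 → k = 1 ∨ k = z) ∧ ∀ g, g * z = z * g := by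
  obtain ⟨hc, f, hf, hker⟩ := h
  have hi := f.ker.card_mul_index
  rw [Subgroup.index_ker, MonoidHom.range_eq_top.mpr hf, Subgroup.card_top, card_alt_five, hc] at hi
  have h2 : Nat.card f.ker = 2 := by omega
  obtain ⟨⟨z, hz⟩, hne, huni⟩ := Nat.card_eq_two_iff' (1 : f.ker) |>.mp h2
  have hz1 : z ≠ 1 := fun e => hne (Subtype.ext e)
  refine ⟨z, (hker z).mp hz, hz1, fun k hk => ?_, fun g => ?_⟩
  · by_cases h1 : k = 1
    · exact Or.inl h1
    · exact Or.inr (congrArg Subtype.val (huni ⟨k, (hker k).mpr hk⟩ fun e => h1 (congrArg Subtype.val e)))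
  · have := congrArg Subtype.val (huni ⟨g * z * g⁻¹, (MonoidHom.normal_ker f).conj_mem z hz g⟩
      fun e => hz1 (by
        have e' := congrArg Subtype.val e
        rwa [Subgroup.coe_one, mul_inv_eq_one, mul_eq_left] at e'))
    exact mul_inv_eq_iff_eq_mul.mp this

theorem lifts {U : Type*} [Group U] [Finite U] {f : U →* alternatingGroup (Fin 5)}
    (hf : Function.Surjective f) (hker : ∀ k, f k = 1 ↔ k * k = 1) {z : U} (hz1 : z ≠ 1) (hz : z * z = 1)
    (hzu : ∀ k : U, k * k = 1 → k = 1 ∨ k = z) (hzc : ∀ g, g * z = z * g)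
    {a b : alternatingGroup (Fin 5)} (h2 : a * a = 1) (ha : a ≠ 1) (h3 : b * b * b = 1)
    (h5 : (a * b) ^ 5 = 1) :
    ∃ α β : U, f α = a ∧ f β = b ∧ α * α = z ∧ β * β * β = 1 ∧ (α * β) ^ 5 = 1 := by
  obtain ⟨α, hα⟩ := hf a
  obtain ⟨β₀, hβ₀⟩ := hf b
  have hα2 : α * α = z := by
    refine (hzu _ ((hker _).mp (by rw [map_mul, hα, h2]))).resolve_left fun e => ha ?_
    rw [← hα]; exact (hker α).mpr e
  set β := β₀ * β₀ * β₀ * β₀
  have hfβ : f β = b := by
    simp only [β, map_mul, hβ₀]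
    rw [h3, one_mul]
  have h6 := (hker (β₀ * β₀ * β₀)).mp (by rw [map_mul, map_mul, hβ₀, h3])
  have hβ3 : β * β * β = 1 := by
    calc β * β * β = (β₀ * β₀ * β₀ * (β₀ * β₀ * β₀)) * (β₀ * β₀ * β₀ * (β₀ * β₀ * β₀)) := by
          simp only [β]; group
      _ = 1 := by rw [h6, one_mul]
  have hfz : f z = 1 := (hker z).mpr hz
  rcases hzu ((α * β) ^ 5) ((hker _).mp (by rw [map_pow, map_mul, hα, hfβ, h5])) with e | e
  · exact ⟨α, β, hα, hfβ, hα2, hβ3, e⟩
  · refine ⟨α * z, β, by rw [map_mul, hα, hfz, mul_one], hfβ, ?_, hβ3, ?_⟩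
    · rw [show α * z * (α * z) = α * (z * α) * z by group, ← hzc α,
        show α * (α * z) * z = (α * α) * (z * z) by group, hα2, hz, mul_one]
    · rw [hzc α, mul_assoc, (show Commute z (α * β) from (hzc _).symm).mul_pow, e, ← pow_succ,
        show 5 + 1 = 2 * 3 from rfl, pow_mul, pow_two, hz, one_pow]

theorem ico_iso {U U' : Type*} [Group U] [Finite U] [Group U'] [Finite U'] (hU : Ico U) (hU' : Ico U') :
    Nonempty (U ≃* U') := by
  classical
  obtain ⟨z, hz, hz1, hzu, hzc⟩ := center_of_cover hU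
  obtain ⟨z', hz', hz1', hzu', hzc'⟩ := center_of_cover hU'
  obtain ⟨hc, f, hf, hker⟩ := hU
  obtain ⟨hc', f', hf', hker'⟩ := hU'
  obtain ⟨a, b, h2, ha, h3, hb, h5, hab⟩ := generators_five
  obtain ⟨α, β, hα, hβ, hα2, hβ3, h10⟩ := lifts hf hker hz1 hz hzu hzc h2 ha h3 h5
  obtain ⟨α', β', hα', hβ', hα2', hβ3', h10'⟩ := lifts hf' hker' hz1' hz' hzu' hzc' h2 ha h3 h5
  set D : Subgroup (U × U') := Subgroup.closure {(α, α'), (β, β')} with hD
  have hA : (α, α') ∈ D := Subgroup.subset_closure (Set.mem_insert _ _)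
  have hB : (β, β') ∈ D := Subgroup.subset_closure (Set.mem_insert_of_mem _ rfl)
  have hzz : (z, z') ∈ D := by
    have h := D.mul_mem hA hA
    rwa [Prod.mk_mul_mk, hα2, hα2'] at h
  set p₁ : D →* U := (MonoidHom.fst U U').comp D.subtype
  set p₂ : D →* U' := (MonoidHom.snd U U').comp D.subtype
  have hp₁ : Function.Surjective p₁ := by
    intro u
    have htop := eq_top_of_235 h2 ha h3 hb h5 hab (f.comp p₁).range ⟨⟨_, hA⟩, hα⟩ ⟨⟨_, hB⟩, hβ⟩
    obtain ⟨d, hd⟩ := htop.ge (Subgroup.mem_top (f u))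
    rcases hzu ((p₁ d)⁻¹ * u) ((hker _).mp (by
      rw [map_mul, map_inv, show f (p₁ d) = f u from hd, inv_mul_cancel])) with e | e
    · exact ⟨d, inv_mul_eq_one.mp e⟩
    · refine ⟨d * ⟨_, hzz⟩, ?_⟩
      rw [map_mul, show p₁ ⟨_, hzz⟩ = z from rfl, ← e, mul_inv_cancel_left]
  have hp₂ : Function.Surjective p₂ := by
    intro u
    have htop := eq_top_of_235 h2 ha h3 hb h5 hab (f'.comp p₂).range ⟨⟨_, hA⟩, hα'⟩ ⟨⟨_, hB⟩, hβ'⟩
    obtain ⟨d, hd⟩ := htop.ge (Subgroup.mem_top (f' u))
    rcases hzu' ((p₂ d)⁻¹ * u) ((hker' _).mp (by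
      rw [map_mul, map_inv, show f' (p₂ d) = f' u from hd, inv_mul_cancel])) with e | e
    · exact ⟨d, inv_mul_eq_one.mp e⟩
    · refine ⟨d * ⟨_, hzz⟩, ?_⟩
      rw [map_mul, show p₂ ⟨_, hzz⟩ = z' from rfl, ← e, mul_inv_cancel_left]
  -- the diagonal over `Alt(5)`
  have hdiag : ∀ d : D, f (d : U × U').1 = f' (d : U × U').2 := by
    rintro ⟨d, hd⟩
    induction hd using Subgroup.closure_induction with
    | mem s hs => rcases hs with rfl | rfl; exacts [hα.trans hα'.symm, hβ.trans hβ'.symm]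
    | one => exact (map_one f).trans (map_one f').symm
    | mul x y _ _ hx hy => simp only [Prod.fst_mul, Prod.snd_mul, map_mul] at *; rw [hx, hy]
    | inv x _ hx => simp only [Prod.fst_inv, Prod.snd_inv, map_inv] at *; rw [hx]
  set π : D →* alternatingGroup (Fin 5) := f.comp p₁
  have hπ : Function.Surjective π := hf.comp hp₁
  suffices hno : (z, (1 : U')) ∉ D by
    have hinj : Function.Injective p₁ := by
      rw [injective_iff_map_eq_one]
      intro d hd
      have h1 : (d : U × U').1 = 1 := hd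
      have h2' : f' (d : U × U').2 = 1 := by rw [← hdiag d, h1, map_one]
      rcases hzu' _ ((hker' _).mp h2') with e | e
      · exact Subtype.ext (Prod.ext h1 e)
      · exfalso
        apply hno
        have h := D.mul_mem hzz d.2
        rwa [show (d : U × U') = (1, z') from Prod.ext h1 e, Prod.mk_mul_mk, mul_one, hz'] at h
    have hinj₂ : Function.Injective p₂ := by
      rw [injective_iff_map_eq_one]
      intro d hd
      have h1 : (d : U × U').2 = 1 := hd
      have h2' : f (d : U × U').1 = 1 := by rw [hdiag d, h1, map_one]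
      rcases hzu _ ((hker _).mp h2') with e | e
      · exact Subtype.ext (Prod.ext e h1)
      · exfalso
        apply hno
        have h := d.2
        rwa [show (d : U × U') = (z, 1) from Prod.ext e h1] at h
    exact ⟨(MulEquiv.ofBijective p₁ ⟨hinj, hp₁⟩).symm.trans (MulEquiv.ofBijective p₂ ⟨hinj₂, hp₂⟩)⟩
  intro hno
  set e₁ : D := ⟨_, hno⟩
  set e₂ : D := ⟨_, hzz⟩
  have hcen : ∀ e : D, π e = 1 → ∀ g : D, g * e = e * g := by
    intro e he g
    have h1 : f (e : U × U').1 = 1 := he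
    have h2' : f' (e : U × U').2 = 1 := hdiag e ▸ h1
    refine Subtype.ext (Prod.ext ?_ ?_)
    · rcases hzu _ ((hker _).mp h1) with e' | e' <;> simp [e', hzc]
    · rcases hzu' _ ((hker' _).mp h2') with e' | e' <;> simp [e', hzc']
  -- `D` is perfect
  have hperf : commutator D = ⊤ := by
    set q : D →* D ⧸ commutator D := QuotientGroup.mk' _
    have hqc : ∀ x y : D, q x * q y = q y * q x := fun x y => by
      rw [← commutatorElement_eq_one_iff_mul_comm, ← map_commutatorElement]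
      exact (QuotientGroup.eq_one_iff _).mpr
        (Subgroup.commutator_mem_commutator (Subgroup.mem_top _) (Subgroup.mem_top _))
    set A : D := ⟨_, hA⟩
    set B : D := ⟨_, hB⟩
    have hA4 : A ^ 4 = 1 := Subtype.ext (Prod.ext
      (by show α ^ 4 = 1; rw [show 4 = 2 * 2 from rfl, pow_mul, pow_two, pow_two, hα2, hz])
      (by show α' ^ 4 = 1; rw [show 4 = 2 * 2 from rfl, pow_mul, pow_two, pow_two, hα2', hz']))
    have hB3 : B ^ 3 = 1 := Subtype.ext (Prod.ext
      (by show β ^ 3 = 1; rw [pow_three', hβ3]) (by show β' ^ 3 = 1; rw [pow_three', hβ3']))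
    have hAB : (A * B) ^ 5 = 1 := Subtype.ext (Prod.ext h10 h10')
    have hkey : q A = 1 ∧ q B = 1 := by
      have a4 : q A ^ 4 = 1 := by rw [← map_pow, hA4, map_one]
      have b3 : q B ^ 3 = 1 := by rw [← map_pow, hB3, map_one]
      have ab5 : q A ^ 5 * q B ^ 5 = 1 := by
        rw [← (show Commute (q A) (q B) from hqc A B).mul_pow, ← map_mul, ← map_pow, hAB, map_one]
      rw [pow_succ (q A) 4, a4, one_mul, show 5 = 3 + 2 from rfl, pow_add, b3, one_mul] at ab5
      have a3 : q A ^ 3 = 1 := by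
        rw [show q A = (q B ^ 2)⁻¹ from eq_inv_of_mul_eq_one_left ab5, inv_pow, ← pow_mul, mul_comm 2 3,
          pow_mul, b3, one_pow, inv_one]
      have a1 : q A = 1 := by rw [pow_succ, a3, one_mul] at a4; exact a4
      refine ⟨a1, ?_⟩
      rw [a1, one_mul] at ab5
      rw [pow_succ, ab5, one_mul] at b3
      exact b3
    rw [eq_top_iff]
    rintro ⟨d, hd⟩ -
    rw [← QuotientGroup.eq_one_iff]
    show q ⟨d, hd⟩ = 1
    induction hd using Subgroup.closure_induction with
    | mem s hs => rcases hs with rfl | rfl; exacts [hkey.1, hkey.2]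
    | one => exact map_one q
    | mul x y hx hy ihx ihy =>
      rw [show (⟨x * y, _⟩ : D) = ⟨x, hx⟩ * ⟨y, hy⟩ from rfl, map_mul, ihx, ihy, one_mul]
    | inv x hx ihx => rw [show (⟨x⁻¹, _⟩ : D) = ⟨x, hx⟩⁻¹ from rfl, map_inv, ihx, inv_one]
  have e₁1 : e₁ ≠ 1 := fun h => hz1 (congrArg (fun d : D => (d : U × U').1) h)
  have e₂1 : e₂ ≠ 1 := fun h => hz1 (congrArg (fun d : D => (d : U × U').1) h)
  have e₁₂ : e₁ ≠ e₂ := fun h => hz1' (congrArg (fun d : D => (d : U × U').2) h).symm
  have hπe₁ : π e₁ = 1 := (hker z).mpr hz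
  have hπe₂ : π e₂ = 1 := (hker z).mpr hz
  haveI : Fact (Nat.Prime 2) := ⟨Nat.prime_two⟩
  obtain ⟨P⟩ : Nonempty (Sylow 2 D) := inferInstance
  set E := π.ker with hE
  have hE4 : Nat.card E = 4 := by
    have hle : E ≤ ((⊥ : Subgroup (alternatingGroup (Fin 5))).comap π) := le_rfl
    apply le_antisymm
    · refine (Nat.card_le_card_of_injective (β := f.ker × f'.ker) (fun e : E => (⟨((e : D) : U × U').1, e.2⟩,
        ⟨((e : D) : U × U').2, (hdiag e).symm.trans e.2⟩)) ?_).trans ?_
      · intro x y h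
        exact Subtype.ext (Subtype.ext (Prod.ext (congrArg (fun p => (p.1 : U)) h) (congrArg (fun p => (p.2 : U')) h)))
      · rw [Nat.card_prod]
        have k1 := f.ker.card_mul_index
        have k2 := f'.ker.card_mul_index
        rw [Subgroup.index_ker, MonoidHom.range_eq_top.mpr hf, Subgroup.card_top, card_alt_five, hc] at k1
        rw [Subgroup.index_ker, MonoidHom.range_eq_top.mpr hf', Subgroup.card_top, card_alt_five, hc'] at k2
        rw [show Nat.card f.ker = 2 by omega, show Nat.card f'.ker = 2 by omega]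
    · set g : Fin 4 → E := ![1, ⟨e₁, hπe₁⟩, ⟨e₂, hπe₂⟩, ⟨e₁ * e₂, E.mul_mem hπe₁ hπe₂⟩]
      have e₁sq : e₁ * e₁ = 1 := Subtype.ext (Prod.ext hz (one_mul 1))
      have hinj : Function.Injective g := by
        have n1 : e₁ * e₂ ≠ 1 := fun h => e₁₂ (mul_left_cancel (a := e₁) (by rw [h, e₁sq]))
        have n2 : e₁ * e₂ ≠ e₁ := fun h => e₂1 (mul_eq_left.mp h)
        have n3 : e₁ * e₂ ≠ e₂ := fun h => e₁1 (mul_eq_right.mp h)
        intro i j h
        have h' := congrArg Subtype.val h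
        fin_cases i <;> fin_cases j <;> simp [g, e₁1, e₂1, e₁₂, n1, n2, n3, e₁1.symm, e₂1.symm, e₁₂.symm,
          n1.symm, n2.symm, n3.symm] at h' ⊢
      have := Nat.card_le_card_of_injective g hinj
      simpa using this
  have hEP : E ≤ (P : Subgroup D) := by
    obtain ⟨Q, hQ⟩ := (IsPGroup.of_card (p := 2) (n := 2) (G := E) (by rw [hE4]; norm_num)).exists_le_sylow
    obtain ⟨g, hg⟩ := MulAction.exists_smul_eq D Q P
    intro e he
    rw [← hg, Sylow.coe_subgroup_smul]
    refine ⟨e, hQ he, ?_⟩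
    show g * e * g⁻¹ = e
    rw [hcen e he g, mul_inv_cancel_right]
  have hPc : Nat.card P = 16 := by
    have hDc : Nat.card D = 240 := by
      have := E.card_mul_index
      rw [hE4, hE, Subgroup.index_ker, MonoidHom.range_eq_top.mpr hπ, Subgroup.card_top, card_alt_five] at this
      omega
    rw [P.card_eq_multiplicity, hDc]
    have : (240 : ℕ).factorization 2 = 4 := by
      rw [show (240 : ℕ) = 2 ^ 4 * 15 by norm_num, Nat.factorization_mul (by norm_num) (by norm_num),
        Finsupp.add_apply, Nat.Prime.factorization_pow Nat.prime_two,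
        Nat.factorization_eq_zero_of_not_dvd (by norm_num : ¬ 2 ∣ 15)]
      simp
    rw [this]; norm_num
  -- every central element of `P` lies in its derived subgroup, by the transfer
  have hEc : ∀ e : D, ∀ he : e ∈ E, (⟨e, hEP he⟩ : P) ∈ commutator P := by
    intro e he
    set T := MonoidHom.transfer (Abelianization.of (G := ↥(P : Subgroup D)))
    have hT : T e = 1 := by
      have : e ∈ commutator D := hperf ▸ Subgroup.mem_top e
      exact (Abelianization.commutator_subset_ker T) this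
    have key : ∀ (k : ℕ) (g₀ : D), g₀⁻¹ * e ^ k * g₀ ∈ (P : Subgroup D) → g₀⁻¹ * e ^ k * g₀ = e ^ k := by
      intro k g₀ _
      rw [mul_assoc, ← hcen (e ^ k) (E.pow_mem he k) g₀, inv_mul_cancel_left]
    rw [MonoidHom.transfer_eq_pow _ e key] at hT
    have hpow : (⟨e, hEP he⟩ : P) ^ (P : Subgroup D).index ∈ commutator P := by
      rw [← Abelianization.ker_of (G := ↥(P : Subgroup D)), MonoidHom.mem_ker, ← hT]
      congr 1
    have h15 : (P : Subgroup D).index % 2 = 1 := Nat.two_dvd_ne_zero.mp P.not_dvd_index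
    have he2 : (⟨e, hEP he⟩ : P) ^ 2 = 1 := by
      have h1 : f (e : U × U').1 = 1 := he
      refine Subtype.ext (Subtype.ext (Prod.ext ?_ ?_))
      · show (e : U × U').1 ^ 2 = 1
        rw [pow_two]; exact (hker _).mp h1
      · show (e : U × U').2 ^ 2 = 1
        rw [pow_two]; exact (hker' _).mp ((hdiag e).symm.trans h1)
    rw [← Nat.mod_add_div (P : Subgroup D).index 2, h15, pow_add, pow_one, pow_mul, he2, one_pow, mul_one] at hpow
    exact hpow
  -- but that subgroup has order at most two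
  set EP := E.subgroupOf (P : Subgroup D)
  have hEPc : EP ≤ Subgroup.center P := fun e he => Subgroup.mem_center_iff.mpr fun g =>
    Subtype.ext (hcen e (Subgroup.mem_subgroupOf.mp he) g)
  set ψ : P →* alternatingGroup (Fin 5) := π.comp (P : Subgroup D).subtype
  have hψ : ψ.ker = EP := rfl
  have hi : Nat.card ψ.range = 4 := by
    have := EP.card_mul_index
    rw [Nat.card_congr (Subgroup.subgroupOfEquivOfLe hEP).toEquiv, hE4, hPc, ← hψ, Subgroup.index_ker] at this
    omega
  have hV : ∀ x : ψ.range, x * x = 1 := by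
    intro x
    have h := orderOf_dvd_natCard x
    rw [hi] at h
    rw [← pow_two, ← orderOf_dvd_iff_pow_eq_one]
    obtain ⟨_ | _ | _ | k, hk, hx⟩ := (Nat.dvd_prime_pow Nat.prime_two (m := 2)).mp (show orderOf x ∣ 2 ^ 2 by simpa using h)
    · rw [hx]; norm_num
    · rw [hx]; norm_num
    · exfalso
      have h4 : orderOf ((x : alternatingGroup (Fin 5))) = 4 := by rw [Subgroup.orderOf_coe, hx]; norm_num
      exact (show ∀ y : alternatingGroup (Fin 5), y ^ 2 = 1 ∨ y ^ 3 = 1 ∨ y ^ 5 = 1 from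
        Geometry.Dickson.orders_alt5) x |>.elim (fun e => by
          have := orderOf_dvd_of_pow_eq_one e; rw [h4] at this; norm_num at this) fun e =>
          e.elim (fun e => by have := orderOf_dvd_of_pow_eq_one e; rw [h4] at this; norm_num at this)
            fun e => by have := orderOf_dvd_of_pow_eq_one e; rw [h4] at this; norm_num at this
    · omega
  obtain ⟨u, v, hu, hv, huv, hall⟩ : ∃ u v : ψ.range, u ≠ 1 ∧ v ≠ 1 ∧ u ≠ v ∧
      ∀ x : ψ.range, x = 1 ∨ x = u ∨ x = v ∨ x = u * v := by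
    haveI := Fintype.ofFinite ψ.range
    have h4 : Fintype.card ψ.range = 4 := by rw [← Nat.card_eq_fintype_card, hi]
    obtain ⟨u, hu⟩ := Fintype.exists_ne_of_one_lt_card (by omega) (1 : ψ.range)
    obtain ⟨v, hv⟩ : ∃ v, v ∉ ({1, u} : Finset ψ.range) := by
      by_contra hcon
      have : (Finset.univ : Finset ψ.range) ⊆ {1, u} := fun x _ => by_contra fun h => hcon ⟨x, h⟩
      have := (Finset.card_le_card this).trans Finset.card_le_two
      rw [Finset.card_univ, h4] at this; omega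
    simp only [Finset.mem_insert, Finset.mem_singleton, not_or] at hv
    refine ⟨u, v, hu, hv.1, Ne.symm hv.2, fun x => ?_⟩
    have n1 : u * v ≠ 1 := fun h => hv.2 (mul_left_cancel (h.trans (hV u).symm))
    have n2 : u * v ≠ u := fun h => hv.1 (mul_eq_left.mp h)
    have n3 : u * v ≠ v := fun h => hu (mul_eq_right.mp h)
    have hs : ({1, u, v, u * v} : Finset ψ.range) = Finset.univ := Finset.eq_univ_of_card _ (by
      rw [h4, Finset.card_insert_of_notMem (by simp [hu.symm, Ne.symm hv.1, n1.symm]),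
        Finset.card_insert_of_notMem (by simp [Ne.symm hv.2, n2.symm]),
        Finset.card_insert_of_notMem (by simp [n3.symm]), Finset.card_singleton])
    simpa using hs.ge (Finset.mem_univ x)
  obtain ⟨p, hp⟩ := ψ.rangeRestrict_surjective u
  obtain ⟨q, hq⟩ := ψ.rangeRestrict_surjective v
  have hmem : ∀ x : P, x ∈ EP ↔ ψ.rangeRestrict x = 1 := fun x => by
    rw [← hψ, ← MonoidHom.ker_rangeRestrict, MonoidHom.mem_ker]
  have hcomm := commutator_le_two hEPc (p := p) (q := q) (fun x => by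
      simp only [hmem, map_mul, map_inv, hp, hq, inv_mul_eq_one]
      rcases hall (ψ.rangeRestrict x) with e | e | e | e <;> simp [e])
    (by rw [hmem, map_mul, hp, hV]) (by rw [hmem, map_mul, hq, hV])
    (by
      rw [hmem, map_commutatorElement, hp, hq, commutatorElement_def]
      rw [show u⁻¹ = u from inv_eq_of_mul_eq_one_right (hV u), show v⁻¹ = v from inv_eq_of_mul_eq_one_right (hV v),
        show u * v * u * v = (u * v) * (u * v) by group, hV])
  have hle : commutator P ≤ Subgroup.zpowers ⁅p, q⁆ := by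
    rw [commutator_def, Subgroup.commutator_le]
    exact fun x _ y _ => hcomm x y
  have h2c : ⁅p, q⁆ ^ 2 = 1 := by
    have : ⁅p, q⁆ ∈ EP := (hmem _).mpr (by
      rw [map_commutatorElement, hp, hq, commutatorElement_def,
        show u⁻¹ = u from inv_eq_of_mul_eq_one_right (hV u), show v⁻¹ = v from inv_eq_of_mul_eq_one_right (hV v),
        show u * v * u * v = (u * v) * (u * v) by group, hV])
    have h1 : f ((⁅p, q⁆ : P) : D).1.1 = 1 := Subgroup.mem_subgroupOf.mp this
    refine Subtype.ext (Subtype.ext (Prod.ext ?_ ?_))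
    · show ((⁅p, q⁆ : P) : D).1.1 ^ 2 = 1
      rw [pow_two]; exact (hker _).mp h1
    · show ((⁅p, q⁆ : P) : D).1.2 ^ 2 = 1
      rw [pow_two]; exact (hker' _).mp ((hdiag _).symm.trans h1)
  have hbig : Nat.card E ≤ Nat.card (Subgroup.zpowers ⁅p, q⁆) :=
    Nat.card_le_card_of_injective (fun e => ⟨⟨e.1, hEP e.2⟩, hle (hEc e.1 e.2)⟩) fun x y h =>
      Subtype.ext (congrArg (fun w : Subgroup.zpowers ⁅p, q⁆ => ((w : P) : D)) h)
  rw [hE4, Nat.card_zpowers] at hbig
  have := Nat.le_of_dvd (by norm_num) (orderOf_dvd_of_pow_eq_one h2c)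
  omega

/-- `SL(2,5)` is a binary icosahedral cover. -/
theorem ico_sl25 : Ico (Matrix.SpecialLinearGroup (Fin 2) (ZMod 5)) := by
  have h20 : (2 : ZMod 5) ≠ 0 := by decide
  haveI : Fact (Nat.Prime 5) := ⟨Nat.prime_five⟩
  obtain ⟨e⟩ := Classical.nonempty_PSL2_five (F := ZMod 5) (ZMod.card 5)
  refine ⟨?_, e.toMonoidHom.comp SL2Trace.toPSL, e.surjective.comp SL2Trace.toPSL_surjective, fun k => ?_⟩
  · rw [Classical.card_SL2, ZMod.card]; norm_num
  · show e (SL2Trace.toPSL k) = 1 ↔ _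
    rw [e.map_eq_one_iff, SL2Trace.toPSL_eq_one]
    refine ⟨fun h => ?_, fun h => sq_eq_one_sl h20 h⟩
    rcases h with h | h <;> rw [h] <;> simp

theorem ico_mulEquiv_sl25 {U : Type*} [Group U] [Finite U] (h : Ico U) :
    Nonempty (U ≃* Matrix.SpecialLinearGroup (Fin 2) (ZMod 5)) :=
  ico_iso h ico_sl25

end Cfsg.Agent.Lib.Frobenius.Zassenhaus
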