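import Cfsg.Agent.Lib.Frobenius.Zassenhaus.Basic
import Cfsg.Agent.Lib.Frobenius.Action
import Cfsg.Agent.Lib.Frobenius.Kernel
import Cfsg.Agent.Lib.Coprime.External
import Cfsg.Agent.Lib.Solvable.FixedPointFree
import Mathlib.GroupTheory.PGroup
import Mathlib.LinearAlgebra.Matrix.ToLin

/-!
Fixed-point-free actions on finite groups and Frobenius complements give fixed-point-free linear groups.
-/

set_option autoImplicit false
set_option linter.style.haveILetI false
set_option linter.unusedSectionVars false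

namespace Cfsg.Agent.Lib.Frobenius.Zassenhaus

theorem IsFPF.of_linear {A V : Type*} [Group A] [Finite A] (p : ℕ) [Fact p.Prime] [AddCommGroup V]
    [Module (ZMod p) V] [Finite V] [Nontrivial V] (σ : A →* Module.End (ZMod p) V)
    (hσ : FixedFree σ) (hp : ¬ p ∣ Nat.card A) : IsFPF A := by
  classical
  haveI : Module.Finite (ZMod p) V := Module.Finite.of_finite
  set n := Module.finrank (ZMod p) V
  set b := Module.finBasis (ZMod p) V
  set ι := algebraMap (ZMod p) (AlgebraicClosure (ZMod p))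
  let ρ : A →* Module.End (AlgebraicClosure (ZMod p)) (Fin n → AlgebraicClosure (ZMod p)) :=
    (((Matrix.toLinAlgEquiv' (R := AlgebraicClosure (ZMod p)) (n := Fin n)).toAlgHom.toRingHom.comp
      ι.mapMatrix).comp (LinearMap.toMatrixAlgEquiv b).toAlgHom.toRingHom).toMonoidHom.comp σ
  refine ⟨p, inferInstance, hp, n, Module.finrank_pos, ρ, fun g hg v hv => ?_⟩
  by_contra hv0
  set M : Matrix (Fin n) (Fin n) (ZMod p) := LinearMap.toMatrixAlgEquiv b (σ g) - 1
  have h0 : (ι.mapMatrix M).mulVec v = 0 := by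
    have e : ι.mapMatrix M = ι.mapMatrix (LinearMap.toMatrixAlgEquiv b (σ g)) - 1 := by
      simp only [M, map_sub, map_one]
    rw [e, Matrix.sub_mulVec, Matrix.one_mulVec, sub_eq_zero]
    exact (Matrix.toLinAlgEquiv'_apply _ v).symm.trans hv
  have hdet : M.det = 0 := by
    apply ι.injective
    rw [map_zero, RingHom.map_det]
    exact Matrix.exists_mulVec_eq_zero_iff.mp ⟨v, hv0, h0⟩
  obtain ⟨w, hw0, hw⟩ := Matrix.exists_mulVec_eq_zero_iff.mpr hdet
  rw [Matrix.sub_mulVec, Matrix.one_mulVec, sub_eq_zero] at hw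
  have hfix : σ g (b.equivFun.symm w) = b.equivFun.symm w := by
    apply b.equivFun.injective
    rw [LinearEquiv.apply_symm_apply]
    refine Eq.trans ?_ hw
    have := LinearMap.toMatrix_mulVec_repr b b (σ g) (b.equivFun.symm w)
    rw [show ⇑(b.repr (b.equivFun.symm w)) = w from b.equivFun.apply_symm_apply w] at this
    exact this.symm
  exact hw0 (b.equivFun.symm.injective ((hσ g hg _ hfix).trans (map_zero _).symm))

theorem IsFPF.of_add {A W : Type*} [Group A] [Finite A] (p : ℕ) [Fact p.Prime] [AddCommGroup W]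
    [Module (ZMod p) W] [Finite W] [Nontrivial W] (f : A → W →+ W) (hone : ∀ x, f 1 x = x)
    (hmul : ∀ a b x, f (a * b) x = f a (f b x)) (hfpf : ∀ a : A, a ≠ 1 → ∀ x, f a x = x → x = 0)
    (hp : ¬ p ∣ Nat.card A) : IsFPF A :=
  IsFPF.of_linear p
    ({ toFun := fun a =>
          { toFun := f a
            map_add' := map_add (f a)
            map_smul' := fun c x => ZMod.map_smul (f a) c x }
       map_one' := LinearMap.ext hone
       map_mul' := fun a b => LinearMap.ext (hmul a b) } : A →* Module.End (ZMod p) W)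
    (fun a ha x hx => hfpf a ha x hx) hp

theorem IsFPF.of_elementary {A : Type*} [Group A] [Finite A] (p : ℕ) [Fact p.Prime] {V : Type*} [CommGroup V]
    [Finite V] [Nontrivial V] (hexp : ∀ x : V, x ^ p = 1) (ψ : A → V →* V)
    (hone : ∀ x, ψ 1 x = x) (hmul : ∀ a b x, ψ (a * b) x = ψ a (ψ b x))
    (hfpf : ∀ a : A, a ≠ 1 → ∀ x, ψ a x = x → x = 1)
    (hp : ¬ p ∣ Nat.card A) : IsFPF A :=
  @IsFPF.of_add A (Additive V) _ _ p _ _
    (AddCommGroup.zmodModule fun x => Additive.toMul.injective (hexp (Additive.toMul x))) _ _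
    (fun a => MonoidHom.toAdditive (ψ a)) (fun x => Additive.toMul.injective (hone (Additive.toMul x)))
    (fun a b x => Additive.toMul.injective (hmul a b (Additive.toMul x)))
    (fun a ha x hx => Additive.toMul.injective (hfpf a ha _ (congrArg Additive.toMul hx))) hp

theorem IsFPF.of_mulAut {A K : Type*} [Group A] [Finite A] [Group K] [Finite K] [Nontrivial K]
    (φ : A →* MulAut K) (hfpf : ∀ a : A, a ≠ 1 → ∀ k : K, φ a k = k → k = 1)
    (hsolv : Group.IsSolvable K) : IsFPF A := by
  classical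
  have hcop := card_coprime φ hfpf
  obtain ⟨p, hp, hpK⟩ := Nat.exists_prime_and_dvd (Finite.one_lt_card (α := K)).ne'
  haveI := Fact.mk hp
  obtain ⟨P, -, hP⟩ := Coprime.exists_invariant_sylow_external φ hcop (Or.inr hsolv) p ⊥ IsPGroup.of_bot
    (fun a u hu => by rw [Subgroup.mem_bot] at hu ⊢; rw [hu, map_one])
  -- the central elements of `P` killed by `p`
  let V : Subgroup K :=
    { carrier := {x | x ∈ (P : Subgroup K) ∧ (∀ y ∈ (P : Subgroup K), y * x = x * y) ∧ x ^ p = 1}
      one_mem' := ⟨one_mem _, fun y _ => by rw [mul_one, one_mul], one_pow p⟩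
      mul_mem' := by
        rintro x y ⟨hx, hxc, hxp⟩ ⟨hy, hyc, hyp⟩
        refine ⟨mul_mem hx hy, fun z hz => ?_, ?_⟩
        · rw [← mul_assoc, hxc z hz, mul_assoc, hyc z hz, mul_assoc]
        · rw [(show Commute x y from (hxc y hy).symm).mul_pow, hxp, hyp, one_mul]
      inv_mem' := by
        rintro x ⟨hx, hxc, hxp⟩
        exact ⟨inv_mem hx, fun z hz => ((show Commute z x from hxc z hz).inv_right).eq, by rw [inv_pow, hxp, inv_one]⟩ }
  have hVinv : ∀ (a : A), ∀ x ∈ V, φ a x ∈ V := by
    rintro a x ⟨hx, hxc, hxp⟩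
    refine ⟨hP a x hx, fun y hy => ?_, by rw [← map_pow, hxp, map_one]⟩
    have hy' : φ a⁻¹ y ∈ (P : Subgroup K) := hP a⁻¹ y hy
    have := congrArg (φ a) (hxc _ hy')
    rwa [map_mul, map_mul, ← MulAut.mul_apply, ← map_mul, mul_inv_cancel, map_one, MulAut.one_apply] at this
  haveI hVnt : Nontrivial V := by
    haveI : Nontrivial P := Finite.one_lt_card_iff_nontrivial.mp
      (lt_of_lt_of_le hp.one_lt (Nat.le_of_dvd Nat.card_pos (P.dvd_card_of_dvd_card hpK)))
    haveI := P.2.center_nontrivial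
    obtain ⟨z, hz⟩ := exists_prime_orderOf_dvd_card' (G := Subgroup.center P) p (by
      obtain ⟨n, hn0, hn⟩ := (P.2.to_subgroup (Subgroup.center P)).nontrivial_iff_card.mp inferInstance
      rw [hn]; exact dvd_pow_self p hn0.ne')
    refine ⟨⟨((z : P) : K), (z : P).2, fun y hy => ?_, ?_⟩, 1, fun e => ?_⟩
    · exact congrArg Subtype.val (Subgroup.mem_center_iff.mp z.2 ⟨y, hy⟩)
    · have := congrArg (fun w : Subgroup.center P => ((w : P) : K)) (pow_orderOf_eq_one z)
      rw [hz] at this
      exact this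
    · have e' : z = 1 := Subtype.ext (Subtype.ext (congrArg (fun w : V => (w : K)) e))
      rw [e', orderOf_one] at hz
      exact hp.ne_one hz.symm
  letI : CommGroup V :=
    { (inferInstance : Group V) with mul_comm := fun x y => Subtype.ext (y.2.2.1 x x.2.1) }
  let ψ : A → V →* V := fun a =>
    { toFun := fun x => ⟨φ a (x : K), hVinv a _ x.2⟩
      map_one' := Subtype.ext (map_one (φ a))
      map_mul' := fun x y => Subtype.ext (map_mul (φ a) _ _) }
  refine IsFPF.of_elementary p (V := V) (fun x => Subtype.ext x.2.2.2) ψ (fun x => Subtype.ext ?_) (fun a b x => Subtype.ext ?_)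
    (fun a ha x hx => Subtype.ext (hfpf a ha _ (congrArg Subtype.val hx))) fun hd => ?_
  · show φ 1 (x : K) = (x : K)
    rw [map_one, MulAut.one_apply]
  · show φ (a * b) (x : K) = φ a (φ b (x : K))
    rw [map_mul, MulAut.mul_apply]
  · exact hp.one_lt.ne' (Nat.eq_one_of_dvd_coprimes hcop hd hpK)

theorem IsFPF.of_equiv {A B : Type*} [Group A] [Group B] [Finite A] (hA : IsFPF A) (e : A ≃* B) : IsFPF B := by
  obtain ⟨ℓ, hℓ, hd, n, hn, ρ, hρ⟩ := hA
  exact ⟨ℓ, hℓ, by rwa [← Nat.card_congr e.toEquiv], n, hn, ρ.comp e.symm.toMonoidHom,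
    fun g hg v hv => hρ _ (fun h => hg (by simpa using congrArg e h)) v hv⟩

theorem IsFPF.of_complement {L : Type*} [Group L] [Finite L] {H : Subgroup L}
    (hH : Cfsg.IsFrobeniusComplement H) : IsFPF H := by
  obtain ⟨K, hKn, hKset, -, -, hK, -, -⟩ := exists_frobeniusKernel hH
  haveI : Nontrivial K := (Subgroup.nontrivial_iff_ne_bot K).mpr hK
  have hfix : ∀ h : H, h ≠ 1 → ∀ k : K, (MulAut.conjNormal (h : L)) k = k → k = 1 := by
    intro h hh k hk
    have e := congrArg Subtype.val hk
    rw [MulAut.conjNormal_apply, mul_inv_eq_iff_eq_mul] at e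
    exact Subtype.ext (frobeniusKernel_fixedPointFree hH hKset h h.2 (fun e => hh (Subtype.ext e)) k k.2 e)
  obtain ⟨h, hh⟩ : ∃ h : H, h ≠ 1 := by
    haveI : Nontrivial H := (Subgroup.nontrivial_iff_ne_bot H).mpr hH.1
    exact exists_ne 1
  obtain ⟨q, hq, hqd⟩ := Nat.exists_prime_and_dvd (n := orderOf h) (by rw [Ne, orderOf_eq_one_iff]; exact hh)
  set a := h ^ (orderOf h / q)
  have ha : orderOf a = q := orderOf_pow_orderOf_div (orderOf_pos h).ne' hqd
  have ha1 : a ≠ 1 := fun e => hq.ne_one (by rw [← ha, e, orderOf_one])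
  haveI : Group.IsNilpotent K := Solvable.FixedPointFree.isNilpotent_of_fixedPointFree hq (MulAut.conjNormal (a : L))
    (by
      rw [← map_pow, show (a : L) ^ q = ((a ^ q : H) : L) from rfl, ← ha, pow_orderOf_eq_one]
      exact map_one _)
    (fun k hk => hfix a ha1 k hk)
  exact IsFPF.of_mulAut ((MulAut.conjNormal).comp H.subtype) hfix inferInstance

end Cfsg.Agent.Lib.Frobenius.Zassenhaus
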