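import Cfsg.Agent.Lib.Frobenius.Zassenhaus.Basic
import Mathlib.LinearAlgebra.Dimension.RankNullity
import Mathlib.Algebra.Module.LinearMap.End

/-!
Two, and suitable triples of, elements of order three leave a plane invariant.
-/

set_option autoImplicit false
set_option linter.style.haveILetI false
set_option linter.unusedSectionVars false

namespace Cfsg.Agent.Lib.Frobenius.Zassenhaus

variable {G : Type*} [Group G] [Finite G] {F V : Type*} [Field F] [IsAlgClosed F]
  [AddCommGroup V] [Module F V] [FiniteDimensional F V] [Nontrivial V]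
  {ρ : G →* Module.End F V}

namespace FixedFree

/-- `xy + (xy)⁻¹` for elements of order three, as an operator. -/
def traceOp (ρ : G →* Module.End F V) (x y : G) : Module.End F V := ρ (x * y) + ρ (x * y)⁻¹

theorem traceOp_eq (hρ : FixedFree ρ) {x y : G} (hx : orderOf x = 3) (hy : orderOf y = 3) (v : V) :
    traceOp ρ x y v = ρ x (ρ y v) + v + ρ x v + ρ y v + ρ y (ρ x v) := by
  have hx2 : x⁻¹ = x * x := by
    rw [inv_eq_iff_mul_eq_one, ← mul_assoc, ← pow_three', ← hx, pow_orderOf_eq_one]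
  have hy2 : y⁻¹ = y * y := by
    rw [inv_eq_iff_mul_eq_one, ← mul_assoc, ← pow_three', ← hy, pow_orderOf_eq_one]
  show ρ (x * y) v + ρ (x * y)⁻¹ v = _
  rw [mul_inv_rev, apply_mul, apply_mul, hy2, hx2, apply_mul, apply_mul, hρ.quad_three hx,
    hρ.quad_three hy, map_sub, map_neg]
  abel

theorem traceOp_comm_left (hρ : FixedFree ρ) {x y : G} (hx : orderOf x = 3) (hy : orderOf y = 3) (v : V) :
    traceOp ρ x y (ρ x v) = ρ x (traceOp ρ x y v) := by
  simp only [traceOp_eq hρ hx hy, hρ.quad_three hx, map_add, map_sub, map_neg]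
  abel

theorem traceOp_comm_right (hρ : FixedFree ρ) {x y : G} (hx : orderOf x = 3) (hy : orderOf y = 3) (v : V) :
    traceOp ρ x y (ρ y v) = ρ y (traceOp ρ x y v) := by
  simp only [traceOp_eq hρ hx hy, hρ.quad_three hy, map_add, map_sub, map_neg]
  abel

/-- On an eigenvector of `x` in an eigenspace of `xy + (xy)⁻¹` the elements `x`, `y` span a plane. -/
theorem plane_of_eigen (hρ : FixedFree ρ) {x y : G} (hx : orderOf x = 3) (hy : orderOf y = 3)
    (hxy : x * y ≠ y * x) {v : V} (hv : v ≠ 0) {a c : F} (ha : ρ x v = a • v)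
    (hc : traceOp ρ x y v = c • v) :
    Module.finrank F (Submodule.span F {v, ρ y v}) = 2 ∧
      (∀ u ∈ Submodule.span F {v, ρ y v}, ρ x u ∈ Submodule.span F {v, ρ y v}) ∧
      ∀ u ∈ Submodule.span F {v, ρ y v}, ρ y u ∈ Submodule.span F {v, ρ y v} := by
  set P := Submodule.span F {v, ρ y v}
  have h1 : v ∈ P := Submodule.subset_span (Set.mem_insert _ _)
  have h2 : ρ y v ∈ P := Submodule.subset_span (Set.mem_insert_of_mem _ rfl)
  refine ⟨?_, fun u hu => ?_, fun u hu => ?_⟩
  · have hli : LinearIndependent F ![v, ρ y v] := by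
      rw [LinearIndependent.pair_iff' hv]
      intro b hb
      exact hxy (hρ.commute_of_common hv ha hb.symm)
    have := finrank_span_eq_card hli
    rwa [show Set.range ![v, ρ y v] = {v, ρ y v} by
      simp [Matrix.range_cons, Matrix.range_empty, Set.pair_comm], Fintype.card_fin] at this
  · refine (Submodule.span_le.mpr ?_ : P ≤ P.comap (ρ x)) hu
    rintro _ (rfl | rfl)
    · rw [SetLike.mem_coe, Submodule.mem_comap, ha]; exact P.smul_mem a h1
    · rw [SetLike.mem_coe, Submodule.mem_comap]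
      have h := traceOp_eq hρ hx hy v
      rw [hc, ha, map_smul] at h
      have e : ρ x (ρ y v) = c • v - v - a • v - ρ y v - a • ρ y v := by rw [h]; abel
      rw [e]
      exact P.sub_mem (P.sub_mem (P.sub_mem (P.sub_mem (P.smul_mem c h1) h1) (P.smul_mem a h1)) h2)
        (P.smul_mem a h2)
  · refine (Submodule.span_le.mpr ?_ : P ≤ P.comap (ρ y)) hu
    rintro _ (rfl | rfl)
    · rw [SetLike.mem_coe, Submodule.mem_comap]; exact h2
    · rw [SetLike.mem_coe, Submodule.mem_comap, hρ.quad_three hy]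
      exact P.sub_mem (P.neg_mem h1) h2

theorem exists_plane_pair (hρ : FixedFree ρ) {x y : G} (hx : orderOf x = 3) (hy : orderOf y = 3)
    (hxy : x * y ≠ y * x) :
    ∃ P : Submodule F V, Module.finrank F P = 2 ∧ (∀ u ∈ P, ρ x u ∈ P) ∧ ∀ u ∈ P, ρ y u ∈ P := by
  obtain ⟨c, hc⟩ := Module.End.exists_eigenvalue (traceOp ρ x y)
  obtain ⟨v, hvW, hv, a, ha⟩ := exists_eigen (ρ x) (W := Module.End.eigenspace (traceOp ρ x y) c) hc
    fun w hw => by
      rw [Module.End.mem_eigenspace_iff] at hw ⊢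
      rw [traceOp_comm_left hρ hx hy, hw, map_smul]
  exact ⟨_, plane_of_eigen hρ hx hy hxy hv ha (Module.End.mem_eigenspace_iff.mp hvW)⟩

/-- A triple with scalar traces for `(x,y)` and `(y,w)` leaves a plane invariant. -/
theorem exists_plane_triple (hρ : FixedFree ρ) {x y w : G} (hx : orderOf x = 3) (hy : orderOf y = 3)
    (hw : orderOf w = 3) (hxy : x * y ≠ y * x) (h2 : (2 : F) ≠ 0) (h3 : (3 : F) ≠ 0) {c₁ c₂ : F}
    (hc₁ : ∀ v, traceOp ρ x y v = c₁ • v) (hc₂ : ∀ v, traceOp ρ y w v = c₂ • v) :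
    ∃ P : Submodule F V, Module.finrank F P = 2 ∧ (∀ u ∈ P, ρ x u ∈ P) ∧ (∀ u ∈ P, ρ y u ∈ P) ∧
      ∀ u ∈ P, ρ w u ∈ P := by
  let T : G → Module.End F V := fun g => (2 : F) • ρ g + 1
  have hT : ∀ g v, T g v = (2 : F) • ρ g v + v := fun g v => rfl
  have hsq : ∀ g, orderOf g = 3 → ∀ v, T g (T g v) = (-3 : F) • v := fun g hg v => by
    simp only [hT, map_add, map_smul, hρ.quad_three hg]
    module
  have hanti : ∀ g k, orderOf g = 3 → orderOf k = 3 → ∀ v,
      T g (T k v) + T k (T g v) = (4 : F) • traceOp ρ g k v - (2 : F) • v := fun g k hg hk v => by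
    simp only [hT, map_add, map_smul, traceOp_eq hρ hg hk]
    module
  set s : F := 4 * c₁ - 2 with hs
  set u : F := 4 * c₂ - 2 with hu
  have hXY : ∀ v, T x (T y v) + T y (T x v) = s • v := fun v => by
    rw [hanti x y hx hy, hc₁, hs]; module
  have hYW : ∀ v, T y (T w v) + T w (T y v) = u • v := fun v => by
    rw [hanti y w hy hw, hc₂, hu]; module
  set C := traceOp ρ x w
  -- the trace of the outer pair is central
  have hCy : ∀ v, C (T y v) = T y (C v) := by
    intro v
    have hXYr : ∀ v, T y (T x v) = s • v - T x (T y v) := fun v => by rw [← hXY v]; abel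
    have hYWr : ∀ v, T w (T y v) = u • v - T y (T w v) := fun v => by rw [← hYW v]; abel
    have key : (4 : F) • C (T y v) - (2 : F) • T y v = T y ((4 : F) • C v - (2 : F) • v) := by
      have e1 : T x (T w (T y v)) = u • T x v - (s • T w v - T y (T x (T w v))) := by
        rw [hYWr, map_sub, map_smul]
        congr 1
        rw [← hXY (T w v)]; abel
      have e2 : T w (T x (T y v)) = s • T w v - (u • T x v - T y (T w (T x v))) := by
        rw [show T x (T y v) = s • v - T y (T x v) by rw [← hXY v]; abel, map_sub, map_smul,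
          hYWr (T x v)]
      rw [← hanti x w hx hw, ← hanti x w hx hw, map_add, e1, e2]
      abel
    rw [map_sub, map_smul, map_smul, sub_left_inj] at key
    have h4 : (4 : F) ≠ 0 := by
      rw [show (4 : F) = 2 * 2 by norm_num]; exact mul_ne_zero h2 h2
    exact smul_right_injective V h4 key
  have hCy' : ∀ v, C (ρ y v) = ρ y (C v) := fun v => by
    have := hCy v
    simp only [hT, map_add, map_smul, add_left_inj] at this
    exact smul_right_injective V h2 this
  obtain ⟨c₃, hc₃⟩ := Module.End.exists_eigenvalue C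
  set E := Module.End.eigenspace C c₃
  have hEg : ∀ g, (g = x ∨ g = y ∨ g = w) → ∀ e ∈ E, ρ g e ∈ E := by
    intro g hg e he
    rw [Module.End.mem_eigenspace_iff] at he ⊢
    rcases hg with rfl | rfl | rfl
    · rw [traceOp_comm_left hρ hx hw, he, map_smul]
    · rw [hCy', he, map_smul]
    · rw [traceOp_comm_right hρ hx hw, he, map_smul]
  have hTE : ∀ g, (g = x ∨ g = y ∨ g = w) → ∀ e ∈ E, T g e ∈ E := fun g hg e he => by
    rw [hT]; exact E.add_mem (E.smul_mem _ (hEg g hg e he)) he
  set t : F := 4 * c₃ - 2 with ht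
  have hXW : ∀ e ∈ E, T x (T w e) + T w (T x e) = t • e := fun e he => by
    rw [hanti x w hx hw, show traceOp ρ x w e = c₃ • e from Module.End.mem_eigenspace_iff.mp he, ht]
    module
  -- orthogonalise
  set Y' : Module.End F V := (6 : F) • T y + s • T x with hY'
  have hY'v : ∀ v, Y' v = (6 : F) • T y v + s • T x v := fun v => rfl
  have hXY' : ∀ v, Y' (T x v) = - T x (Y' v) := fun v => by
    rw [hY'v, hY'v, map_add, map_smul, map_smul, hsq x hx, eq_neg_iff_add_eq_zero,
      show (6 : F) • T y (T x v) + s • (-3 : F) • v + ((6 : F) • T x (T y v) + s • (-3 : F) • v) =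
        (6 : F) • (T x (T y v) + T y (T x v)) + (2 * (s * -3)) • v by module, hXY v]
    module
  set q : F := 3 * s ^ 2 - 108 with hq
  have hY'sq : ∀ v, Y' (Y' v) = q • v := fun v => by
    simp only [hY'v, map_add, map_smul, hsq x hx, hsq y hy]
    rw [show T y (T x v) = s • v - T x (T y v) by rw [← hXY v]; abel, hq]
    module
  have h6 : (6 : F) ≠ 0 := by
    rw [show (6 : F) = 2 * 3 by norm_num]; exact mul_ne_zero h2 h3
  have hq0 : q ≠ 0 := by
    intro h0
    apply hxy
    have hkin : ∀ k ∈ LinearMap.ker Y', ρ x k ∈ LinearMap.ker Y' := fun k hk => by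
      rw [LinearMap.mem_ker] at hk ⊢
      have h := hXY' k
      rw [hk, map_zero, neg_zero, hT, map_add, map_smul, hk, add_zero] at h
      exact (smul_eq_zero.mp h).resolve_left h2
    have hker : LinearMap.ker Y' ≠ ⊥ := fun e => by
      obtain ⟨v, hv⟩ := exists_ne (0 : V)
      have h := hY'sq v
      rw [h0, zero_smul] at h
      exact hv (LinearMap.ker_eq_bot.mp e
        ((LinearMap.ker_eq_bot.mp e (h.trans (map_zero _).symm)).trans (map_zero _).symm))
    obtain ⟨v, hvk, hv, a, ha⟩ := exists_eigen (ρ x) hker hkin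
    have e := LinearMap.mem_ker.mp hvk
    rw [hY'v, hT x, ha, hT y] at e
    have e' : (12 : F) • ρ y v = (-(6 + s * (2 * a + 1))) • v := by
      rw [← sub_eq_zero, ← e]; module
    have h12 : (12 : F) ≠ 0 := by
      rw [show (12 : F) = 2 * 6 by norm_num]; exact mul_ne_zero h2 h6
    refine hρ.commute_of_common hv ha (b := (12 : F)⁻¹ * -(6 + s * (2 * a + 1))) ?_
    rw [← smul_smul, ← e', inv_smul_smul₀ h12]
  set b : F := 6 * u + s * t with hb
  set W' : Module.End F V := (6 * q) • T w + (q * t) • T x + (-3 * b) • Y' with hW'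
  have hW'v : ∀ v, W' v = (6 * q) • T w v + (q * t) • T x v + (-3 * b) • Y' v := fun v => rfl
  have hXW' : ∀ e ∈ E, W' (T x e) = - T x (W' e) := fun e he => by
    rw [hW'v, hW'v, map_add, map_add, map_smul, map_smul, map_smul, hXY', hsq x hx,
      show T w (T x e) = t • e - T x (T w e) by rw [← hXW e he]; abel]
    module
  have hY'W' : ∀ e ∈ E, W' (Y' e) = - Y' (W' e) := fun e he => by
    have h0 : Y' (T w e) + T w (Y' e) = b • e := by
      rw [hY'v, hY'v, map_add, map_smul, map_smul, hb,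
        show T w (T y e) = u • e - T y (T w e) by rw [← hYW e]; abel,
        show T w (T x e) = t • e - T x (T w e) by rw [← hXW e he]; abel]
      module
    rw [hW'v, hW'v, map_add, map_add, map_smul, map_smul, map_smul, hY'sq, hXY',
      show T w (Y' e) = b • e - Y' (T w e) by rw [← h0]; abel]
    module
  have hY'E : ∀ e ∈ E, Y' e ∈ E := fun e he => by
    rw [hY'v]
    exact E.add_mem (E.smul_mem _ (hTE y (by simp) e he)) (E.smul_mem _ (hTE x (by simp) e he))
  have hW'E : ∀ e ∈ E, W' e ∈ E := fun e he => by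
    rw [hW'v]
    exact E.add_mem (E.add_mem (E.smul_mem _ (hTE w (by simp) e he)) (E.smul_mem _ (hTE x (by simp) e he)))
      (E.smul_mem _ (hY'E e he))
  set ω : Module.End F V := T x * Y' * W' with hω
  have hωv : ∀ v, ω v = T x (Y' (W' v)) := fun v => rfl
  obtain ⟨v₀, hv₀E, hv₀, o, ho⟩ := exists_eigen ω hc₃ fun e he => by
    rw [hωv]; exact hTE x (by simp) _ (hY'E _ (hW'E e he))
  set Ω := Module.End.eigenspace ω o ⊓ E
  have hΩ : Ω ≠ ⊥ := fun e => hv₀ ((Submodule.mem_bot F).mp
    (e ▸ ⟨Module.End.mem_eigenspace_iff.mpr ho, hv₀E⟩))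
  have hΩx : ∀ e ∈ Ω, ρ x e ∈ Ω := fun e ⟨he1, he2⟩ => by
    refine ⟨?_, hEg x (by simp) e he2⟩
    rw [SetLike.mem_coe, Module.End.mem_eigenspace_iff] at he1 ⊢
    have : ω (T x e) = T x (ω e) := by
      rw [hωv, hωv, hXW' e he2, map_neg, hXY', neg_neg]
    rw [he1, map_smul, hT, map_add, map_smul, he1, smul_add, add_left_inj, smul_comm o] at this
    exact smul_right_injective V h2 this
  have hΩy : ∀ e ∈ Ω, ρ y e ∈ Ω := fun e ⟨he1, he2⟩ => by
    refine ⟨?_, hEg y (by simp) e he2⟩
    rw [SetLike.mem_coe, Module.End.mem_eigenspace_iff] at he1 ⊢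
    have h : ω (Y' e) = Y' (ω e) := by
      rw [hωv, hωv, hY'W' e he2, map_neg, hXY', map_neg]
    have hX : ω (T x e) = T x (ω e) := by rw [hωv, hωv, hXW' e he2, map_neg, hXY', neg_neg]
    rw [hY'v, map_add, map_smul, map_smul, hX, he1, map_smul, map_smul, hY'v, smul_add,
      smul_comm o s, add_left_inj, smul_comm o] at h
    have h' := smul_right_injective V h6 h
    rw [hT, map_add, map_smul, he1, smul_add, add_left_inj, smul_comm o] at h'
    exact smul_right_injective V h2 h'
  obtain ⟨v, hvΩ, hv, a, ha⟩ := exists_eigen (ρ x) hΩ hΩx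
  have hW'eq : ∀ e ∈ Ω, (-3 * q) • W' e = o • Y' (T x e) := by
    rintro e ⟨he1, -⟩
    rw [← map_smul Y', ← map_smul (T x), ← Module.End.mem_eigenspace_iff.mp he1, hωv, hsq x hx,
      map_smul, hY'sq, smul_smul]
  obtain ⟨hd, hPx, hPy⟩ := plane_of_eigen hρ hx hy hxy hv ha (hc₁ v)
  set P := Submodule.span F {v, ρ y v}
  refine ⟨P, hd, hPx, hPy, fun e he => ?_⟩
  have heΩ : e ∈ Ω := (Submodule.span_le.mpr (by
    rintro _ (rfl | rfl)
    exacts [hvΩ, hΩy v hvΩ]) : P ≤ Ω) he
  have hTX : ∀ k ∈ P, T x k ∈ P := fun k hk => by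
    rw [hT]; exact P.add_mem (P.smul_mem _ (hPx k hk)) hk
  have hY'P : ∀ k ∈ P, Y' k ∈ P := fun k hk => by
    rw [hY'v, hT y]
    exact P.add_mem (P.smul_mem _ (P.add_mem (P.smul_mem _ (hPy k hk)) hk)) (P.smul_mem _ (hTX k hk))
  have h1 : W' e ∈ P := by
    have h := P.smul_mem o (hY'P _ (hTX e he))
    rw [← hW'eq e heΩ] at h
    exact (Submodule.smul_mem_iff _ (mul_ne_zero (neg_ne_zero.mpr h3) hq0)).mp h
  have h2' : T w e ∈ P := by
    rw [hW'v] at h1
    exact (Submodule.smul_mem_iff _ (mul_ne_zero h6 hq0)).mp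
      ((P.add_mem_iff_left (P.smul_mem _ (hTX e he))).mp ((P.add_mem_iff_left (P.smul_mem _ (hY'P e he))).mp h1))
  rw [hT] at h2'
  exact (Submodule.smul_mem_iff _ h2).mp ((P.add_mem_iff_left he).mp h2')

end FixedFree

end Cfsg.Agent.Lib.Frobenius.Zassenhaus
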