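import Mathlib.LinearAlgebra.Trace
import Mathlib.LinearAlgebra.Matrix.ToLin
import Mathlib.Data.Matrix.Mul
import Mathlib.Analysis.SpecialFunctions.Pow.Real
import Mathlib.Data.Real.Sqrt

/-!
There is no strongly regular graph with `μ = 4`, `k = 3λ - 3` and `λ ≥ 4`.
-/

set_option autoImplicit false

namespace Cfsg.Agent.Lib.Frobenius.Zassenhaus

open Matrix Finset

theorem no_srg {α : Type*} [Fintype α] [Nonempty α] [DecidableEq α] (R : α → α → Prop) [DecidableRel R]
    (hsymm : ∀ a b, R a b → R b a) (hirr : ∀ a, ¬ R a a) {k l : ℕ} (hk : ∀ a, (univ.filter (R a)).card = k)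
    (hl : ∀ a b, R a b → (univ.filter fun c => R a c ∧ R b c).card = l)
    (hm : ∀ a b, a ≠ b → ¬ R a b → (univ.filter fun c => R a c ∧ R b c).card = 4)
    (hkl : k + 3 = 3 * l) (h4 : 4 ≤ l) : False := by
  classical
  set A : Matrix α α ℝ := Matrix.of fun a b => if R a b then 1 else 0 with hA
  set J : Matrix α α ℝ := Matrix.of fun _ _ => 1 with hJ
  set v : ℝ := (Fintype.card α : ℝ) with hv
  have hv0 : v ≠ 0 := by rw [hv]; exact_mod_cast Fintype.card_ne_zero
  have hAJ : A * J = (k : ℝ) • J := by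
    ext a b
    simp [hA, hJ, Matrix.mul_apply, ← hk a, Finset.sum_boole]
  have hJA : J * A = (k : ℝ) • J := by
    ext a b
    simp only [hA, hJ, Matrix.mul_apply, Matrix.of_apply, one_mul, Matrix.smul_apply, smul_eq_mul, mul_one]
    rw [Finset.sum_boole, ← hk b]
    congr 2
    ext c
    simp only [mem_filter, mem_univ, true_and]
    exact ⟨hsymm c b, hsymm b c⟩
  have hJJ : J * J = v • J := by
    ext a b
    simp [hJ, hv, Matrix.mul_apply]
  have hAA : A * A = ((k : ℝ) - 4) • (1 : Matrix α α ℝ) + ((l : ℝ) - 4) • A + (4 : ℝ) • J := by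
    ext a b
    have e : (A * A) a b = ((univ.filter fun c => R a c ∧ R b c).card : ℝ) := by
      rw [Matrix.mul_apply, ← Finset.sum_boole]
      refine Finset.sum_congr rfl fun c _ => ?_
      have : R c b ↔ R b c := ⟨hsymm c b, hsymm b c⟩
      simp only [hA, Matrix.of_apply, this]
      split_ifs <;> simp_all
    rw [e]
    simp only [Matrix.add_apply, Matrix.smul_apply, hA, hJ, Matrix.of_apply, Matrix.one_apply, smul_eq_mul]
    by_cases hab : a = b
    · subst hab
      rw [show (univ.filter fun c => R a c ∧ R a c) = univ.filter (R a) from Finset.filter_congr (by simp), hk]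
      simp [hirr a]
    · by_cases hR : R a b
      · rw [hl a b hR, if_neg hab, if_pos hR]; ring
      · rw [hm a b hab hR, if_neg hab, if_neg hR]; ring
  set d : ℝ := (l : ℝ) - 4 with hd
  set e : ℝ := (k : ℝ) - 4 with he
  have hrow : (k : ℝ) ^ 2 = e + d * k + 4 * v := by
    have h1 : A * A * J = ((k : ℝ) ^ 2) • J := by
      rw [Matrix.mul_assoc, hAJ, Matrix.mul_smul, hAJ, smul_smul, sq]
    rw [hAA, Matrix.add_mul, Matrix.add_mul, Matrix.smul_mul, Matrix.smul_mul, Matrix.smul_mul,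
      Matrix.one_mul, hAJ, hJJ, smul_smul, smul_smul, ← add_smul, ← add_smul] at h1
    obtain ⟨a⟩ := ‹Nonempty α›
    have := congrFun (congrFun h1 a) a
    simp [hJ] at this
    linarith
  set P : Matrix α α ℝ := 1 - v⁻¹ • J with hP
  set B : Matrix α α ℝ := A - ((k : ℝ) / v) • J with hB
  have hBB : B * B = e • P + d • B := by
    rw [hB, hP, Matrix.sub_mul, Matrix.mul_sub, Matrix.mul_sub, Matrix.smul_mul, Matrix.mul_smul,
      Matrix.smul_mul, Matrix.mul_smul, hAJ, hJA, hJJ, hAA]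
    simp only [smul_smul, smul_sub]
    match_scalars
    · ring
    · ring
    · field_simp
      linear_combination -hrow
  have hPP : P * P = P := by
    rw [hP, Matrix.sub_mul, Matrix.mul_sub, Matrix.mul_sub, Matrix.one_mul, Matrix.one_mul, Matrix.mul_one,
      Matrix.smul_mul, Matrix.mul_smul, hJJ, smul_smul, smul_smul]
    match_scalars
    · ring
    · field_simp; ring
  have hBP : B * P = B := by
    rw [hB, hP, Matrix.sub_mul, Matrix.mul_sub, Matrix.mul_sub, Matrix.mul_one, Matrix.mul_one,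
      Matrix.smul_mul, Matrix.mul_smul, Matrix.mul_smul, hAJ, hJJ]
    simp only [smul_smul]
    match_scalars
    · ring
    · field_simp; ring
  have hPB : P * B = B := by
    rw [hB, hP, Matrix.sub_mul, Matrix.mul_sub, Matrix.mul_sub, Matrix.one_mul, Matrix.one_mul,
      Matrix.smul_mul, Matrix.smul_mul, Matrix.mul_smul, hJA, hJJ]
    simp only [smul_smul]
    match_scalars
    · ring
    · field_simp; ring
  have hl' : (4 : ℝ) ≤ l := by exact_mod_cast h4
  have hkl' : (k : ℝ) + 3 = 3 * l := by exact_mod_cast hkl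
  set D : ℝ := Real.sqrt (d ^ 2 + 4 * e) with hD
  have hD2 : D * D = d ^ 2 + 4 * e := Real.mul_self_sqrt (by rw [hd, he]; nlinarith)
  have hD0 : D ≠ 0 := fun h => by rw [h, mul_zero, hd, he] at hD2; nlinarith
  set s : ℝ := (d - D) / 2 with hs
  set E : Matrix α α ℝ := D⁻¹ • (B - s • P) with hE
  clear_value B P
  have hEE : E * E = E := by
    rw [hE, Matrix.smul_mul, Matrix.mul_smul, Matrix.sub_mul, Matrix.mul_sub, Matrix.mul_sub,
      Matrix.smul_mul, Matrix.smul_mul, Matrix.mul_smul, Matrix.mul_smul, hBB, hBP, hPB, hPP]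
    match_scalars
    all_goals
      rw [hs]
      field_simp
      first
        | ring1
        | linear_combination -hD2
        | linear_combination hD2
        | linear_combination ((-1 : ℝ) / 4) * hD2
        | linear_combination ((1 : ℝ) / 4) * hD2
  have htrA : A.trace = 0 := by simp [Matrix.trace, hA, hirr]
  have htrJ : J.trace = v := by simp [Matrix.trace, hJ, hv]
  have htr : E.trace = D⁻¹ * (-(k : ℝ) - s * (v - 1)) := by
    rw [hE, hB, hP]
    simp only [Matrix.trace_smul, Matrix.trace_sub, Matrix.trace_one, htrA, htrJ, smul_eq_mul, ← hv]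
    field_simp
    ring
  obtain ⟨n, hn⟩ : ∃ n : ℕ, E.trace = (n : ℝ) := by
    have h : IsIdempotentElem (Matrix.toLin' E) := by
      show Matrix.toLin' E * Matrix.toLin' E = Matrix.toLin' E
      rw [Module.End.mul_eq_comp, ← Matrix.toLin'_mul, hEE]
    refine ⟨Module.finrank ℝ (LinearMap.range (Matrix.toLin' E)), ?_⟩
    rw [← Matrix.trace_toLin'_eq]
    exact (LinearMap.IsProj.trace ((LinearMap.isProj_range_iff_isIdempotentElem _).mpr h))
  rw [htr, inv_mul_eq_iff_eq_mul₀ hD0] at hn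
  have key : D * (2 * (n : ℝ) - v + 1) = -2 * (k : ℝ) - d * (v - 1) := by
    rw [hs] at hn; linear_combination -2 * hn
  have hkey : ((l + 2) * (l + 2) - 16 : ℝ) = D * D := by rw [hD2, hd, he]; linear_combination -4 * hkl'
  set a : ℤ := -2 * (k : ℤ) - ((l : ℤ) - 4) * ((Fintype.card α : ℤ) - 1) with ha
  set b : ℤ := 2 * (n : ℤ) - (Fintype.card α : ℤ) + 1 with hb
  have hab : ((l : ℤ) + 2) ^ 2 * b ^ 2 - 16 * b ^ 2 = a ^ 2 := by
    have h : (((l : ℤ) + 2) ^ 2 * b ^ 2 - 16 * b ^ 2 : ℝ) = ((a ^ 2 : ℤ) : ℝ) := by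
      rw [ha, hb]; push_cast
      rw [← hv, ← hd, ← key]
      linear_combination (2 * (n : ℝ) - v + 1) ^ 2 * hkey
    exact_mod_cast h
  have ha0 : a ≠ 0 := by
    have h1 : (1 : ℤ) ≤ (Fintype.card α : ℤ) := by exact_mod_cast Fintype.card_pos
    have h2 : (0 : ℤ) ≤ ((l : ℤ) - 4) * ((Fintype.card α : ℤ) - 1) := by
      apply mul_nonneg <;> omega
    omega
  have hb0 : b ≠ 0 := fun h => by rw [h] at hab; simp at hab; exact ha0 (pow_eq_zero_iff two_ne_zero |>.mp hab.symm)
  have hdvd : b ∣ a := (Int.pow_dvd_pow_iff two_ne_zero).mp ⟨((l : ℤ) + 2) ^ 2 - 16, by rw [← hab]; ring⟩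
  obtain ⟨c, hc⟩ := hdvd
  have hc2 : ((l : ℤ) + 2) ^ 2 - 16 = c ^ 2 := by
    have := mul_left_cancel₀ (pow_ne_zero 2 hb0) (show b ^ 2 * (((l : ℤ) + 2) ^ 2 - 16) = b ^ 2 * c ^ 2 by
      rw [← mul_pow, ← hc, ← hab]; ring)
    exact this
  set m := c.natAbs
  have hm2 : (l + 2) * (l + 2) = m * m + 16 := by
    have : ((l : ℤ) + 2) ^ 2 = (m : ℤ) ^ 2 + 16 := by rw [Int.natAbs_sq]; omega
    have h' : ((((l + 2) * (l + 2) : ℕ)) : ℤ) = ((m * m + 16 : ℕ) : ℤ) := by push_cast; linear_combination this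
    exact_mod_cast h'
  have hlt : m ≤ l + 1 := by nlinarith
  have hl6 : l ≤ 6 := by nlinarith [Nat.mul_le_mul hlt hlt]
  interval_cases l <;> interval_cases m <;> omega

end Cfsg.Agent.Lib.Frobenius.Zassenhaus
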