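import Cfsg.Agent.Lib.Frobenius.Zassenhaus.Types
import Cfsg.Agent.Lib.Frobenius.Zassenhaus.AltFacts
import Cfsg.Agent.Lib.Frobenius.Zassenhaus.Spectral

/-!
All elements of order three of a fixed-point-free group lie in one normal binary tetrahedral or
icosahedral subgroup, unless there are at most two.
-/

set_option autoImplicit false
set_option linter.style.haveILetI false
set_option linter.unusedSectionVars false

namespace Cfsg.Agent.Lib.Frobenius.Zassenhaus

variable {G : Type*} [Group G] [Finite G]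

namespace IsFPF

theorem subgroup (hG : IsFPF G) (K : Subgroup G) : IsFPF K := by
  obtain ⟨ℓ, hℓ, hd, n, hn, ρ, hρ⟩ := hG
  exact ⟨ℓ, hℓ, fun h => hd (h.trans (Subgroup.card_subgroup_dvd_card K)), n, hn, ρ.comp K.subtype,
    hρ.comp_subgroup K⟩

theorem mem_zpowers_of_commute (hG : IsFPF G) {a b : G} (hab : a * b = b * a)
    (hd : orderOf b ∣ orderOf a) : b ∈ Subgroup.zpowers a := by
  obtain ⟨ℓ, hℓ, -, n, hn, ρ, hρ⟩ := hG
  haveI : Nonempty (Fin n) := ⟨⟨0, hn⟩⟩
  exact hρ.mem_zpowers_of_commute hab hd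

theorem eq_of_sq (hG : IsFPF G) {a b : G} (ha : a * a = 1) (ha1 : a ≠ 1) (hb : b * b = 1) (hb1 : b ≠ 1) :
    a = b := by
  obtain ⟨ℓ, hℓ, -, n, hn, ρ, hρ⟩ := hG
  haveI : Nonempty (Fin n) := ⟨⟨0, hn⟩⟩
  have e : ∀ u : G, u * u = 1 → u ≠ 1 → ∀ v, ρ u v = -v := fun u hu hu1 v => by
    have hw : ρ u (v + ρ u v) = v + ρ u v := by
      rw [map_add, ← apply_mul, hu, apply_one, add_comm]
    exact eq_neg_of_add_eq_zero_right (hρ u hu1 _ hw)
  obtain ⟨v, hv⟩ := exists_ne (0 : Fin n → AlgebraicClosure (ZMod ℓ))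
  exact hρ.eq_of_apply_eq hv ((e a ha ha1 v).trans (e b hb hb1 v).symm)

theorem central_of_sq (hG : IsFPF G) {a : G} (ha : a * a = 1) (g : G) : g * a = a * g := by
  by_cases h : a = 1
  · rw [h]; group
  · have := hG.eq_of_sq (a := g * a * g⁻¹) (b := a)
      (by rw [show g * a * g⁻¹ * (g * a * g⁻¹) = g * (a * a) * g⁻¹ by group, ha]; group)
      (fun e => h (by rwa [mul_inv_eq_one, mul_eq_left] at e)) ha h
    exact mul_inv_eq_iff_eq_mul.mp this

theorem pair (hG : IsFPF G) {x y : G} (hx : orderOf x = 3) (hy : orderOf y = 3) (hxy : x * y ≠ y * x) :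
    Tet (Subgroup.closure ({x, y} : Set G)) ∨ Ico (Subgroup.closure ({x, y} : Set G)) := by
  obtain ⟨ℓ, hℓ, hd, n, hn, ρ, hρ⟩ := hG
  haveI : Nonempty (Fin n) := ⟨⟨0, hn⟩⟩
  exact Zassenhaus.pair hρ hd hx hy hxy

theorem triple (hG : IsFPF G) {x y w : G} (hx : orderOf x = 3) (hy : orderOf y = 3) (hw : orderOf w = 3)
    (hxy : x * y ≠ y * x) (hyw : y * w ≠ w * y)
    (h₁ : Tet (Subgroup.closure ({x, y} : Set G))) (h₂ : Tet (Subgroup.closure ({y, w} : Set G))) :
    Tet (Subgroup.closure ({x, y, w} : Set G)) ∨ Ico (Subgroup.closure ({x, y, w} : Set G)) := by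
  obtain ⟨ℓ, hℓ, hd, n, hn, ρ, hρ⟩ := hG
  haveI : Nonempty (Fin n) := ⟨⟨0, hn⟩⟩
  exact Zassenhaus.triple hρ hd hx hy hw hxy hyw h₁ h₂

end IsFPF

/-- Subgroups of order three. -/
abbrev Pt (G : Type*) [Group G] := {X : Subgroup G // Nat.card X = 3}

namespace Pt

/-- A generator. -/
noncomputable def gen (X : Pt G) : G :=
  haveI : Fact (Nat.Prime 3) := ⟨Nat.prime_three⟩
  ((exists_prime_orderOf_dvd_card' (G := X.1) 3 (by rw [X.2])).choose : G)

theorem orderOf_gen (X : Pt G) : orderOf (gen X) = 3 := by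
  haveI : Fact (Nat.Prime 3) := ⟨Nat.prime_three⟩
  rw [gen, Subgroup.orderOf_coe]
  exact (exists_prime_orderOf_dvd_card' (G := X.1) 3 (by rw [X.2])).choose_spec

theorem gen_mem (X : Pt G) : gen X ∈ X.1 := SetLike.coe_mem _

theorem eq_zpowers (X : Pt G) : Subgroup.zpowers (gen X) = X.1 :=
  Subgroup.eq_of_le_of_card_ge (Subgroup.zpowers_le.mpr (gen_mem X))
    (by rw [Nat.card_zpowers, orderOf_gen, X.2])

theorem le_iff (X : Pt G) (K : Subgroup G) : X.1 ≤ K ↔ gen X ∈ K := by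
  rw [← eq_zpowers X, Subgroup.zpowers_le]

/-- The point of an element of order three. -/
def mk' (x : G) (hx : orderOf x = 3) : Pt G := ⟨Subgroup.zpowers x, by rw [Nat.card_zpowers, hx]⟩

theorem sup_eq_closure (X Y : Pt G) : X.1 ⊔ Y.1 = Subgroup.closure ({gen X, gen Y} : Set G) := by
  rw [Set.insert_eq, Subgroup.closure_union, ← Subgroup.zpowers_eq_closure, ← Subgroup.zpowers_eq_closure,
    eq_zpowers, eq_zpowers]

theorem sup_eq_closure₃ (X Y W : Pt G) :
    X.1 ⊔ Y.1 ⊔ W.1 = Subgroup.closure ({gen X, gen Y, gen W} : Set G) := by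
  rw [Set.insert_eq, Subgroup.closure_union, Set.insert_eq, Subgroup.closure_union,
    ← Subgroup.zpowers_eq_closure, ← Subgroup.zpowers_eq_closure, ← Subgroup.zpowers_eq_closure,
    eq_zpowers, eq_zpowers, eq_zpowers, sup_assoc]

end Pt

/-- Two points generating a binary tetrahedral group. -/
def Adj (X Y : Pt G) : Prop := X ≠ Y ∧ Nat.card (X.1 ⊔ Y.1 : Subgroup G) = 24

theorem Adj.symm {X Y : Pt G} (h : Adj X Y) : Adj Y X := ⟨h.1.symm, by rw [sup_comm]; exact h.2⟩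

theorem not_commute (hG : IsFPF G) {X Y : Pt G} (h : X ≠ Y) :
    Pt.gen X * Pt.gen Y ≠ Pt.gen Y * Pt.gen X := fun e => by
  have hm := hG.mem_zpowers_of_commute e (by rw [Pt.orderOf_gen, Pt.orderOf_gen])
  rw [Pt.eq_zpowers, ← Pt.le_iff] at hm
  exact h (Subtype.ext (Subgroup.eq_of_le_of_card_ge hm (by rw [X.2, Y.2])).symm)

theorem card_sup (hG : IsFPF G) {X Y : Pt G} (h : X ≠ Y) :
    Tet (X.1 ⊔ Y.1 : Subgroup G) ∨ Ico (X.1 ⊔ Y.1 : Subgroup G) := by
  rw [Pt.sup_eq_closure]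
  exact hG.pair (Pt.orderOf_gen X) (Pt.orderOf_gen Y) (not_commute hG h)

theorem Adj.tet (hG : IsFPF G) {X Y : Pt G} (h : Adj X Y) : Tet (X.1 ⊔ Y.1 : Subgroup G) := by
  rcases card_sup hG h.1 with e | e
  · exact e
  · exact absurd (h.2.symm.trans e.1) (by norm_num)

theorem ico_of_not_adj (hG : IsFPF G) {X Y : Pt G} (hne : X ≠ Y) (h : ¬ Adj X Y) :
    Ico (X.1 ⊔ Y.1 : Subgroup G) :=
  (card_sup hG hne).resolve_left fun e => h ⟨hne, e.1⟩

theorem sup_three (hG : IsFPF G) {X Y W : Pt G} (h₁ : Adj X Y) (h₂ : Adj Y W)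
    (hW : ¬ W.1 ≤ X.1 ⊔ Y.1) : Ico (X.1 ⊔ Y.1 ⊔ W.1 : Subgroup G) := by
  have h := hG.triple (Pt.orderOf_gen X) (Pt.orderOf_gen Y) (Pt.orderOf_gen W) (not_commute hG h₁.1)
    (not_commute hG h₂.1) (Pt.sup_eq_closure X Y ▸ h₁.tet hG) (Pt.sup_eq_closure Y W ▸ h₂.tet hG)
  rw [← Pt.sup_eq_closure₃] at h
  refine h.resolve_left fun e => hW ?_
  rw [Subgroup.eq_of_le_of_card_ge (le_sup_left : X.1 ⊔ Y.1 ≤ X.1 ⊔ Y.1 ⊔ W.1) (by rw [e.1, h₁.2])]
  exact le_sup_right

theorem fixset_sq {n : ℕ} (a : alternatingGroup (Fin n)) (h : a * a * a = 1) : fixset (a * a) = fixset a := by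
  ext i
  have h3 : (a : Equiv.Perm (Fin n)) ((a : Equiv.Perm (Fin n)) ((a : Equiv.Perm (Fin n)) i)) = i := by
    have e := congrArg (fun b : alternatingGroup (Fin n) => (b : Equiv.Perm (Fin n)) i) h
    simpa [Equiv.Perm.mul_apply] using e
  rw [fixset, fixset, Finset.mem_filter, Finset.mem_filter]
  refine and_congr_right fun _ => ⟨fun hi => ?_, fun hi => ?_⟩
  · have hi' : (a : Equiv.Perm (Fin n)) ((a : Equiv.Perm (Fin n)) i) = i := hi
    rw [hi'] at h3; exact h3
  · show (a : Equiv.Perm (Fin n)) ((a : Equiv.Perm (Fin n)) i) = i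
    rw [hi, hi]

/-- The label map of a cover of `Alt(n)`. -/
theorem exists_label (hG : IsFPF G) {n m : ℕ} (hn : ThreeFacts n) {K : Subgroup G} (hK : Cover n m K) :
    ∃ f : K →* alternatingGroup (Fin n), Function.Surjective f ∧ (∀ k, f k = 1 ↔ k * k = 1) ∧
    ∃ σ : Pt G → Finset (Fin n), (∀ X : Pt G, X.1 ≤ K → (σ X).card = n - 3) ∧
      (∀ X Y : Pt G, X.1 ≤ K → Y.1 ≤ K → σ X = σ Y → X = Y) ∧
      (∀ s : Finset (Fin n), s.card = n - 3 → ∃ X : Pt G, X.1 ≤ K ∧ σ X = s) ∧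
      ∀ (X : Pt G) (hX : X.1 ≤ K), σ X = fixset (f ⟨Pt.gen X, hX (Pt.gen_mem X)⟩) := by
  classical
  obtain ⟨-, f, hf, hker⟩ := hK
  refine ⟨f, hf, hker, fun X => if hX : X.1 ≤ K then fixset (f ⟨Pt.gen X, hX (Pt.gen_mem X)⟩) else ∅, ?_⟩
  have hlift : ∀ (x : K), orderOf (x : G) = 3 → f x * f x * f x = 1 ∧ f x ≠ 1 := by
    intro x hx
    rw [Subgroup.orderOf_coe] at hx
    have h3 : x * x * x = 1 := by rw [← pow_three', ← hx, pow_orderOf_eq_one]
    refine ⟨by rw [← map_mul, ← map_mul, h3, map_one], fun e => ?_⟩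
    have h2 := (hker x).mp e
    rw [h2, one_mul] at h3
    rw [h3, orderOf_one] at hx; omega
  have hinj : ∀ x y : K, orderOf (x : G) = 3 → orderOf (y : G) = 3 → f x = f y → x = y := by
    intro x y hx hy e
    rw [Subgroup.orderOf_coe] at hx hy
    have hx3 : x ^ 3 = 1 := hx ▸ pow_orderOf_eq_one x
    have hy3 : y ^ 3 = 1 := hy ▸ pow_orderOf_eq_one y
    have hz := (hker (x⁻¹ * y)).mp (by rw [map_mul, map_inv, e, inv_mul_cancel])
    set z := x⁻¹ * y with hzd
    have hy' : y = x * z := by rw [hzd]; group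
    by_cases h1 : z = 1
    · rw [hy', h1, mul_one]
    · exfalso
      have hc : Commute x z := Subtype.ext (hG.central_of_sq (congrArg Subtype.val hz) (x : G))
      rw [hy', hc.mul_pow, hx3, one_mul, pow_three, hz, mul_one] at hy3
      exact h1 hy3
  have hσ : ∀ (X : Pt G) (hX : X.1 ≤ K), (if hX : X.1 ≤ K then fixset (f ⟨Pt.gen X, hX (Pt.gen_mem X)⟩)
      else ∅) = fixset (f ⟨Pt.gen X, hX (Pt.gen_mem X)⟩) := fun X hX => dif_pos hX
  refine ⟨fun X hX => ?_, fun X Y hX hY e => ?_, fun s hs => ?_, hσ⟩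
  · beta_reduce
    rw [hσ X hX]
    exact hn.card _ (hlift _ (Pt.orderOf_gen X)).1 (hlift _ (Pt.orderOf_gen X)).2
  · beta_reduce at e
    rw [hσ X hX, hσ Y hY] at e
    set x : K := ⟨Pt.gen X, hX (Pt.gen_mem X)⟩
    set y : K := ⟨Pt.gen Y, hY (Pt.gen_mem Y)⟩
    have hx := hlift x (Pt.orderOf_gen X)
    have hy := hlift y (Pt.orderOf_gen Y)
    have hmem : Pt.gen Y ∈ X.1 := by
      rcases hn.eq_or _ _ hx.1 hx.2 hy.1 hy.2 e with e' | e'
      · have h := congrArg Subtype.val (hinj y x (Pt.orderOf_gen Y) (Pt.orderOf_gen X) e')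
        exact (show Pt.gen Y = Pt.gen X from h) ▸ Pt.gen_mem X
      · rw [← map_mul] at e'
        have ho : orderOf ((x * x : K) : G) = 3 := by
          show orderOf (Pt.gen X * Pt.gen X) = 3
          rw [← pow_two, Nat.Coprime.orderOf_pow (by rw [Pt.orderOf_gen]; norm_num), Pt.orderOf_gen]
        have h := congrArg Subtype.val (hinj y (x * x) (Pt.orderOf_gen Y) ho e')
        rw [show Pt.gen Y = Pt.gen X * Pt.gen X from h]
        exact mul_mem (Pt.gen_mem X) (Pt.gen_mem X)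
    rw [← Pt.le_iff] at hmem
    exact (Subtype.ext (Subgroup.eq_of_le_of_card_ge hmem (by rw [X.2, Y.2]))).symm
  · obtain ⟨a, ha3, ha1, has⟩ := hn.surj s hs
    obtain ⟨k, hk⟩ := hf a
    set x := k * k * k * k with hx
    have hfx : f x = a := by
      rw [hx, map_mul, map_mul, map_mul, hk, ha3, one_mul]
    have h6 : k * k * k * (k * k * k) = 1 := (hker (k * k * k)).mp (by rw [map_mul, map_mul, hk, ha3])
    have hx3 : orderOf (x : G) = 3 := by
      rw [Subgroup.orderOf_coe]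
      haveI : Fact (Nat.Prime 3) := ⟨Nat.prime_three⟩
      refine orderOf_eq_prime ?_ fun e => ha1 (by rw [← hfx, e, map_one])
      rw [hx, pow_three]
      calc k * k * k * k * (k * k * k * k * (k * k * k * k))
          = (k * k * k * (k * k * k)) * (k * k * k * (k * k * k)) := by group
        _ = 1 := by rw [h6, one_mul]
    refine ⟨Pt.mk' (x : G) hx3, Subgroup.zpowers_le.mpr x.2, ?_⟩
    beta_reduce
    rw [hσ (Pt.mk' (x : G) hx3) (Subgroup.zpowers_le.mpr x.2), ← has]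
    set g : K := ⟨Pt.gen (Pt.mk' (x : G) hx3), _⟩
    obtain ⟨i, hi⟩ : (g : G) ∈ Subgroup.zpowers (x : G) := Pt.gen_mem (Pt.mk' (x : G) hx3)
    have hgx : g = x ^ i := Subtype.ext (by rw [SubgroupClass.coe_zpow]; exact hi.symm)
    have hg := hlift g (Pt.orderOf_gen _)
    rw [hgx, map_zpow, hfx] at hg ⊢
    have hcases : a ^ i = a ∨ a ^ i = a * a := by
      rw [← zpow_mod_orderOf]
      haveI : Fact (Nat.Prime 3) := ⟨Nat.prime_three⟩
      rw [show orderOf a = 3 from orderOf_eq_prime (by rw [pow_three', ha3]) ha1]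
      have h1 := Int.emod_nonneg i (show (3 : ℤ) ≠ 0 by norm_num)
      have h2 := Int.emod_lt_of_pos i (show (0 : ℤ) < 3 by norm_num)
      have h0 : i % 3 ≠ 0 := fun e => by
        apply hg.2
        rw [← zpow_mod_orderOf, show orderOf a = 3 from orderOf_eq_prime (by rw [pow_three', ha3]) ha1]
        rw [show ((3 : ℕ) : ℤ) = 3 from rfl, e, zpow_zero]
      rcases (show i % 3 = 1 ∨ i % 3 = 2 by omega) with e | e <;>
        rw [show ((3 : ℕ) : ℤ) = 3 from rfl, e]
      · exact Or.inl (zpow_one a)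
      · exact Or.inr (zpow_two a)
    rcases hcases with e | e <;> rw [e]
    exact fixset_sq a ha3

theorem pts_four (hG : IsFPF G) {K : Subgroup G} (hK : Tet K) {X Y : Pt G} (hX : X.1 ≤ K) (hY : Y.1 ≤ K)
    (h : X ≠ Y) : Adj X Y ∧ X.1 ⊔ Y.1 = K := by
  have hle : X.1 ⊔ Y.1 ≤ K := sup_le hX hY
  have hc : Nat.card (X.1 ⊔ Y.1 : Subgroup G) = 24 := by
    rcases card_sup hG h with e | e
    · exact e.1
    · have := Subgroup.card_le_of_le hle; rw [e.1, hK.1] at this; omega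
  exact ⟨⟨h, hc⟩, Subgroup.eq_of_le_of_card_ge hle (by rw [hc, hK.1])⟩

theorem adj_iff_meet (hG : IsFPF G) {U : Subgroup G} (hU : Ico U)
    {f : U →* alternatingGroup (Fin 5)} (hf : Function.Surjective f) (hker : ∀ k, f k = 1 ↔ k * k = 1)
    {σ : Pt G → Finset (Fin 5)} (hinj : ∀ X Y : Pt G, X.1 ≤ U → Y.1 ≤ U → σ X = σ Y → X = Y)
    (hσ : ∀ (X : Pt G) (hX : X.1 ≤ U), σ X = fixset (f ⟨Pt.gen X, hX (Pt.gen_mem X)⟩))
    {X Y : Pt G} (hX : X.1 ≤ U) (hY : Y.1 ≤ U) : Adj X Y ↔ Meet (σ X) (σ Y) := by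
  by_cases hne : X = Y
  · subst hne
    exact ⟨fun h => absurd rfl h.1, fun h => absurd rfl h.1⟩
  have hsne : σ X ≠ σ Y := fun e => hne (hinj X Y hX hY e)
  have hle : X.1 ⊔ Y.1 ≤ U := sup_le hX hY
  set x : U := ⟨Pt.gen X, hX (Pt.gen_mem X)⟩ with hx
  set y : U := ⟨Pt.gen Y, hY (Pt.gen_mem Y)⟩ with hy
  have hcl : (Subgroup.closure ({x, y} : Set U)).map U.subtype = X.1 ⊔ Y.1 := by
    rw [MonoidHom.map_closure, Set.image_pair, Pt.sup_eq_closure]
    rfl
  have hcardcl : Nat.card (Subgroup.closure ({x, y} : Set U)) = Nat.card (X.1 ⊔ Y.1 : Subgroup G) := by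
    rw [← hcl, Subgroup.card_map_of_injective U.subtype_injective]
  have hord : ∀ u : U, orderOf (u : G) = 3 → f u * f u * f u = 1 ∧ f u ≠ 1 := by
    intro u hu
    rw [Subgroup.orderOf_coe] at hu
    have h3 : u * u * u = 1 := by rw [← pow_three', ← hu, pow_orderOf_eq_one]
    refine ⟨by rw [← map_mul, ← map_mul, h3, map_one], fun e => ?_⟩
    rw [(hker u).mp e, one_mul] at h3
    rw [h3, orderOf_one] at hu; omega
  constructor
  · intro hadj
    refine ⟨hsne, ?_⟩
    by_contra hd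
    rw [hσ X hX, hσ Y hY] at hd
    have h5 : ∃ u ∈ Subgroup.closure ({x, y} : Set U), orderOf (f u) = 5 := by
      haveI : Fact (Nat.Prime 5) := ⟨Nat.prime_five⟩
      have hxm : x ∈ Subgroup.closure ({x, y} : Set U) := Subgroup.subset_closure (Set.mem_insert _ _)
      have hym : y ∈ Subgroup.closure ({x, y} : Set U) :=
        Subgroup.subset_closure (Set.mem_insert_of_mem _ rfl)
      rcases disjoint_five _ _ (hord x (Pt.orderOf_gen X)).1 (hord x (Pt.orderOf_gen X)).2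
        (hord y (Pt.orderOf_gen Y)).1 (hord y (Pt.orderOf_gen Y)).2 hd with ⟨e, e'⟩ | ⟨e, e'⟩
      · exact ⟨x * y, mul_mem hxm hym, by rw [map_mul]; exact orderOf_eq_prime e e'⟩
      · exact ⟨x * y * y, mul_mem (mul_mem hxm hym) hym, by
          rw [map_mul, map_mul]; exact orderOf_eq_prime e e'⟩
    obtain ⟨u, hu, hu5⟩ := h5
    have h : 5 ∣ Nat.card (Subgroup.closure ({x, y} : Set U)) :=
      hu5 ▸ (orderOf_map_dvd f u).trans (Subgroup.orderOf_dvd_natCard _ hu)
    rw [hcardcl, hadj.2] at h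
    norm_num at h
  · rintro ⟨-, hm⟩
    refine ⟨hne, ?_⟩
    rcases card_sup hG hne with e | e
    · exact e.1
    exfalso
    rw [hσ X hX, hσ Y hY] at hm
    obtain ⟨i, hi⟩ := hm
    rw [Finset.mem_inter, fixset, fixset, Finset.mem_filter, Finset.mem_filter] at hi
    obtain ⟨a, ha⟩ := exists_moving i
    have htop : Subgroup.closure ({x, y} : Set U) = ⊤ :=
      Subgroup.eq_top_of_card_eq _ (by rw [hcardcl, e.1, hU.1])
    have hfix : ∀ u : U, (f u : Equiv.Perm (Fin 5)) i = i := by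
      intro u
      have hu : u ∈ Subgroup.closure ({x, y} : Set U) := htop ▸ Subgroup.mem_top u
      induction hu using Subgroup.closure_induction with
      | mem s hs => rcases hs with rfl | rfl; exacts [hi.1.2, hi.2.2]
      | one => rw [map_one]; rfl
      | mul a b _ _ iha ihb => rw [map_mul, Subgroup.coe_mul, Equiv.Perm.mul_apply, ihb, iha]
      | inv a _ iha => rw [map_inv, Subgroup.coe_inv, Equiv.Perm.inv_eq_iff_eq]; exact iha.symm
    obtain ⟨u, rfl⟩ := hf a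
    exact ha (hfix u)

open Finset

/-- The structure of the elements of order three. -/
theorem three_elements (hG : IsFPF G) :
    (∀ g : G, orderOf g ≠ 3) ∨ (∃ x : G, orderOf x = 3 ∧ ∀ g : G, orderOf g = 3 → g ∈ Subgroup.zpowers x) ∨
    ∃ K : Subgroup G, K.Normal ∧ (Tet K ∨ Ico K) ∧ ∀ g : G, orderOf g = 3 → g ∈ K := by
  classical
  haveI : Fintype (Pt G) := Fintype.ofFinite _
  by_cases hne : Nonempty (Pt G)
  swap
  · exact Or.inl fun g hg => hne ⟨Pt.mk' g hg⟩
  by_cases hone : Subsingleton (Pt G)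
  · obtain ⟨X⟩ := hne
    refine Or.inr (Or.inl ⟨Pt.gen X, Pt.orderOf_gen X, fun g hg => ?_⟩)
    rw [Pt.eq_zpowers, ← show Pt.mk' g hg = X from Subsingleton.elim _ _]
    exact Subgroup.mem_zpowers g
  right; right
  suffices H : ∃ K : Subgroup G, (Tet K ∨ Ico K) ∧ ∀ X : Pt G, X.1 ≤ K by
    obtain ⟨K, hK, hall⟩ := H
    refine ⟨K, ?_, hK, fun g hg => hall (Pt.mk' g hg) (Subgroup.mem_zpowers g)⟩
    obtain ⟨X, Y, hXY⟩ : ∃ X Y : Pt G, X.1 ⊔ Y.1 = K := by
      rcases hK with hK | hK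
      · obtain ⟨X, Y, h⟩ := not_subsingleton_iff_nontrivial.mp hone |>.exists_pair_ne
        exact ⟨X, Y, (pts_four hG hK (hall X) (hall Y) h).2⟩
      · obtain ⟨f, hf, hker, σ, hσc, hinj, hsur, hσ⟩ := exists_label hG threeFacts_five hK
        obtain ⟨X, hX, hsX⟩ := hsur {0, 1} (by decide)
        obtain ⟨Y, hY, hsY⟩ := hsur {2, 3} (by decide)
        have hne : X ≠ Y := fun e => by rw [e, hsY] at hsX; exact absurd hsX (by decide)
        have hnadj : ¬ Adj X Y := fun h => by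
          rw [adj_iff_meet hG hK hf hker hinj hσ hX hY, hsX, hsY] at h
          exact absurd h (by decide)
        exact ⟨X, Y, Subgroup.eq_of_le_of_card_ge (sup_le hX hY)
          (by rw [(ico_of_not_adj hG hne hnadj).1, hK.1])⟩
    refine ⟨fun k hk g => ?_⟩
    have hconj : ∀ Z : Pt G, Z.1.map (MulAut.conj g).toMonoidHom ≤ K := fun Z =>
      hall ⟨Z.1.map (MulAut.conj g).toMonoidHom, by
        rw [Subgroup.card_map_of_injective (MulAut.conj g).injective]; exact Z.2⟩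
    have hle : K.map (MulAut.conj g).toMonoidHom ≤ K := by
      rw [← hXY, Subgroup.map_sup, hXY]
      exact sup_le (hconj X) (hconj Y)
    exact hle ⟨k, hk, rfl⟩
  set N : Pt G → Finset (Pt G) := fun X => univ.filter fun Y => Adj X Y with hN
  have hNmem : ∀ X Y, Y ∈ N X ↔ Adj X Y := fun X Y => by simp [hN]
  set pts : Subgroup G → Finset (Pt G) := fun K => univ.filter fun Y => Y.1 ≤ K with hpts
  have hpm : ∀ (K : Subgroup G) (Y : Pt G), Y ∈ pts K ↔ Y.1 ≤ K := fun K Y => by simp [hpts]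
  have h4 : ∀ K : Subgroup G, Tet K → (pts K).card = 4 := by
    intro K hK
    obtain ⟨f, -, -, σ, hσc, hinj, hsur, -⟩ := exists_label hG threeFacts_four hK
    rw [show (4 : ℕ) = ((univ : Finset (Fin 4)).powersetCard 1).card by decide]
    refine Finset.card_bij (fun X _ => σ X) ?_ ?_ ?_
    · intro X hX; rw [Finset.mem_powersetCard]; exact ⟨Finset.subset_univ _, hσc X ((hpm K X).mp hX)⟩
    · intro X hX Y hY e; exact hinj X Y ((hpm K X).mp hX) ((hpm K Y).mp hY) e
    · intro s hs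
      obtain ⟨X, hX, rfl⟩ := hsur s (Finset.mem_powersetCard.mp hs).2
      exact ⟨X, (hpm K X).mpr hX, rfl⟩
  have hblock : ∀ X Y, Adj X Y → (pts (X.1 ⊔ Y.1)).erase Y ⊆ N Y := by
    intro X Y h Z hZ
    rw [Finset.mem_erase, hpm] at hZ
    exact (hNmem Y Z).mpr (pts_four hG (h.tet hG) le_sup_right hZ.2 hZ.1.symm).1
  -- counts inside a binary icosahedral subgroup
  have hico : ∀ U : Subgroup G, Ico U → ∀ X Y : Pt G, X.1 ≤ U → Y.1 ≤ U →
      (N X ∩ pts U).card = 6 ∧ (Adj X Y → (N X ∩ N Y ∩ pts U).card = 3) ∧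
      (X ≠ Y → ¬ Adj X Y → (N X ∩ N Y ∩ pts U).card = 4) := by
    intro U hU
    obtain ⟨f, hf, hker, σ, hσc, hinj, hsur, hσ⟩ := exists_label hG threeFacts_five hU
    have hb : ∀ (P : Pt G → Prop) (Q : Finset (Fin 5) → Prop) [DecidablePred P] [DecidablePred Q],
        (∀ Z : Pt G, Z.1 ≤ U → (P Z ↔ Q (σ Z))) →
        ((pts U).filter P).card = (((univ : Finset (Fin 5)).powersetCard 2).filter Q).card := by
      intro P Q _ _ hPQ
      refine Finset.card_bij (fun Z _ => σ Z) ?_ ?_ ?_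
      · intro Z hZ
        rw [Finset.mem_filter, hpm] at hZ
        rw [Finset.mem_filter, Finset.mem_powersetCard]
        exact ⟨⟨Finset.subset_univ _, hσc Z hZ.1⟩, (hPQ Z hZ.1).mp hZ.2⟩
      · intro Z hZ W hW e
        rw [Finset.mem_filter, hpm] at hZ hW
        exact hinj Z W hZ.1 hW.1 e
      · intro s hs
        rw [Finset.mem_filter, Finset.mem_powersetCard] at hs
        obtain ⟨Z, hZ, rfl⟩ := hsur s hs.1.2
        exact ⟨Z, by rw [Finset.mem_filter, hpm]; exact ⟨hZ, (hPQ Z hZ).mpr hs.2⟩, rfl⟩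
    intro X Y hX hY
    have hm : ∀ {A B : Pt G}, A.1 ≤ U → B.1 ≤ U → (Adj A B ↔ Meet (σ A) (σ B)) :=
      fun hA hB => adj_iff_meet hG hU hf hker hinj hσ hA hB
    refine ⟨?_, fun h => ?_, fun hne h => ?_⟩
    · rw [← meet_deg (σ X) (hσc X hX), ← hb (fun Z => Adj X Z) (Meet (σ X)) fun Z hZ => hm hX hZ]
      congr 1; ext Z; simp [hN, hpts, and_comm]
    · refine Eq.trans ?_ (meet_lam (σ X) (σ Y) (hσc X hX) (hσc Y hY) ((hm hX hY).mp h))
      rw [← hb (fun Z => Adj X Z ∧ Adj Y Z) (fun s => Meet (σ X) s ∧ Meet (σ Y) s)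
          fun Z hZ => by rw [hm hX hZ, hm hY hZ]]
      congr 1; ext Z; simp [hN, hpts]; tauto
    · rw [← meet_mu (σ X) (σ Y) (hσc X hX) (hσc Y hY) (fun e => hne (hinj X Y hX hY e))
          (fun e => h ((hm hX hY).mpr e)),
        ← hb (fun Z => Adj X Z ∧ Adj Y Z) (fun s => Meet (σ X) s ∧ Meet (σ Y) s)
          fun Z hZ => by rw [hm hX hZ, hm hY hZ]]
      congr 1; ext Z; simp [hN, hpts]; tauto
  -- common neighbours of non-adjacent points
  have hmu : ∀ X W : Pt G, X ≠ W → ¬ Adj X W → N X ∩ N W ⊆ pts (X.1 ⊔ W.1) ∧ (N X ∩ N W).card = 4 := by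
    intro X W hne hna
    have hU := ico_of_not_adj hG hne hna
    have hsub : N X ∩ N W ⊆ pts (X.1 ⊔ W.1) := by
      intro Y hY
      rw [Finset.mem_inter, hNmem, hNmem] at hY
      have hW : ¬ W.1 ≤ X.1 ⊔ Y.1 := fun h => hna (pts_four hG (hY.1.tet hG) le_sup_left h hne).1
      have hU' := sup_three hG hY.1 hY.2.symm hW
      rw [hpm, Subgroup.eq_of_le_of_card_ge (sup_le (le_sup_left.trans le_sup_left) le_sup_right :
        X.1 ⊔ W.1 ≤ X.1 ⊔ Y.1 ⊔ W.1) (by rw [hU.1, hU'.1])]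
      exact le_sup_right.trans le_sup_left
    refine ⟨hsub, ?_⟩
    rw [← (hico _ hU X W le_sup_left le_sup_right).2.2 hne hna, Finset.inter_eq_left.mpr hsub]
  -- the key identity
  have hkey : ∀ X Y, Adj X Y → (N Y).card + 3 = 3 * (N X ∩ N Y).card := by
    intro X Y hXY
    set T := X.1 ⊔ Y.1 with hT
    have hTt : Tet T := hXY.tet hG
    set S := N Y \ pts T with hS
    have hbl : (pts T).erase Y ⊆ N Y := hblock X Y hXY
    have hYT : Y ∈ pts T := (hpm T Y).mpr le_sup_right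
    have hXT : X ∈ pts T := (hpm T X).mpr le_sup_left
    have hin : N Y ∩ pts T = (pts T).erase Y := by
      ext Z
      rw [Finset.mem_inter, Finset.mem_erase]
      exact ⟨fun h => ⟨fun e => ((hNmem Y Z).mp h.1).1 e.symm, h.2⟩,
        fun h => ⟨hbl (Finset.mem_erase.mpr h), h.2⟩⟩
    have hk : (N Y).card = 3 + S.card := by
      rw [← Finset.card_sdiff_add_card_inter (N Y) (pts T), hin, Finset.card_erase_of_mem hYT, h4 T hTt, add_comm]
    have hin2 : N X ∩ N Y ∩ pts T = ((pts T).erase Y).erase X := by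
      ext Z
      rw [Finset.mem_inter, Finset.mem_inter, Finset.mem_erase, Finset.mem_erase]
      refine ⟨fun h => ⟨fun e => ((hNmem X Z).mp h.1.1).1 e.symm, fun e => ((hNmem Y Z).mp h.1.2).1 e.symm, h.2⟩,
        fun h => ⟨⟨?_, hbl (Finset.mem_erase.mpr h.2)⟩, h.2.2⟩⟩
      exact (hNmem X Z).mpr (pts_four hG hTt le_sup_left ((hpm T Z).mp h.2.2) h.1.symm).1
    have hl : (N X ∩ N Y).card = 2 + (S ∩ N X).card := by
      have h2 : (N X ∩ N Y ∩ pts T).card = 2 := by
        rw [hin2, Finset.card_erase_of_mem (Finset.mem_erase.mpr ⟨hXY.1, hXT⟩),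
          Finset.card_erase_of_mem hYT, h4 T hTt]
      rw [← Finset.card_sdiff_add_card_inter (N X ∩ N Y) (pts T), h2, add_comm]
      congr 2
      ext Z; simp [hS]; tauto
    -- fibres
    set φ : Pt G → Subgroup G := fun W => Y.1 ⊔ W.1 with hφ
    have hfib : ∀ B ∈ S.image φ, (S.filter fun W => φ W = B).card = 3 ∧
        ((S ∩ N X).filter fun W => φ W = B).card = 1 := by
      intro B hB
      obtain ⟨W, hW, rfl⟩ := Finset.mem_image.mp hB
      rw [hS, Finset.mem_sdiff, hNmem, hpm] at hW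
      have hB4 : Tet (φ W) := hW.1.tet hG
      have hYB : Y ∈ pts (φ W) := (hpm _ Y).mpr le_sup_left
      have hnotT : ∀ Z : Pt G, Z ≠ Y → Z.1 ≤ φ W → ¬ Z.1 ≤ T := fun Z hZY hZB hZT => hW.2 <| by
        rw [← (pts_four hG hTt le_sup_right hZT hZY.symm).2, (pts_four hG hB4 le_sup_left hZB hZY.symm).2]
        exact le_sup_right
      have heq : (S.filter fun Z => φ Z = φ W) = (pts (φ W)).erase Y := by
        ext Z
        rw [Finset.mem_filter, hS, Finset.mem_sdiff, Finset.mem_erase, hpm, hpm, hNmem]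
        constructor
        · rintro ⟨⟨hYZ, -⟩, e⟩
          exact ⟨hYZ.1.symm, e ▸ le_sup_right⟩
        · rintro ⟨hZY, hZ⟩
          obtain ⟨h1, h2⟩ := pts_four hG hB4 le_sup_left hZ hZY.symm
          exact ⟨⟨h1, hnotT Z hZY hZ⟩, h2⟩
      refine ⟨by rw [heq, Finset.card_erase_of_mem hYB, h4 _ hB4], ?_⟩
      set U := X.1 ⊔ Y.1 ⊔ W.1 with hUd
      have hU : Ico U := sup_three hG hXY hW.1 hW.2
      have hTU : T ≤ U := le_sup_left
      have hBU : φ W ≤ U := sup_le (le_sup_right.trans le_sup_left) le_sup_right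
      obtain ⟨hdeg, hlam, -⟩ := hico U hU Y X (le_sup_right.trans le_sup_left) (le_sup_left.trans le_sup_left)
      have hsplit : N Y ∩ pts U = (pts T).erase Y ∪ (pts (φ W)).erase Y := by
        refine (Finset.eq_of_subset_of_card_le (fun Z hZ => ?_) ?_).symm
        · rw [Finset.mem_union] at hZ
          rw [Finset.mem_inter, hpm]
          rcases hZ with hZ | hZ
          · exact ⟨hbl hZ, ((hpm T Z).mp (Finset.mem_of_mem_erase hZ)).trans hTU⟩
          · rw [Finset.mem_erase, hpm] at hZ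
            exact ⟨(hNmem Y Z).mpr (pts_four hG hB4 le_sup_left hZ.2 hZ.1.symm).1, hZ.2.trans hBU⟩
        · rw [hdeg, Finset.card_union_of_disjoint, Finset.card_erase_of_mem hYT, h4 T hTt,
            Finset.card_erase_of_mem hYB, h4 _ hB4]
          rw [Finset.disjoint_left]
          intro Z hZ hZ'
          rw [Finset.mem_erase, hpm] at hZ hZ'
          exact hnotT Z hZ.1 hZ'.2 hZ.2
      have h3 := hlam hXY.symm
      rw [show N Y ∩ N X ∩ pts U = (N X ∩ N Y ∩ pts T) ∪ (((pts (φ W)).erase Y) ∩ N X) by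
        ext Z
        have := Finset.ext_iff.mp hsplit Z
        have := Finset.ext_iff.mp hin Z
        have hTU' : Z ∈ pts T → Z ∈ pts U := fun h => (hpm U Z).mpr (((hpm T Z).mp h).trans hTU)
        simp only [Finset.mem_inter, Finset.mem_union] at *
        tauto, Finset.card_union_of_disjoint, hin2,
        Finset.card_erase_of_mem (Finset.mem_erase.mpr ⟨hXY.1, hXT⟩), Finset.card_erase_of_mem hYT, h4 T hTt] at h3
      · rw [← Finset.filter_inter, heq]
        omega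
      · rw [Finset.disjoint_left]
        intro Z hZ hZ'
        rw [Finset.mem_inter] at hZ hZ'
        rw [Finset.mem_erase, hpm] at hZ'
        exact hnotT Z hZ'.1.1 hZ'.1.2 ((hpm T Z).mp hZ.2)
    have hS3 : S.card = 3 * (S.image φ).card := by
      rw [Finset.card_eq_sum_card_image φ S, Finset.sum_congr rfl fun B hB => (hfib B hB).1,
        Finset.sum_const, smul_eq_mul, mul_comm]
    have hS1 : (S ∩ N X).card = (S.image φ).card := by
      rw [Finset.card_eq_sum_card_fiberwise (f := φ) (t := S.image φ)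
        (fun Z hZ => Finset.mem_image_of_mem φ (Finset.mem_inter.mp hZ).1),
        Finset.sum_congr rfl fun B hB => (hfib B hB).2, Finset.sum_const, smul_eq_mul, mul_one]
    omega
  -- regularity
  have hreg : ∀ X Y : Pt G, (N X).card = (N Y).card := by
    have h1 : ∀ X Y, Adj X Y → (N X).card = (N Y).card := fun X Y h => by
      have a := hkey X Y h
      have b := hkey Y X h.symm
      rw [Finset.inter_comm] at b
      omega
    intro X Y
    by_cases h : X = Y
    · rw [h]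
    by_cases ha : Adj X Y
    · exact h1 X Y ha
    obtain ⟨Z, hZ⟩ := Finset.card_pos.mp (by rw [(hmu X Y h ha).2]; norm_num : 0 < (N X ∩ N Y).card)
    rw [Finset.mem_inter, hNmem, hNmem] at hZ
    exact (h1 X Z hZ.1).trans (h1 Y Z hZ.2).symm
  obtain ⟨X₀, W₀, hXW⟩ := not_subsingleton_iff_nontrivial.mp hone |>.exists_pair_ne
  obtain ⟨Y₀, hXY⟩ : ∃ Y, Adj X₀ Y := by
    by_cases h : Adj X₀ W₀
    · exact ⟨W₀, h⟩
    obtain ⟨Z, hZ⟩ := Finset.card_pos.mp (by rw [(hmu _ _ hXW h).2]; norm_num : 0 < (N X₀ ∩ N W₀).card)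
    exact ⟨Z, (hNmem _ _).mp (Finset.mem_inter.mp hZ).1⟩
  set k := (N X₀).card
  have hk3 : 3 ≤ k := by
    rw [show k = (N Y₀).card from hreg _ _]
    refine le_trans ?_ (Finset.card_le_card (hblock X₀ Y₀ hXY))
    rw [Finset.card_erase_of_mem ((hpm _ _).mpr le_sup_right), h4 _ (hXY.tet hG)]
  obtain ⟨j, hj⟩ : ∃ j, k + 3 = 3 * j := ⟨_, by rw [show k = (N Y₀).card from hreg _ _]; exact hkey _ _ hXY⟩
  by_cases hk9 : 9 ≤ k
  · exfalso
    refine no_srg (α := Pt G) Adj (fun a b => Adj.symm) (fun a h => h.1 rfl) (k := k) (l := j)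
      (fun a => hreg a X₀) (fun a b h => ?_) (fun a b hne h => ?_) hj (by omega)
    · have := hkey a b h
      rw [show (N b).card = k from hreg b X₀] at this
      rw [show (univ.filter fun c => Adj a c ∧ Adj b c) = N a ∩ N b by ext; simp [hN]]
      omega
    · rw [show (univ.filter fun c => Adj a c ∧ Adj b c) = N a ∩ N b by ext; simp [hN]]
      exact (hmu a b hne h).2
  rcases (show k = 3 ∨ k = 6 by omega) with hk | hk
  · refine ⟨X₀.1 ⊔ Y₀.1, Or.inl (hXY.tet hG), ?_⟩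
    intro Z
    by_cases hZ : Z = X₀
    · rw [hZ]; exact le_sup_left
    have hna : Adj X₀ Z := by
      by_contra hna
      have := (hico _ (ico_of_not_adj hG (Ne.symm hZ) hna) X₀ Z le_sup_left le_sup_right).1
      have h' := Finset.card_le_card (Finset.inter_subset_left (s₁ := N X₀) (s₂ := pts (X₀.1 ⊔ Z.1)))
      omega
    have hbl : (pts (Y₀.1 ⊔ X₀.1)).erase X₀ = N X₀ := Finset.eq_of_subset_of_card_le (hblock Y₀ X₀ hXY.symm)
      (by rw [Finset.card_erase_of_mem ((hpm _ _).mpr le_sup_right), h4 _ (hXY.symm.tet hG)]; omega)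
    have := (hNmem X₀ Z).mpr hna
    rw [← hbl, Finset.mem_erase, hpm, sup_comm] at this
    exact this.2
  · obtain ⟨W, hW, hWT⟩ : ∃ W, Adj Y₀ W ∧ ¬ W.1 ≤ X₀.1 ⊔ Y₀.1 := by
      by_contra hcon
      have hsub : N Y₀ ⊆ (pts (X₀.1 ⊔ Y₀.1)).erase Y₀ := fun W hW => by
        rw [hNmem] at hW
        rw [Finset.mem_erase, hpm]
        exact ⟨hW.1.symm, by_contra fun h => hcon ⟨W, hW, h⟩⟩
      have := Finset.card_le_card hsub
      rw [Finset.card_erase_of_mem ((hpm _ _).mpr le_sup_right), h4 _ (hXY.tet hG),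
        show (N Y₀).card = k from hreg _ _] at this
      omega
    set U := X₀.1 ⊔ Y₀.1 ⊔ W.1
    have hU : Ico U := sup_three hG hXY hW hWT
    have hclosed : ∀ Z : Pt G, Z.1 ≤ U → ∀ Q, Adj Z Q → Q.1 ≤ U := fun Z hZ Q hQ => by
      have h6 := (hico U hU Z Z hZ hZ).1
      have heq : N Z ∩ pts U = N Z := Finset.eq_of_subset_of_card_le Finset.inter_subset_left
        (by rw [h6, show (N Z).card = k from hreg _ _, hk])
      have := (hNmem Z Q).mpr hQ
      rw [← heq, Finset.mem_inter, hpm] at this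
      exact this.2
    refine ⟨U, Or.inr hU, fun Q => ?_⟩
    have hX0 : X₀.1 ≤ U := le_sup_left.trans le_sup_left
    by_cases hQ : X₀ = Q
    · exact hQ ▸ hX0
    by_cases ha : Adj X₀ Q
    · exact hclosed X₀ hX0 Q ha
    obtain ⟨Z, hZ⟩ := Finset.card_pos.mp (by rw [(hmu _ _ hQ ha).2]; norm_num : 0 < (N X₀ ∩ N Q).card)
    rw [Finset.mem_inter, hNmem, hNmem] at hZ
    exact hclosed Z (hclosed X₀ hX0 Z hZ.1) Q hZ.2.symm

end Cfsg.Agent.Lib.Frobenius.Zassenhaus
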