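import Mathlib.GroupTheory.SpecificGroups.Quaternion
import Mathlib.GroupTheory.SpecificGroups.Cyclic
import Mathlib.FieldTheory.Finite.Basic

/-!
Automorphisms of odd order of cyclic and quaternion `2`-groups.
-/

set_option autoImplicit false

namespace Cfsg.Agent.Lib.Frobenius.Zassenhaus

open QuaternionGroup

theorem cyclic_aut_odd {C : Type*} [Group C] [Finite C] [IsCyclic C] {e : ℕ} (hC : Nat.card C = 2 ^ e)
    (σ : MulAut C) {k : ℕ} (hk : Odd k) (hσ : σ ^ k = 1) : σ = 1 := by
  have h1 : orderOf σ ∣ k := orderOf_dvd_of_pow_eq_one hσ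
  have h2 : orderOf σ ∣ Nat.card (MulAut C) := orderOf_dvd_natCard σ
  rw [IsCyclic.card_mulAut, hC] at h2
  apply orderOf_eq_one_iff.mp
  rcases Nat.eq_zero_or_pos e with rfl | he
  · simpa using h2
  rw [Nat.totient_prime_pow Nat.prime_two he, show (2 : ℕ) - 1 = 1 from rfl, mul_one] at h2
  exact Nat.eq_one_of_dvd_coprimes
    ((Nat.prime_two.coprime_iff_not_dvd.mpr (Nat.two_dvd_ne_zero.mpr (Nat.odd_iff.mp hk))).pow_left (e - 1)) h2 h1

/-- The map attached to images of the two generators. -/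
def qmap (u v : QuaternionGroup 2) : QuaternionGroup 2 → QuaternionGroup 2
  | .a i => u ^ i.val
  | .xa i => v * u ^ i.val

theorem qmap_iterate : ∀ u v : QuaternionGroup 2,
    (∀ p q, qmap u v (p * q) = qmap u v p * qmap u v q) → (∀ p q, qmap u v p = qmap u v q → p = q) →
    ∀ q, (qmap u v)^[24] q = q := by decide +kernel

theorem qmap_center : ∀ p : QuaternionGroup 2, (∀ q, p * q = q * p) → p * p = 1 := by decide +kernel

theorem aut_pow_twenty_four (σ : MulAut (QuaternionGroup 2)) : σ ^ 24 = 1 := by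
  set u := σ (.a 1)
  set v := σ (.xa 0)
  have hσ : ∀ q, σ q = qmap u v q := by
    rintro (i | i)
    · have e : (QuaternionGroup.a i : QuaternionGroup 2) = QuaternionGroup.a 1 ^ i.val := by
        rw [a_one_pow, ZMod.natCast_zmod_val]
      conv_lhs => rw [e, map_pow]
      rfl
    · have e : (QuaternionGroup.xa i : QuaternionGroup 2) = .xa 0 * QuaternionGroup.a 1 ^ i.val := by
        rw [a_one_pow, ZMod.natCast_zmod_val, xa_mul_a, zero_add]
      conv_lhs => rw [e, map_mul, map_pow]
      rfl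
  have hfun : ⇑σ = qmap u v := funext hσ
  have h := qmap_iterate u v (fun p q => by rw [← hσ, ← hσ, ← hσ, map_mul])
    (fun p q h => σ.injective (by rw [hσ, hσ, h]))
  have hit : ∀ (n : ℕ) (q : QuaternionGroup 2), (σ ^ n) q = (qmap u v)^[n] q := by
    intro n
    induction n with
    | zero => intro q; rfl
    | succ n ih => intro q; rw [pow_succ, MulAut.mul_apply, ih, hσ, Function.iterate_succ_apply]
  apply MulEquiv.ext
  intro q
  rw [hit, h]
  rfl

theorem quaternion_aut_odd {n m : ℕ} (hn : n = 2 ^ (m + 2)) (σ : MulAut (QuaternionGroup n)) {k : ℕ}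
    (hk : Odd k) (hσ : σ ^ k = 1) : σ = 1 := by
  subst hn
  have h2 : 2 * 2 ^ (m + 2) = 2 ^ (m + 3) := by ring
  have ho : orderOf (σ (QuaternionGroup.a 1)) = 2 * 2 ^ (m + 2) := by
    rw [MulEquiv.orderOf_eq σ, orderOf_a_one]
  rcases hi : σ (QuaternionGroup.a 1) with i | i
  swap
  · rw [hi, orderOf_xa] at ho
    have : (4 : ℕ) ≤ 2 ^ (m + 2) := by
      calc (4 : ℕ) = 2 ^ 2 := rfl
        _ ≤ 2 ^ (m + 2) := Nat.pow_le_pow_right two_pos (by omega)
    omega
  have ha : ∀ t, σ (QuaternionGroup.a t) = QuaternionGroup.a (i * t) := by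
    intro t
    conv_lhs => rw [← ZMod.natCast_zmod_val t, ← a_one_pow, map_pow, hi]
    conv_rhs => rw [← ZMod.natCast_zmod_val t]
    induction t.val with
    | zero => rw [pow_zero, Nat.cast_zero, mul_zero]; exact one_def
    | succ j ih => rw [pow_succ (QuaternionGroup.a i) j, ih, a_mul_a, Nat.cast_succ, mul_add, mul_one]
  have hit : ∀ j : ℕ, (σ ^ j) (QuaternionGroup.a 1) = QuaternionGroup.a (i ^ j) := by
    intro j
    induction j with
    | zero => rw [pow_zero, pow_zero]; rfl
    | succ j ih => rw [pow_succ' σ j, MulAut.mul_apply, ih, ha, pow_succ' i j]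
  have hik : i ^ k = 1 := by
    have := hit k
    rw [hσ, MulAut.one_apply] at this
    exact (QuaternionGroup.a.inj this).symm
  have hi1 : i = 1 := by
    have hu : IsUnit i := IsUnit.of_pow_eq_one hik hk.pos.ne'
    obtain ⟨w, rfl⟩ := hu
    have hw : w ^ k = 1 := Units.ext (by rw [Units.val_pow_eq_pow_val, hik, Units.val_one])
    have h1 : orderOf w ∣ k := orderOf_dvd_of_pow_eq_one hw
    have h3 : orderOf w ∣ 2 ^ (m + 2) := by
      have h := orderOf_dvd_natCard w
      rw [Nat.card_eq_fintype_card, ZMod.card_units_eq_totient] at h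
      have e : Nat.totient (2 * 2 ^ (m + 2)) = 2 ^ (m + 2) := by
        rw [h2, Nat.totient_prime_pow Nat.prime_two (by omega), show (2 : ℕ) - 1 = 1 from rfl, mul_one,
          show m + 3 - 1 = m + 2 by omega]
      exact h.trans e.dvd
    rw [orderOf_eq_one_iff.mp (Nat.eq_one_of_dvd_coprimes
      ((Nat.prime_two.coprime_iff_not_dvd.mpr (Nat.two_dvd_ne_zero.mpr (Nat.odd_iff.mp hk))).pow_left _) h3 h1)]
    rfl
  subst hi1
  have ha' : ∀ t, σ (QuaternionGroup.a t) = QuaternionGroup.a t := fun t => by rw [ha, one_mul]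
  rcases ht : σ (QuaternionGroup.xa 0) with t | t
  · exfalso
    have := σ.injective (ht.trans (ha' t).symm)
    cases this
  have hxa : ∀ s, σ (QuaternionGroup.xa s) = QuaternionGroup.xa (t + s) := fun s => by
    rw [show (QuaternionGroup.xa s : QuaternionGroup (2 ^ (m + 2))) = .xa 0 * .a s by rw [xa_mul_a, zero_add],
      map_mul, ht, ha', xa_mul_a]
  have hitx : ∀ j : ℕ, (σ ^ j) (QuaternionGroup.xa 0) = QuaternionGroup.xa ((j : ZMod _) * t) := by
    intro j
    induction j with
    | zero => rw [pow_zero, Nat.cast_zero, zero_mul]; rfl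
    | succ j ih => rw [pow_succ' σ j, MulAut.mul_apply, ih, hxa, Nat.cast_succ, add_mul, one_mul, add_comm t]
  have hkt : (k : ZMod (2 * 2 ^ (m + 2))) * t = 0 := by
    have := hitx k
    rw [hσ, MulAut.one_apply] at this
    exact (QuaternionGroup.xa.inj this).symm
  have hu : IsUnit (k : ZMod (2 * 2 ^ (m + 2))) := by
    rw [ZMod.isUnit_iff_coprime, h2]
    exact Nat.Coprime.pow_right _ (Nat.coprime_two_right.mpr hk)
  have ht0 : t = 0 := hu.mul_right_eq_zero.mp hkt
  apply MulEquiv.ext
  rintro (s | s)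
  · rw [ha']; rfl
  · rw [hxa, ht0, zero_add]; rfl

end Cfsg.Agent.Lib.Frobenius.Zassenhaus
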