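import Cfsg.Agent.Lib.Frobenius.Zassenhaus.Trichotomy

/-!
The quotient of a fixed-point-free group by its largest normal subgroup with cyclic Sylow subgroups.
-/

set_option autoImplicit false
set_option linter.style.haveILetI false
set_option linter.unusedSectionVars false

namespace Cfsg.Agent.Lib.Frobenius.Zassenhaus

open scoped commutatorElement

/-- The double transposition used as a marker. -/
def dbl (n : ℕ) (h : 4 ≤ n) : Equiv.Perm (Fin n) :=
  Equiv.swap ⟨0, by omega⟩ ⟨1, by omega⟩ * Equiv.swap ⟨2, by omega⟩ ⟨3, by omega⟩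

/-- A second double transposition, commuting with the first. -/
def dbl' (n : ℕ) (h : 4 ≤ n) : Equiv.Perm (Fin n) :=
  Equiv.swap ⟨0, by omega⟩ ⟨2, by omega⟩ * Equiv.swap ⟨1, by omega⟩ ⟨3, by omega⟩

/-- Facts on `Sym(4)` and `Sym(5)`. -/
structure PermFacts (n : ℕ) (h : 4 ≤ n) : Prop where
  mem : ∀ M : Subgroup (Equiv.Perm (Fin n)), M ≠ ⊥ →
    (∀ a : alternatingGroup (Fin n), ∀ m ∈ M, (a : Equiv.Perm (Fin n)) * m * (a : Equiv.Perm (Fin n))⁻¹ ∈ M) →
      dbl n h ∈ M ∧ dbl' n h ∈ M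
  dbl_spec : dbl n h * dbl n h = 1 ∧ dbl' n h * dbl' n h = 1 ∧ dbl n h ≠ 1 ∧ dbl' n h ≠ 1 ∧
    dbl n h ≠ dbl' n h ∧ dbl n h * dbl' n h = dbl' n h * dbl n h ∧
    ∃ a : alternatingGroup (Fin n), (a : Equiv.Perm (Fin n)) * dbl n h ≠ dbl n h * (a : Equiv.Perm (Fin n))

theorem moved_four : ∀ g : Equiv.Perm (Fin 4), g ≠ 1 → ∃ a : alternatingGroup (Fin 4),
    (a : Equiv.Perm (Fin 4)) * g ≠ g * (a : Equiv.Perm (Fin 4)) := by decide +kernel

theorem moved_five : ∀ g : Equiv.Perm (Fin 5), g ≠ 1 → ∃ a : alternatingGroup (Fin 5),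
    (a : Equiv.Perm (Fin 5)) * g ≠ g * (a : Equiv.Perm (Fin 5)) := by decide +kernel

/-- A normalised non-trivial subgroup meets the alternating group. -/
theorem exists_even {n : ℕ} (hmov : ∀ g : Equiv.Perm (Fin n), g ≠ 1 → ∃ a : alternatingGroup (Fin n),
      (a : Equiv.Perm (Fin n)) * g ≠ g * (a : Equiv.Perm (Fin n)))
    {M : Subgroup (Equiv.Perm (Fin n))} (hM : M ≠ ⊥)
    (hnorm : ∀ a : alternatingGroup (Fin n), ∀ m ∈ M, (a : Equiv.Perm (Fin n)) * m * (a : Equiv.Perm (Fin n))⁻¹ ∈ M) :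
    M.subgroupOf (alternatingGroup (Fin n)) ≠ ⊥ ∧ (M.subgroupOf (alternatingGroup (Fin n))).Normal := by
  refine ⟨fun e => ?_, ⟨fun m hm a => hnorm a m hm⟩⟩
  obtain ⟨⟨g, hg⟩, hg1⟩ := Subgroup.ne_bot_iff_exists_ne_one.mp hM
  obtain ⟨a, ha⟩ := hmov g (fun e => hg1 (Subtype.ext e))
  set c := (a : Equiv.Perm (Fin n)) * g * (a : Equiv.Perm (Fin n))⁻¹ * g⁻¹ with hc
  have hcA : c ∈ alternatingGroup (Fin n) := by
    rw [Equiv.Perm.mem_alternatingGroup]
    simp only [c, map_mul, map_inv, Equiv.Perm.mem_alternatingGroup.mp a.2]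
    group
  have hcM : (⟨c, hcA⟩ : alternatingGroup (Fin n)) ∈ M.subgroupOf (alternatingGroup (Fin n)) :=
    mul_mem (hnorm a g hg) (inv_mem hg)
  rw [e, Subgroup.mem_bot] at hcM
  have h1 : c = 1 := congrArg Subtype.val hcM
  rw [hc, mul_inv_eq_one, mul_inv_eq_iff_eq_mul] at h1
  exact ha h1

theorem four_inv : ∀ c : alternatingGroup (Fin 4), c ≠ 1 →
    ∃ b : alternatingGroup (Fin 4), (b * c * b⁻¹ * c⁻¹) * (b * c * b⁻¹ * c⁻¹) = 1 ∧ b * c * b⁻¹ * c⁻¹ ≠ 1 := by
  decide +kernel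

theorem four_conj : ∀ c : alternatingGroup (Fin 4), c * c = 1 → c ≠ 1 → ∃ a b : alternatingGroup (Fin 4),
    ((a * c * a⁻¹ : alternatingGroup (Fin 4)) : Equiv.Perm (Fin 4)) = dbl 4 le_rfl ∧
      ((b * c * b⁻¹ : alternatingGroup (Fin 4)) : Equiv.Perm (Fin 4)) = dbl' 4 le_rfl := by decide +kernel

theorem permFacts_four : PermFacts 4 le_rfl := by
  refine ⟨fun M hM hnorm => ?_, by decide +kernel⟩
  obtain ⟨hne, hn⟩ := exists_even moved_four hM hnorm
  obtain ⟨⟨c, hc⟩, hc1⟩ := Subgroup.ne_bot_iff_exists_ne_one.mp hne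
  obtain ⟨b, hb2, hb1⟩ := four_inv c (fun e => hc1 (Subtype.ext e))
  set d := b * c * b⁻¹ * c⁻¹
  have hd : d ∈ M.subgroupOf (alternatingGroup (Fin 4)) := mul_mem (hn.conj_mem c hc b) (inv_mem hc)
  obtain ⟨u, v, hu, hv⟩ := four_conj d hb2 hb1
  exact ⟨hu ▸ hn.conj_mem d hd u, hv ▸ hn.conj_mem d hd v⟩

theorem permFacts_five : PermFacts 5 (by norm_num) := by
  refine ⟨fun M hM hnorm => ?_, by decide +kernel⟩
  obtain ⟨hne, hn⟩ := exists_even moved_five hM hnorm
  have htop := (Subgroup.Normal.eq_bot_or_eq_top (G := alternatingGroup (Fin 5)) hn).resolve_left hne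
  rw [Subgroup.subgroupOf_eq_top] at htop
  exact ⟨htop (by rw [Equiv.Perm.mem_alternatingGroup]; decide +kernel),
    htop (by rw [Equiv.Perm.mem_alternatingGroup]; decide +kernel)⟩

/-- Two commuting involutions generate a non-cyclic group. -/
theorem not_isZGroup_of_dbl {T : Type*} [Group T] [Finite T] {x y : T} (hx : x * x = 1) (hy : y * y = 1)
    (hx1 : x ≠ 1) (hy1 : y ≠ 1) (hxy : x ≠ y) (hc : x * y = y * x) : ¬ IsZGroup T := by
  intro hZ
  let V : Subgroup T :=
    { carrier := {t | t = 1 ∨ t = x ∨ t = y ∨ t = x * y}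
      one_mem' := Or.inl rfl
      mul_mem' := by
        have h1 : x * (x * y) = y := by rw [← mul_assoc, hx, one_mul]
        have h2 : y * (x * y) = x := by rw [hc, ← mul_assoc, hy, one_mul]
        have h3 : x * y * x = y := by rw [hc, mul_assoc, hx, mul_one]
        have h4 : x * y * y = x := by rw [mul_assoc, hy, mul_one]
        have h5 : x * y * (x * y) = 1 := by rw [← mul_assoc, h3, hy]
        rintro a b (rfl | rfl | rfl | rfl) (rfl | rfl | rfl | rfl) <;>
          simp [hx, hy, h1, h2, h3, h4, h5, ← hc]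
      inv_mem' := by
        rintro a (rfl | rfl | rfl | rfl)
        · exact Or.inl inv_one
        · exact Or.inr (Or.inl (inv_eq_of_mul_eq_one_right hx))
        · exact Or.inr (Or.inr (Or.inl (inv_eq_of_mul_eq_one_right hy)))
        · refine Or.inr (Or.inr (Or.inr ?_))
          rw [mul_inv_rev, inv_eq_of_mul_eq_one_right hx, inv_eq_of_mul_eq_one_right hy, hc] }
  have hV : IsPGroup 2 V := by
    rintro ⟨t, ht⟩
    refine ⟨1, Subtype.ext ?_⟩
    show t ^ (2 ^ 1) = 1
    rw [pow_one, pow_two]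
    rcases ht with rfl | rfl | rfl | rfl
    · exact one_mul 1
    · exact hx
    · exact hy
    · rw [show x * y * (x * y) = x * (y * x) * y by group, ← hc, show x * (x * y) * y = (x * x) * (y * y) by group, hx, hy, one_mul]
  obtain ⟨P, hP⟩ := hV.exists_le_sylow
  haveI : IsCyclic P := hZ.isZGroup 2 Nat.prime_two P
  haveI : IsCyclic V := isCyclic_of_injective (Subgroup.inclusion hP) (Subgroup.inclusion_injective hP)
  classical
  haveI := Fintype.ofFinite V
  have hle := IsCyclic.card_pow_eq_one_le (α := V) (n := 2) two_pos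
  have hsub : ({1, ⟨x, Or.inr (Or.inl rfl)⟩, ⟨y, Or.inr (Or.inr (Or.inl rfl))⟩} : Finset V) ⊆
      Finset.univ.filter fun a => a ^ 2 = 1 := by
    intro a ha
    simp only [Finset.mem_insert, Finset.mem_singleton] at ha
    rw [Finset.mem_filter]
    refine ⟨Finset.mem_univ _, ?_⟩
    rcases ha with rfl | rfl | rfl
    · exact one_pow 2
    · exact Subtype.ext (show x ^ 2 = 1 by rw [pow_two, hx])
    · exact Subtype.ext (show y ^ 2 = 1 by rw [pow_two, hy])
  have hcard := Finset.card_le_card hsub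
  rw [Finset.card_insert_of_notMem (by simp [Subtype.ext_iff, hx1.symm, hy1.symm]),
    Finset.card_insert_of_notMem (by simp [hxy]), Finset.card_singleton] at hcard
  omega

/-- The quotient condition of the statement. -/
def QuotientType {G : Type*} [Group G] (N : Subgroup G) : Prop :=
  N = ⊤ ∨
    (∃ f : G →* DihedralGroup 2, Function.Surjective f ∧ f.ker = N) ∨
    (∃ f : G →* alternatingGroup (Fin 4), Function.Surjective f ∧ f.ker = N) ∨
    (∃ f : G →* Equiv.Perm (Fin 4), Function.Surjective f ∧ f.ker = N) ∨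
    (∃ f : G →* alternatingGroup (Fin 5), Function.Surjective f ∧ f.ker = N) ∨
    (∃ f : G →* Equiv.Perm (Fin 5), Function.Surjective f ∧ f.ker = N)

variable {G : Type*} [Group G] [Finite G]

theorem noFourImage_alt {n : ℕ} {h : 4 ≤ n} (hf : PermFacts n h) {f : G →* Equiv.Perm (Fin n)}
    (hr : alternatingGroup (Fin n) ≤ f.range) : ¬ IsZGroup G := by
  intro hZ
  obtain ⟨h1, h2, h3, h4, h5, h6, -⟩ := hf.dbl_spec
  haveI : IsZGroup f.range := IsZGroup.of_surjective f.rangeRestrict_surjective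
  have hA : ∀ {c : Equiv.Perm (Fin n)}, (c = dbl n h ∨ c = dbl' n h) → c ∈ f.range := fun hc => hr (by
    rw [Equiv.Perm.mem_alternatingGroup]
    rcases hc with rfl | rfl <;> simp [dbl, dbl', Equiv.Perm.sign_swap])
  exact not_isZGroup_of_dbl (x := (⟨_, hA (Or.inl rfl)⟩ : f.range)) (y := ⟨_, hA (Or.inr rfl)⟩)
    (Subtype.ext h1) (Subtype.ext h2) (fun e => h3 (congrArg Subtype.val e))
    (fun e => h4 (congrArg Subtype.val e)) (fun e => h5 (congrArg Subtype.val e)) (Subtype.ext h6) inferInstance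

/-- Quotients of the listed types are detected by a map to a symmetric group. -/
theorem quotientType_cases {N : Subgroup G} (h : QuotientType N) :
    N = ⊤ ∨ (∃ f : G →* DihedralGroup 2, Function.Surjective f ∧ f.ker = N) ∨
    ∃ (n : ℕ) (hn : 4 ≤ n), PermFacts n hn ∧
      ∃ f : G →* Equiv.Perm (Fin n), f.ker = N ∧ alternatingGroup (Fin n) ≤ f.range := by
  rcases h with h | h | ⟨f, hf, hk⟩ | ⟨f, hf, hk⟩ | ⟨f, hf, hk⟩ | ⟨f, hf, hk⟩
  · exact Or.inl h
  · exact Or.inr (Or.inl h)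
  · refine Or.inr (Or.inr ⟨4, le_rfl, permFacts_four, (alternatingGroup (Fin 4)).subtype.comp f, ?_, ?_⟩)
    · rw [← hk]; exact MonoidHom.ker_comp_of_injective _ _ (Subgroup.subtype_injective _)
    · intro a ha; obtain ⟨g, hg⟩ := hf ⟨a, ha⟩; exact ⟨g, congrArg Subtype.val hg⟩
  · exact Or.inr (Or.inr ⟨4, le_rfl, permFacts_four, f, hk, fun a _ => hf a⟩)
  · refine Or.inr (Or.inr ⟨5, by norm_num, permFacts_five, (alternatingGroup (Fin 5)).subtype.comp f, ?_, ?_⟩)
    · rw [← hk]; exact MonoidHom.ker_comp_of_injective _ _ (Subgroup.subtype_injective _)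
    · intro a ha; obtain ⟨g, hg⟩ := hf ⟨a, ha⟩; exact ⟨g, congrArg Subtype.val hg⟩
  · exact Or.inr (Or.inr ⟨5, by norm_num, permFacts_five, f, hk, fun a _ => hf a⟩)

theorem quotientType_of_range {n : ℕ} (hn : n = 4 ∨ n = 5) {F : G →* Equiv.Perm (Fin n)}
    (hr : alternatingGroup (Fin n) ≤ F.range) : QuotientType F.ker := by
  classical
  haveI : Nontrivial (Fin n) := Fin.nontrivial_iff_two_le.mpr (by omega)
  by_cases hsur : Function.Surjective F
  · rcases hn with rfl | rfl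
    · exact Or.inr (Or.inr (Or.inr (Or.inl ⟨F, hsur, rfl⟩)))
    · exact Or.inr (Or.inr (Or.inr (Or.inr (Or.inr ⟨F, hsur, rfl⟩))))
  have he : F.range = alternatingGroup (Fin n) := by
    by_contra hne
    apply hsur
    rw [← MonoidHom.range_eq_top]
    have hlt : (alternatingGroup (Fin n)).index = 2 := alternatingGroup.index_eq_two
    have := Subgroup.index_dvd_of_le hr
    rw [hlt] at this
    rcases (Nat.dvd_prime Nat.prime_two).mp this with e | e
    · exact Subgroup.index_eq_one.mp e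
    · exfalso
      have h2 := Subgroup.relIndex_mul_index hr
      rw [hlt, e] at h2
      exact hne (le_antisymm (Subgroup.relIndex_eq_one.mp (by omega)) hr)
  have hmem : ∀ g, F g ∈ alternatingGroup (Fin n) := fun g => he.le ⟨g, rfl⟩
  have hsur' : Function.Surjective (F.codRestrict _ hmem) := fun a => by
    obtain ⟨g, hg⟩ := he.ge a.2
    exact ⟨g, Subtype.ext hg⟩
  have hk : (F.codRestrict _ hmem).ker = F.ker := MonoidHom.ker_codRestrict _ _ _
  rcases hn with rfl | rfl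
  · exact Or.inr (Or.inr (Or.inl ⟨_, hsur', hk⟩))
  · exact Or.inr (Or.inr (Or.inr (Or.inr (Or.inl ⟨_, hsur', hk⟩))))

theorem IsFPF.isZGroup_of_sq (hG : IsFPF G) (C : Subgroup G)
    (h : ∀ c ∈ C, (∃ k, orderOf c = 2 ^ k) → c * c = 1) : IsZGroup C := by
  refine ⟨fun p hp P => ?_⟩
  haveI := Fact.mk hp
  by_cases hp2 : p = 2
  · subst hp2
    refine (hG.subgroup C).isCyclic_of_comm _ fun a ha b _ => ?_
    obtain ⟨j, hj⟩ := IsPGroup.iff_orderOf.mp P.isPGroup' ⟨a, ha⟩
    rw [Subgroup.orderOf_mk] at hj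
    exact Subtype.ext (hG.central_of_sq (h (a : G) a.2 ⟨j, by rw [Subgroup.orderOf_coe]; exact hj⟩) (b : G)).symm
  · exact (hG.subgroup C).isCyclic_odd hp2 _ P.isPGroup'

/-- Uniqueness in the cases with a large normal subgroup `L`. -/
theorem IsFPF.eq_core (hG : IsFPF G) {n : ℕ} {h : 4 ≤ n} (hf : PermFacts n h) {F : G →* Equiv.Perm (Fin n)}
    (hr : alternatingGroup (Fin n) ≤ F.range) {L : Subgroup G} [L.Normal]
    (hLC : ∀ c, F c = 1 → ∀ l ∈ L, c * l = l * c) (hsq : ∀ l ∈ L, F l = 1 → l * l = 1)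
    (hL : ∃ l ∈ L, F l ≠ 1) (hV4 : ∀ f : G →* DihedralGroup 2, ¬ IsZGroup f.ker)
    {N : Subgroup G} [N.Normal] (hN : IsZGroup N) (hT : QuotientType N) : N = F.ker := by
  haveI := hN
  have hNC : N ≤ F.ker := by
    by_contra hle
    have hne : N.map F ≠ ⊥ := fun e => hle ((Subgroup.map_eq_bot_iff N).mp e)
    obtain ⟨hx, hy⟩ := hf.mem _ hne fun a m hm => by
      obtain ⟨k, hk, rfl⟩ := hm
      obtain ⟨g, hg⟩ := hr a.2
      exact ⟨g * k * g⁻¹, (inferInstance : N.Normal).conj_mem k hk g, by rw [map_mul, map_mul, map_inv, hg]⟩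
    obtain ⟨h1, h2, h3, h4, h5, h6, -⟩ := hf.dbl_spec
    haveI : IsZGroup (F.comp N.subtype).range := IsZGroup.of_surjective (MonoidHom.rangeRestrict_surjective _)
    have hr' : N.map F = (F.comp N.subtype).range := by
      rw [MonoidHom.range_comp, Subgroup.range_subtype]
    rw [hr'] at hx hy
    exact not_isZGroup_of_dbl (x := (⟨_, hx⟩ : (F.comp N.subtype).range)) (y := ⟨_, hy⟩)
      (Subtype.ext h1) (Subtype.ext h2) (fun e => h3 (congrArg Subtype.val e))
      (fun e => h4 (congrArg Subtype.val e)) (fun e => h5 (congrArg Subtype.val e)) (Subtype.ext h6) inferInstance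
  refine le_antisymm hNC ?_
  rcases quotientType_cases hT with e | ⟨f, -, hk⟩ | ⟨m, hm, hfm, f, hk, hfr⟩
  · rw [e]; exact le_top
  · exact absurd (hk ▸ hN) (hV4 f)
  intro c hc
  rw [← hk]
  by_contra hfc
  obtain ⟨l, hlL, hl⟩ := hL
  have hLne : L.map f ≠ ⊥ := fun e => hl ((MonoidHom.mem_ker).mp (hNC (hk ▸ (Subgroup.map_eq_bot_iff L).mp e hlL)))
  have hCne : F.ker.map f ≠ ⊥ := fun e => hfc ((Subgroup.map_eq_bot_iff _).mp e hc)
  have hconj : ∀ (K : Subgroup G) [K.Normal], ∀ a : alternatingGroup (Fin m), ∀ u ∈ K.map f,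
      (a : Equiv.Perm (Fin m)) * u * (a : Equiv.Perm (Fin m))⁻¹ ∈ K.map f := by
    intro K _ a u hu
    obtain ⟨k, hk', rfl⟩ := hu
    obtain ⟨g, hg⟩ := hfr a.2
    exact ⟨g * k * g⁻¹, (inferInstance : K.Normal).conj_mem k hk' g, by rw [map_mul, map_mul, map_inv, hg]⟩
  obtain ⟨q, hq, hqx⟩ := (hfm.mem _ hLne (hconj L)).1
  obtain ⟨c', hc', hcx⟩ := (hfm.mem _ hCne (hconj F.ker)).1
  obtain ⟨-, -, h3, -, -, -, a, ha⟩ := hfm.dbl_spec
  have hmem : c'⁻¹ * q ∈ N := by rw [← hk, MonoidHom.mem_ker, map_mul, map_inv, hcx, hqx, inv_mul_cancel]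
  have hFq : F q = 1 := by
    have := MonoidHom.mem_ker.mp (hNC hmem)
    rwa [map_mul, map_inv, MonoidHom.mem_ker.mp hc', inv_one, one_mul] at this
  obtain ⟨g, hg⟩ := hfr a.2
  apply ha
  rw [← hg, ← hqx, ← map_mul, ← map_mul, hG.central_of_sq (hsq q hq hFq) g]

theorem not_isZGroup_of_quaternion {L : Subgroup G} (e : L ≃* QuaternionGroup 2) {H : Subgroup G}
    (hLH : L ≤ H) : ¬ IsZGroup H := by
  intro hZ
  haveI : IsZGroup L := IsZGroup.of_injective (f := Subgroup.inclusion hLH) (Subgroup.inclusion_injective hLH)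
  haveI : IsZGroup (QuaternionGroup 2) := IsZGroup.of_injective (f := e.symm.toMonoidHom) e.symm.injective
  haveI : Group.IsNilpotent (QuaternionGroup 2) :=
    (IsPGroup.of_card (p := 2) (n := 3) (by rw [Nat.card_eq_fintype_card]; rfl)).isNilpotent
  have hc : IsCyclic (QuaternionGroup 2) := inferInstance
  haveI := hc.commutative
  exact absurd (mul_comm' (QuaternionGroup.a 1 : QuaternionGroup 2) (QuaternionGroup.xa 0)) (by decide +kernel)

end Cfsg.Agent.Lib.Frobenius.Zassenhaus
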