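import Cfsg.Agent.Lib.Frobenius.Zassenhaus.Points
import Cfsg.Agent.Lib.Frobenius.Zassenhaus.OfAction
import Cfsg.Agent.Lib.Frobenius.Zassenhaus.DoubleCover
import Cfsg.Agent.Lib.Frobenius.Zassenhaus.Quaternion
import Cfsg.Agent.Lib.Frobenius.UniqueSubgroup
import Cfsg.Agent.Lib.Transfer.Frobenius
import Cfsg.Agent.Lib.InvChar.OddElems
import Cfsg.Agent.Lib.Characters.Burnside
import Cfsg.Agent.S2119
import Mathlib.GroupTheory.SpecificGroups.ZGroup

/-!
The structure of finite fixed-point-free groups.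
-/

set_option autoImplicit false
set_option linter.style.haveILetI false
set_option linter.unusedSectionVars false

namespace Cfsg.Agent.Lib.Frobenius.Zassenhaus

variable {G : Type*} [Group G] [Finite G]

theorem conj_pow_iterate {g q : G} {i : ℕ} (h : g * q * g⁻¹ = q ^ i) (n : ℕ) :
    g ^ n * q * (g ^ n)⁻¹ = q ^ i ^ n := by
  induction n with
  | zero => simp
  | succ n ih =>
    rw [pow_succ' g n, mul_inv_rev, show g * g ^ n * q * ((g ^ n)⁻¹ * g⁻¹) = g * (g ^ n * q * (g ^ n)⁻¹) * g⁻¹
      by group, ih, ← conj_pow, h, ← pow_mul, ← pow_succ']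

namespace IsFPF

theorem isCyclic_of_comm (hG : IsFPF G) (B : Subgroup G) (hB : ∀ a ∈ B, ∀ b ∈ B, a * b = b * a) :
    IsCyclic B := by
  letI : CommGroup B := { (inferInstance : Group B) with mul_comm := fun a b => Subtype.ext (hB a a.2 b b.2) }
  obtain ⟨a, ha⟩ := Monoid.exists_orderOf_eq_exponent (Monoid.ExponentExists.of_finite (G := B))
  refine ⟨⟨a, fun b => ?_⟩⟩
  obtain ⟨j, hj⟩ := hG.mem_zpowers_of_commute (a := (a : G)) (b := (b : G)) (hB a a.2 b b.2)
    (by rw [Subgroup.orderOf_coe, Subgroup.orderOf_coe, ha]; exact Monoid.order_dvd_exponent b)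
  exact ⟨j, Subtype.ext (by rw [SubgroupClass.coe_zpow]; exact hj)⟩

theorem sylow_shape (hG : IsFPF G) {p : ℕ} [hp : Fact p.Prime] (S : Subgroup G) (hS : IsPGroup p S) :
    IsCyclic S ∨ (p = 2 ∧ ∃ m : ℕ, Nonempty (S ≃* QuaternionGroup (2 ^ (m + 1)))) := by
  refine isCyclic_or_quaternion_of_unique hS fun a b ha hb => ?_
  haveI : Nontrivial S := ⟨⟨a, 1, fun e => by rw [e, orderOf_one] at ha; exact hp.out.ne_one ha.symm⟩⟩
  haveI := hS.center_nontrivial
  obtain ⟨n, hn0, hn⟩ := (hS.to_subgroup (Subgroup.center S)).nontrivial_iff_card.mp inferInstance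
  obtain ⟨c, hc⟩ := exists_prime_orderOf_dvd_card' (G := Subgroup.center S) p
    (by rw [hn]; exact dvd_pow_self p hn0.ne')
  have hmem : ∀ u : S, orderOf u = p → Subgroup.zpowers (u : G) = Subgroup.zpowers ((c : S) : G) := by
    intro u hu
    have hco : orderOf ((c : S) : G) = p := by rw [Subgroup.orderOf_coe, Subgroup.orderOf_coe, hc]
    refine Subgroup.eq_of_le_of_card_ge (Subgroup.zpowers_le.mpr (hG.mem_zpowers_of_commute ?_ ?_))
      (by rw [Nat.card_zpowers, Nat.card_zpowers, hco, Subgroup.orderOf_coe, hu])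
    · exact congrArg Subtype.val (Subgroup.mem_center_iff.mp c.2 u).symm
    · rw [Subgroup.orderOf_coe, hu, hco]
  obtain ⟨j, hj⟩ : (a : G) ∈ Subgroup.zpowers (b : G) :=
    (hmem a ha).trans (hmem b hb).symm ▸ Subgroup.mem_zpowers (a : G)
  exact ⟨j, Subtype.ext (by rw [SubgroupClass.coe_zpow]; exact hj)⟩

theorem isCyclic_odd (hG : IsFPF G) {p : ℕ} [hp : Fact p.Prime] (hp2 : p ≠ 2) (S : Subgroup G)
    (hS : IsPGroup p S) : IsCyclic S :=
  (hG.sylow_shape S hS).resolve_right fun h => hp2 h.1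

theorem isZGroup_of_odd (hG : IsFPF G) (M : Subgroup G) (hM : Odd (Nat.card M)) : IsZGroup M := by
  refine ⟨fun p hp P => ?_⟩
  haveI := Fact.mk hp
  by_cases hp2 : p = 2
  · subst hp2
    obtain ⟨n, hn⟩ := IsPGroup.iff_card.mp P.isPGroup'
    rcases n with _ | n
    · rw [pow_zero] at hn
      haveI : Subsingleton P := (Nat.card_eq_one_iff_unique.mp hn).1
      exact isCyclic_of_subsingleton
    · exact absurd hM (Nat.not_odd_iff_even.mpr (even_iff_two_dvd.mpr
        ((dvd_pow_self 2 n.succ_ne_zero).trans (hn ▸ Subgroup.card_subgroup_dvd_card (P : Subgroup M)))))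
  · exact (hG.subgroup M).isCyclic_odd hp2 _ P.isPGroup'

theorem isSolvable_of_hasNormalPComplement (hG : IsFPF G) (h : Cfsg.HasNormalPComplement 2 G) :
    Group.IsSolvable G := by
  obtain ⟨P, N, hN, hc⟩ := h
  haveI := hN
  have hodd : Odd (Nat.card N) := by
    rw [Nat.odd_iff, Nat.two_dvd_ne_zero.symm]
    intro h2
    have := P.not_dvd_index
    rw [hc.index_eq_card] at this
    exact this h2
  haveI := hG.isZGroup_of_odd N hodd
  haveI : Group.IsSolvable (G ⧸ N) := by
    haveI := P.isPGroup'.isNilpotent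
    haveI : Group.IsNilpotent (P : Subgroup G) := P.isPGroup'.isNilpotent
    exact Group.isSolvable_of_surjective (f := (QuotientGroup.mk' N).comp (P : Subgroup G).subtype) fun x => by
      obtain ⟨g, rfl⟩ := QuotientGroup.mk'_surjective N x
      obtain ⟨⟨n, p⟩, rfl⟩ := hc.2 g
      refine ⟨p, ?_⟩
      show QuotientGroup.mk' N (p : G) = QuotientGroup.mk' N ((n : G) * p)
      rw [map_mul, (QuotientGroup.eq_one_iff (n : G)).mpr n.2 |> fun e => show QuotientGroup.mk' N (n : G) = 1 from e,
        one_mul]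
  exact Group.isSolvable_of_ker_le_range N.subtype (QuotientGroup.mk' N)
    (by rw [QuotientGroup.ker_mk', Subgroup.range_subtype])

/-- An element of odd order normalising a `2`-group centralises it, or the group is quaternion of
order eight and three divides the order of the element. -/
theorem aut_two_cases (hG : IsFPF G) {Q : Subgroup G} (hQ : IsPGroup 2 Q) {s : G} (hs : Odd (orderOf s))
    (hn : s ∈ Subgroup.normalizer (Q : Set G)) :
    s ∈ Subgroup.centralizer (Q : Set G) ∨
      (Nat.card Q = 8 ∧ Nonempty (Q ≃* QuaternionGroup 2) ∧ 3 ∣ orderOf s) := by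
  set σ : MulAut Q := Subgroup.normalizerMonoidHom Q ⟨s, hn⟩
  have hpow : σ ^ orderOf s = 1 := by
    rw [← map_pow, show (⟨s, hn⟩ : Subgroup.normalizer (Q : Set G)) ^ orderOf s = 1 from
      Subtype.ext (pow_orderOf_eq_one s), map_one]
  have hcen : σ = 1 → s ∈ Subgroup.centralizer (Q : Set G) := fun e q hq => by
    have h1 := congrArg (fun τ : MulAut Q => ((τ ⟨q, hq⟩ : Q) : G)) e
    have h2 : s * q * s⁻¹ = q := h1
    exact (mul_inv_eq_iff_eq_mul.mp h2).symm
  rcases hG.sylow_shape Q hQ with hc | ⟨-, m, ⟨e⟩⟩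
  · obtain ⟨k, hk⟩ := IsPGroup.iff_card.mp hQ
    exact Or.inl (hcen (cyclic_aut_odd hk σ hs hpow))
  set τ : MulAut (QuaternionGroup (2 ^ (m + 1))) := MulAut.congr e σ
  have hτ : τ ^ orderOf s = 1 := by rw [← map_pow, hpow, map_one]
  have hback : τ = 1 → σ = 1 := fun h => (MulAut.congr e).injective (h.trans (map_one _).symm)
  rcases m with _ | m
  · by_cases h3 : 3 ∣ orderOf s
    · refine Or.inr ⟨?_, ⟨e⟩, h3⟩
      rw [Nat.card_congr e.toEquiv, Nat.card_eq_fintype_card, QuaternionGroup.card]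
      rfl
    · left
      refine hcen (hback (orderOf_eq_one_iff.mp ?_))
      have h1 : orderOf τ ∣ orderOf s := orderOf_dvd_of_pow_eq_one hτ
      have h2 : orderOf τ ∣ 24 := orderOf_dvd_of_pow_eq_one (aut_pow_twenty_four τ)
      refine Nat.eq_one_of_dvd_coprimes ?_ h2 h1
      rw [show (24 : ℕ) = 2 ^ 3 * 3 from rfl, Nat.coprime_mul_iff_left]
      exact ⟨(Nat.prime_two.coprime_iff_not_dvd.mpr (Nat.two_dvd_ne_zero.mpr (Nat.odd_iff.mp hs))).pow_left 3,
        Nat.prime_three.coprime_iff_not_dvd.mpr h3⟩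
  · exact Or.inl (hcen (hback (quaternion_aut_odd rfl τ hs hτ)))

theorem hasNormalPComplement_of_no_three (hG : IsFPF G) (h : ∀ g : G, orderOf g ≠ 3) :
    Cfsg.HasNormalPComplement 2 G := by
  refine Transfer.hasNormalPComplement_of_frobenius default fun Q hQ g hg hco => ?_
  refine (hG.aut_two_cases ((default : Sylow 2 G).2.to_le hQ) (Nat.coprime_two_right.mp hco) hg).resolve_right
    fun ⟨_, _, h3⟩ => ?_
  exact h (g ^ (orderOf g / 3)) (orderOf_pow_orderOf_div (orderOf_pos g).ne' h3)

/-- The centraliser of a quaternion group of order eight. -/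
theorem centralizer_quaternion (hG : IsFPF G) {Q : Subgroup G} (e : Q ≃* QuaternionGroup 2)
    {c : G} (hc : c ∈ Subgroup.centralizer (Q : Set G)) {k : ℕ} (hk : orderOf c = 2 ^ k) : c * c = 1 := by
  by_contra hne
  rcases k with _ | _ | k
  · rw [pow_zero, orderOf_eq_one_iff] at hk
    exact hne (by rw [hk, one_mul])
  · exact hne (by rw [← pow_two, ← orderOf_dvd_iff_pow_eq_one, hk]; norm_num)
  -- an element of order four commuting with `Q`
  set d := c ^ 2 ^ k
  have hd : orderOf d = 4 := by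
    have h := orderOf_pow_orderOf_div (orderOf_pos c).ne' (n := 4) (by rw [hk]; exact ⟨2 ^ k, by ring⟩)
    rwa [hk, show 2 ^ (k + 1 + 1) / 4 = 2 ^ k by
      rw [show 2 ^ (k + 1 + 1) = 2 ^ k * 4 by ring, Nat.mul_div_cancel _ (by norm_num)]] at h
  have hdC : d ∈ Subgroup.centralizer (Q : Set G) := pow_mem hc _
  set i : Q := e.symm (QuaternionGroup.xa 0)
  have hi : orderOf (i : G) = 4 := by
    rw [Subgroup.orderOf_coe, MulEquiv.orderOf_eq, QuaternionGroup.orderOf_xa]
  have hmem : d ∈ Subgroup.zpowers (i : G) :=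
    hG.mem_zpowers_of_commute (hdC i i.2) (by rw [hi, hd])
  have hdQ : d ∈ Q := Subgroup.zpowers_le.mpr i.2 hmem
  have := qmap_center (e ⟨d, hdQ⟩) fun q => by
    apply e.symm.injective
    rw [map_mul, map_mul, e.symm_apply_apply]
    exact Subtype.ext (hdC _ (e.symm q).2).symm
  rw [← map_mul, e.map_eq_one_iff] at this
  have h2 : d ^ 2 = 1 := by rw [pow_two]; exact congrArg Subtype.val this
  have := orderOf_dvd_of_pow_eq_one h2
  rw [hd] at this
  norm_num at this

theorem hasNormalPComplement_of_sq (hG : IsFPF G)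
    (h : ∀ c : G, (∃ k, orderOf c = 2 ^ k) → c * c = 1) : Cfsg.HasNormalPComplement 2 G := by
  obtain ⟨P⟩ : Nonempty (Sylow 2 G) := inferInstance
  refine Transfer.hasNormalPComplement_of_normalizer_le_centralizer P fun g hg p hp => ?_
  obtain ⟨k, hk⟩ := IsPGroup.iff_orderOf.mp P.isPGroup' ⟨p, hp⟩
  rw [Subgroup.orderOf_mk] at hk
  exact (hG.central_of_sq (h p ⟨k, hk⟩) g).symm

/-- A normal quaternion group of order eight on which some element of odd order acts non-trivially. -/
def QCase (G : Type*) [Group G] : Prop :=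
  ∃ Q : Subgroup G, Q.Normal ∧ Nonempty (Q ≃* QuaternionGroup 2) ∧
    ∃ s : G, Odd (orderOf s) ∧ s ∉ Subgroup.centralizer (Q : Set G)

theorem hasNormalPComplement_centralizer (hG : IsFPF G) {Q : Subgroup G} (e : Q ≃* QuaternionGroup 2) :
    Cfsg.HasNormalPComplement 2 (Subgroup.centralizer (Q : Set G)) := by
  refine (hG.subgroup _).hasNormalPComplement_of_sq fun c ⟨k, hk⟩ => Subtype.ext ?_
  exact hG.centralizer_quaternion e c.2 (k := k) (by rw [Subgroup.orderOf_coe]; exact hk)

theorem isSolvable_of_qCase (hG : IsFPF G) {Q : Subgroup G} (hQn : Q.Normal) (e : Q ≃* QuaternionGroup 2) :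
    Group.IsSolvable G := by
  haveI := hQn
  set C := Subgroup.centralizer (Q : Set G)
  haveI : Group.IsSolvable C :=
    (hG.subgroup C).isSolvable_of_hasNormalPComplement (hG.hasNormalPComplement_centralizer e)
  set Ψ : G →* MulAut (QuaternionGroup 2) := (MulAut.congr e).toMonoidHom.comp MulAut.conjNormal
  have hker : Ψ.ker ≤ C.subtype.range := by
    rw [Subgroup.range_subtype]
    intro g hg q hq
    have h : MulAut.conjNormal g = (1 : MulAut Q) :=
      (MulAut.congr e).injective ((MonoidHom.mem_ker.mp hg).trans (map_one _).symm)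
    have h1 := congrArg (fun τ : MulAut Q => ((τ ⟨q, hq⟩ : Q) : G)) h
    rw [MulAut.conjNormal_apply] at h1
    exact (mul_inv_eq_iff_eq_mul.mp h1).symm
  haveI : Finite Ψ.range := Finite.of_surjective _ Ψ.rangeRestrict_surjective
  haveI : Group.IsSolvable Ψ.range := by
    have hsub : (Nat.card Ψ.range).primeFactors ⊆ {2, 3} := by
      intro p hp
      obtain ⟨hpp, hpd, -⟩ := Nat.mem_primeFactors.mp hp
      haveI := Fact.mk hpp
      obtain ⟨x, hx⟩ := exists_prime_orderOf_dvd_card' p hpd
      have h24 : p ∣ 24 := hx ▸ orderOf_dvd_of_pow_eq_one (Subtype.ext (by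
        rw [SubmonoidClass.coe_pow]; exact aut_pow_twenty_four _))
      have hle : p ≤ 24 := Nat.le_of_dvd (by norm_num) h24
      simp only [Finset.mem_insert, Finset.mem_singleton]
      interval_cases p <;> first | omega | (exfalso; revert hpp; norm_num)
    have hpos : Nat.card Ψ.range ≠ 0 := Nat.card_pos.ne'
    have hprod : Nat.card Ψ.range =
        2 ^ (Nat.card Ψ.range).factorization 2 * 3 ^ (Nat.card Ψ.range).factorization 3 := by
      conv_lhs => rw [← Nat.factorization_prod_pow_eq_self hpos]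
      rw [Finsupp.prod_of_support_subset _ (s := {2, 3}) (by rw [Nat.support_factorization]; exact hsub) _
        (fun i _ => pow_zero i), Finset.prod_insert (by norm_num), Finset.prod_singleton]
    exact Characters.isSolvable_of_card_eq_pow_mul_pow Nat.prime_two Nat.prime_three hprod
  exact Group.isSolvable_of_ker_le_range C.subtype Ψ.rangeRestrict
    (by rw [MonoidHom.ker_rangeRestrict]; exact hker)

theorem qCase_of_tet (hG : IsFPF G) {K : Subgroup G} (hKn : K.Normal) (hK : Tet K) : QCase G := by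
  obtain ⟨hc, f, hf, hker⟩ := hK
  have hsq : ∀ a b : alternatingGroup (Fin 4), a * a = 1 → b * b = 1 → a * b * (a * b) = 1 := by decide +kernel
  let Q : Subgroup G :=
    { carrier := {g | ∃ h : g ∈ K, f ⟨g, h⟩ * f ⟨g, h⟩ = 1}
      one_mem' := ⟨K.one_mem, by rw [show (⟨1, K.one_mem⟩ : K) = 1 from rfl, map_one, one_mul]⟩
      mul_mem' := fun {a b} ⟨ha, ha'⟩ ⟨hb, hb'⟩ => ⟨K.mul_mem ha hb, by
        rw [show (⟨a * b, K.mul_mem ha hb⟩ : K) = ⟨a, ha⟩ * ⟨b, hb⟩ from rfl, map_mul]; exact hsq _ _ ha' hb'⟩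
      inv_mem' := fun {a} ⟨ha, ha'⟩ => ⟨K.inv_mem ha, by
        rw [show (⟨a⁻¹, K.inv_mem ha⟩ : K) = ⟨a, ha⟩⁻¹ from rfl, map_inv, ← mul_inv_rev, ha', inv_one]⟩ }
  have hQ4 : ∀ g : G, g ∈ Q ↔ g ∈ K ∧ g * g * (g * g) = 1 := fun g => by
    refine ⟨fun ⟨h, h'⟩ => ⟨h, ?_⟩, fun ⟨h, h'⟩ => ⟨h, ?_⟩⟩
    · exact congrArg Subtype.val ((hker (⟨g, h⟩ * ⟨g, h⟩)).mp (by rw [map_mul]; exact h'))
    · rw [← map_mul]; exact (hker _).mpr (Subtype.ext h')
  haveI hQn : Q.Normal := ⟨fun n hn g => by
    rw [hQ4] at hn ⊢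
    refine ⟨hKn.conj_mem n hn.1 g, ?_⟩
    calc g * n * g⁻¹ * (g * n * g⁻¹) * (g * n * g⁻¹ * (g * n * g⁻¹)) = g * (n * n * (n * n)) * g⁻¹ := by group
      _ = 1 := by rw [hn.2]; group⟩
  have hQp : IsPGroup 2 Q := fun ⟨g, hg⟩ => ⟨2, Subtype.ext (by
    show g ^ (2 ^ 2) = 1
    rw [show g ^ (2 ^ 2) = g * g * (g * g) by simp only [show (2 : ℕ) ^ 2 = 4 from rfl, pow_succ, pow_zero, one_mul, mul_assoc]]
    exact ((hQ4 g).mp hg).2)⟩
  obtain ⟨a, b, hb2, ha3, ha1, hab⟩ : ∃ a b : alternatingGroup (Fin 4),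
      b * b = 1 ∧ a * a * a = 1 ∧ a ≠ 1 ∧ a * b ≠ b * a := by decide +kernel
  obtain ⟨k, hk⟩ := hf a
  obtain ⟨q, hq⟩ := hf b
  have hqQ : (q : G) ∈ Q := ⟨q.2, by rw [show (⟨(q : G), q.2⟩ : K) = q from rfl, hq, hb2]⟩
  set s := k * k * k * k
  have hfs : f s = a := by simp only [s, map_mul, hk, ha3, one_mul]
  have h6 := (hker (k * k * k)).mp (by rw [map_mul, map_mul, hk, ha3])
  have hs3 : s ^ 3 = 1 := by
    calc s ^ 3 = (k * k * k * (k * k * k)) * (k * k * k * (k * k * k)) := by
          simp only [s, pow_succ, pow_zero, one_mul, mul_assoc]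
      _ = 1 := by rw [h6, one_mul]
  have hodd : Odd (orderOf (s : G)) := by
    rw [Subgroup.orderOf_coe]
    exact (show Odd 3 by decide).of_dvd_nat (orderOf_dvd_of_pow_eq_one hs3)
  have hnc : (s : G) ∉ Subgroup.centralizer (Q : Set G) := fun h => hab (by
    rw [← hfs, ← hq, ← map_mul, ← map_mul, show s * q = q * s from Subtype.ext (h q hqQ).symm])
  rcases hG.aut_two_cases hQp hodd (Subgroup.normalizer_eq_top_iff.mpr hQn ▸ Subgroup.mem_top (s : G)) with h | h
  · exact absurd h hnc
  · exact ⟨Q, hQn, h.2.1, s, hodd, hnc⟩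

/-- A finite fixed-point-free group is solvable or has a normal binary icosahedral subgroup. -/
theorem solvable_or_ico (hG : IsFPF G) :
    Group.IsSolvable G ∨ ∃ U : Subgroup G, U.Normal ∧ Ico U ∧ ∀ g : G, orderOf g = 3 → g ∈ U := by
  rcases three_elements hG with h | ⟨x, hx, hall⟩ | ⟨K, hKn, hK | hK, hall⟩
  · exact Or.inl (hG.isSolvable_of_hasNormalPComplement (hG.hasNormalPComplement_of_no_three h))
  · left
    haveI : Fact (Nat.Prime 3) := ⟨Nat.prime_three⟩
    set C := Subgroup.centralizer ({x} : Set G)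
    have hconj : ∀ g : G, g * x * g⁻¹ ∈ Subgroup.zpowers x := fun g =>
      hall _ (by rw [← hx]; exact (MulAut.conj g).orderOf_eq x)
    haveI hXn : (Subgroup.zpowers x).Normal := ⟨fun n hn g => by
      obtain ⟨j, rfl⟩ := hn
      show g * x ^ j * g⁻¹ ∈ _
      rw [← conj_zpow]
      exact Subgroup.zpow_mem _ (hconj g) j⟩
    set Ψ : G →* MulAut (Subgroup.zpowers x) := MulAut.conjNormal
    have hΨ : ∀ g, g ∈ Ψ.ker ↔ g ∈ C := fun g => by
      rw [MonoidHom.mem_ker, Subgroup.mem_centralizer_singleton_iff]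
      constructor
      · intro h
        have h1 := congrArg (fun τ : MulAut (Subgroup.zpowers x) => ((τ ⟨x, Subgroup.mem_zpowers x⟩ : _) : G)) h
        rw [MulAut.conjNormal_apply] at h1
        exact mul_inv_eq_iff_eq_mul.mp h1
      · intro h
        apply MulEquiv.ext
        rintro ⟨_, j, rfl⟩
        apply Subtype.ext
        rw [MulAut.conjNormal_apply]
        show g * x ^ j * g⁻¹ = x ^ j
        rw [← conj_zpow, h, mul_inv_cancel_right]
    -- the centraliser has a normal `3`-complement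
    have h3 : Cfsg.HasNormalPComplement 3 C := by
      refine Transfer.hasNormalPComplement_of_frobenius default fun Q hQ g hg hco => ?_
      have hQp : IsPGroup 3 Q := (default : Sylow 3 C).2.to_le hQ
      obtain ⟨q, hq⟩ := ((hG.subgroup C).isCyclic_odd (by norm_num) Q hQp).exists_generator
      obtain ⟨k, hk⟩ := IsPGroup.iff_orderOf.mp hQp q
      have hgq : g * (q : C) * g⁻¹ ∈ Q := (Subgroup.mem_normalizer_iff.mp hg q).mp q.2
      obtain ⟨i, hi⟩ := (IsOfFinOrder.mem_powers_iff_mem_zpowers (isOfFinOrder_of_finite q)).mpr (hq ⟨_, hgq⟩)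
      have hi' : g * (q : C) * g⁻¹ = (q : C) ^ i := by
        rw [← SubmonoidClass.coe_pow]; exact (congrArg Subtype.val hi).symm
      suffices hqg : g * (q : C) = (q : C) * g by
        intro y hy
        obtain ⟨j, hj⟩ := hq ⟨y, hy⟩
        have hj' : (q : C) ^ j = y := by rw [← SubgroupClass.coe_zpow]; exact congrArg Subtype.val hj
        rw [← hj']
        exact ((show Commute (q : C) g from hqg.symm).zpow_left j).eq
      rcases k with _ | k
      · rw [pow_zero, orderOf_eq_one_iff] at hk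
        rw [hk, Subgroup.coe_one, mul_one, one_mul]
      -- the power of order three is central in `C`
      set u : C := (q : C) ^ 3 ^ k
      have hu : orderOf (u : G) = 3 := by
        rw [Subgroup.orderOf_coe, orderOf_pow' _ (pow_ne_zero _ (by norm_num)), Subgroup.orderOf_coe, hk,
          Nat.gcd_eq_right (pow_dvd_pow 3 k.le_succ), pow_succ, Nat.mul_div_cancel_left _ (by positivity)]
      obtain ⟨j, hj⟩ := hall _ hu
      have hucomm : g * u * g⁻¹ = u := by
        apply Subtype.ext
        show (g : G) * (u : G) * (g : G)⁻¹ = (u : G)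
        rw [← show x ^ j = (u : G) from hj, mul_inv_eq_iff_eq_mul]
        exact ((show Commute (g : G) x from Subgroup.mem_centralizer_singleton_iff.mp g.2).zpow_right j).eq
      have hui : u ^ i = u := by
        conv_rhs => rw [← hucomm]
        show ((q : C) ^ 3 ^ k) ^ i = g * (q : C) ^ 3 ^ k * g⁻¹
        rw [← conj_pow, hi', ← pow_mul, ← pow_mul, mul_comm]
      have hord : orderOf u = 3 := by rw [← Subgroup.orderOf_coe, hu]
      have hmod : i ≡ 1 [MOD 3] := by
        rw [← hord, ← pow_eq_pow_iff_modEq, pow_one]; exact hui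
      have hdvd : (3 : ℤ) ^ (k + 1) ∣ (i : ℤ) ^ 3 ^ k - 1 ^ 3 ^ k := by
        have h31 : ((3 : ℕ) : ℤ) ∣ (i : ℤ) - 1 := by
          have := (Nat.modEq_iff_dvd.mp hmod.symm)
          simpa using this
        exact dvd_sub_pow_of_dvd_sub h31 k
      have hfix : (q : C) ^ i ^ 3 ^ k = q := by
        conv_rhs => rw [← pow_one (q : C)]
        rw [pow_eq_pow_iff_modEq, Subgroup.orderOf_coe, hk, Nat.modEq_iff_dvd]
        rw [one_pow] at hdvd
        push_cast
        exact (dvd_neg.mpr hdvd).trans (by rw [neg_sub])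
      have hg3 : g ^ 3 ^ k * (q : C) = (q : C) * g ^ 3 ^ k := by
        have := conj_pow_iterate hi' (3 ^ k)
        rw [hfix] at this
        exact mul_inv_eq_iff_eq_mul.mp this
      obtain ⟨j', hj'⟩ := exists_pow_eq_self_of_coprime (n := 3 ^ k) (x := g)
        ((Nat.Coprime.pow_right k hco).symm)
      rw [← hj']
      exact ((show Commute (g ^ 3 ^ k) (q : C) from hg3).pow_left j').eq
    obtain ⟨P, N, hN, hc⟩ := h3
    haveI := hN
    have hN3 : ∀ w : N, orderOf w ≠ 3 := by
      intro w hw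
      have := P.not_dvd_index
      rw [hc.index_eq_card] at this
      exact this (hw ▸ orderOf_dvd_natCard w)
    haveI := ((hG.subgroup C).subgroup N).isSolvable_of_hasNormalPComplement
      (((hG.subgroup C).subgroup N).hasNormalPComplement_of_no_three hN3)
    haveI : Group.IsSolvable C := by
      haveI : Group.IsNilpotent (P : Subgroup C) := P.isPGroup'.isNilpotent
      haveI : Group.IsSolvable (C ⧸ N) :=
        Group.isSolvable_of_surjective (f := (QuotientGroup.mk' N).comp (P : Subgroup C).subtype) fun y => by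
          obtain ⟨g, rfl⟩ := QuotientGroup.mk'_surjective N y
          obtain ⟨⟨n, p⟩, rfl⟩ := hc.2 g
          refine ⟨p, ?_⟩
          show QuotientGroup.mk' N (p : C) = QuotientGroup.mk' N ((n : C) * p)
          rw [map_mul, show QuotientGroup.mk' N (n : C) = 1 from (QuotientGroup.eq_one_iff _).mpr n.2, one_mul]
      exact Group.isSolvable_of_ker_le_range N.subtype (QuotientGroup.mk' N)
        (by rw [QuotientGroup.ker_mk', Subgroup.range_subtype])
    haveI : Group.IsSolvable Ψ.range := by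
      refine Group.isSolvable_of_comm fun a b => Subtype.ext (MulEquiv.ext fun u => ?_)
      obtain ⟨i, hi⟩ := MonoidHom.map_cyclic (a : MulAut (Subgroup.zpowers x)).toMonoidHom
      obtain ⟨j, hj⟩ := MonoidHom.map_cyclic (b : MulAut (Subgroup.zpowers x)).toMonoidHom
      show (a : MulAut (Subgroup.zpowers x)).toMonoidHom ((b : MulAut (Subgroup.zpowers x)).toMonoidHom u) =
        (b : MulAut (Subgroup.zpowers x)).toMonoidHom ((a : MulAut (Subgroup.zpowers x)).toMonoidHom u)
      rw [hi, hj, hj, hi, ← zpow_mul, ← zpow_mul, mul_comm]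
    exact Group.isSolvable_of_ker_le_range C.subtype Ψ.rangeRestrict
      (by rw [MonoidHom.ker_rangeRestrict, Subgroup.range_subtype]; exact fun g hg => (hΨ g).mp hg)
  · obtain ⟨Q, hQn, ⟨e⟩, -⟩ := hG.qCase_of_tet hKn hK
    exact Or.inl (hG.isSolvable_of_qCase hQn e)
  · exact Or.inr ⟨K, hKn, hK, hall⟩

end IsFPF

theorem Ico.not_isSolvable {U : Type*} [Group U] (h : Ico U) : ¬ Group.IsSolvable U := by
  obtain ⟨-, f, hf, -⟩ := h
  intro hs
  haveI := hs
  exact Geometry.Dickson.not_solvable_altFive (MulEquiv.refl (alternatingGroup (Fin 5)))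
    (Group.isSolvable_of_surjective (f := f) hf)

theorem Ico.closure_three {U : Type*} [Group U] [Finite U] (h : Ico U) :
    Subgroup.closure {u : U | orderOf u = 3} = ⊤ := by
  obtain ⟨z, hz, hz1, hzu, -⟩ := center_of_cover h
  obtain ⟨hc, f, hf, hker⟩ := h
  set W := Subgroup.closure {u : U | orderOf u = 3}
  haveI : W.Normal := ⟨fun n hn g => by
    refine (Subgroup.closure_le (K := W.comap (MulAut.conj g).toMonoidHom)).mpr (fun u hu => ?_) hn
    exact Subgroup.subset_closure (show orderOf (MulAut.conj g u) = 3 by rw [MulEquiv.orderOf_eq]; exact hu)⟩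
  haveI : (W.map f).Normal := Subgroup.Normal.map inferInstance f hf
  have htop : W.map f = ⊤ := by
    refine (Subgroup.Normal.eq_bot_or_eq_top (G := alternatingGroup (Fin 5)) inferInstance).resolve_left
      fun e => ?_
    haveI : Fact (Nat.Prime 3) := ⟨Nat.prime_three⟩
    obtain ⟨u, hu⟩ := exists_prime_orderOf_dvd_card' (G := U) 3 (by rw [hc]; norm_num)
    have h1 : f u = 1 := by
      rw [← Subgroup.mem_bot, ← e]; exact ⟨u, Subgroup.subset_closure hu, rfl⟩
    have := orderOf_dvd_of_pow_eq_one ((pow_two u).trans ((hker u).mp h1))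
    rw [hu] at this; norm_num at this
  have hzW : z ∈ W := by
    obtain ⟨a, b, h2, ha, -⟩ := generators_five
    obtain ⟨w, hw, hwa⟩ : a ∈ W.map f := htop.ge (Subgroup.mem_top a)
    rcases hzu (w * w) ((hker _).mp (by rw [map_mul, hwa, h2])) with e | e
    · exact absurd (hwa ▸ (hker w).mpr e) ha
    · exact e ▸ W.mul_mem hw hw
  rw [eq_top_iff]
  intro u _
  obtain ⟨w, hw, hwu⟩ : f u ∈ W.map f := htop.ge (Subgroup.mem_top _)
  rcases hzu (w⁻¹ * u) ((hker _).mp (by rw [map_mul, map_inv, hwu, inv_mul_cancel])) with e | e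
  · exact (inv_mul_eq_one.mp e) ▸ hw
  · rw [show u = w * z by rw [← e, mul_inv_cancel_left]]; exact W.mul_mem hw hzW

/-- Zassenhaus' theorem. -/
theorem IsFPF.nonsolvable (hG : IsFPF G) (hns : ¬ Group.IsSolvable G) :
    ∃ (U M : Subgroup G), U.Normal ∧ M.Normal ∧ Ico U ∧ Odd (Nat.card M) ∧ (Nat.card M).Coprime 30 ∧
      IsZGroup M ∧ U ⊓ M = ⊥ ∧ (∀ s ∈ U, ∀ x ∈ M, s * x = x * s) ∧
      ((U ⊔ M).index = 1 ∨ (U ⊔ M).index = 2) ∧
      ∃ Θ : G →* MulAut (alternatingGroup (Fin 5)), Θ.ker = Subgroup.centralizer (U : Set G) ∧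
        (∀ c ∈ Subgroup.centralizer (U : Set G), Odd (orderOf c) → c ∈ M) := by
  classical
  obtain ⟨U, hUn, hU, hall⟩ := hG.solvable_or_ico.resolve_left hns
  haveI := hUn
  obtain ⟨z, hz, hz1, hzu, hzc⟩ := center_of_cover hU
  have hgen := hU.closure_three
  obtain ⟨hUc, f, hf, hker⟩ := id hU
  set C := Subgroup.centralizer (U : Set G) with hC
  -- the induced action on `Alt(5)`
  have hconj : ∀ (g : G) (u : U), f (MulAut.conjNormal g u) = 1 ↔ f u = 1 := fun g u => by
    rw [hker, hker, ← map_mul, map_eq_one_iff _ (MulEquiv.injective (MulAut.conjNormal g : MulAut U))]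
  have hwd : ∀ (g : G) (u v : U), f u = f v → f (MulAut.conjNormal g u) = f (MulAut.conjNormal g v) := by
    intro g u v e
    rw [← inv_mul_eq_one, ← map_inv, ← map_mul, ← map_inv, ← map_mul, hconj, map_mul, map_inv, e, inv_mul_cancel]
  set l := Function.surjInv hf
  have hl : ∀ a, f (l a) = a := Function.surjInv_eq hf
  let θ : G → alternatingGroup (Fin 5) → alternatingGroup (Fin 5) := fun g a => f (MulAut.conjNormal g (l a))
  have hθ : ∀ g u, θ g (f u) = f (MulAut.conjNormal g u) := fun g u => hwd g _ u (hl _)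
  have hθmul : ∀ g a b, θ g (a * b) = θ g a * θ g b := fun g a b => by
    rw [← hl a, ← hl b, ← map_mul, hθ, hθ, hθ, map_mul, map_mul]
  have hθcomp : ∀ g h a, θ (g * h) a = θ g (θ h a) := fun g h a => by
    show f (MulAut.conjNormal (g * h) (l a)) = θ g (f (MulAut.conjNormal h (l a)))
    rw [hθ, map_mul, MulAut.mul_apply]
  have hθone : ∀ a, θ 1 a = a := fun a => by
    show f (MulAut.conjNormal 1 (l a)) = a
    rw [map_one, MulAut.one_apply, hl]
  let Θ : G →* MulAut (alternatingGroup (Fin 5)) :=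
    { toFun := fun g =>
        { toFun := θ g, invFun := θ g⁻¹
          left_inv := fun a => by rw [← hθcomp, inv_mul_cancel, hθone]
          right_inv := fun a => by rw [← hθcomp, mul_inv_cancel, hθone]
          map_mul' := hθmul g }
      map_one' := MulEquiv.ext hθone
      map_mul' := fun g h => MulEquiv.ext (hθcomp g h) }
  have hΘ : Θ.ker = C := by
    ext g
    constructor
    · intro hg
      -- fixing every element of order three
      have hfix : ∀ u : U, orderOf u = 3 → MulAut.conjNormal g u = u := by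
        intro u hu
        have e : f (MulAut.conjNormal g u) = f u := by
          rw [← hθ]; exact congrArg (fun τ : MulAut (alternatingGroup (Fin 5)) => τ (f u)) (MonoidHom.mem_ker.mp hg)
        set v := MulAut.conjNormal g u
        have hv : v ^ 3 = 1 := by rw [← map_pow, ← hu, pow_orderOf_eq_one, map_one]
        rcases hzu (u⁻¹ * v) ((hker _).mp (by rw [map_mul, map_inv, e, inv_mul_cancel])) with e' | e'
        · exact (inv_mul_eq_one.mp e').symm
        · exfalso
          apply hz1
          rw [show v = u * z by rw [← e', mul_inv_cancel_left], (show Commute u z from hzc u).mul_pow,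
            ← hu, pow_orderOf_eq_one, one_mul, hu, pow_three, hz, mul_one] at hv
          exact hv
      intro y hy
      have : ∀ u : U, MulAut.conjNormal g u = u := fun u => by
        have hu : u ∈ Subgroup.closure {u : U | orderOf u = 3} := hgen ▸ Subgroup.mem_top u
        induction hu using Subgroup.closure_induction with
        | mem s hs => exact hfix s hs
        | one => exact map_one _
        | mul a b _ _ ha hb => rw [map_mul, ha, hb]
        | inv a _ ha => rw [map_inv, ha]
      have := congrArg Subtype.val (this ⟨y, hy⟩)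
      rw [MulAut.conjNormal_apply] at this
      exact (mul_inv_eq_iff_eq_mul.mp this).symm
    · intro hg
      apply MonoidHom.mem_ker.mpr
      apply MulEquiv.ext
      intro a
      show f (MulAut.conjNormal g (l a)) = a
      rw [show MulAut.conjNormal g (l a) = l a from Subtype.ext (by
        rw [MulAut.conjNormal_apply, ← hg (l a) (l a).2, mul_inv_cancel_right]), hl]
  -- the centraliser meets `U` in its centre
  have hUC : ∀ u : U, (u : G) ∈ C → u * u = 1 := by
    intro u hu
    rw [← hker]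
    have hcen : ∀ a : alternatingGroup (Fin 5), (∀ b, a * b = b * a) → a = 1 := by decide +kernel
    refine hcen _ fun b => ?_
    rw [← hl b, ← map_mul, ← map_mul, show u * l b = l b * u from Subtype.ext (hu (l b) (l b).2).symm]
  -- elements of order four
  have hC2 : ∀ c : C, (∃ k, orderOf c = 2 ^ k) → c * c = 1 := by
    rintro ⟨c, hc⟩ ⟨k, hk⟩
    rw [Subgroup.orderOf_mk] at hk
    refine Subtype.ext (show c * c = 1 from ?_)
    by_contra hne
    rcases k with _ | _ | k
    · rw [pow_zero, orderOf_eq_one_iff] at hk; exact hne (by rw [hk, one_mul])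
    · exact hne (by rw [← pow_two, ← orderOf_dvd_iff_pow_eq_one, hk]; norm_num)
    set d := c ^ 2 ^ k
    have hd : orderOf d = 4 := by
      have h := orderOf_pow_orderOf_div (orderOf_pos c).ne' (n := 4) (by rw [hk]; exact ⟨2 ^ k, by ring⟩)
      rwa [hk, show 2 ^ (k + 1 + 1) / 4 = 2 ^ k by
        rw [show 2 ^ (k + 1 + 1) = 2 ^ k * 4 by ring, Nat.mul_div_cancel _ (by norm_num)]] at h
    obtain ⟨a, b, h2, ha, -⟩ := generators_five
    have hi : (l a) * (l a) = z := (hzu _ ((hker _).mp (by rw [map_mul, hl, h2]))).resolve_left fun e =>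
      ha (by rw [← hl a]; exact (hker _).mpr e)
    have hio : orderOf ((l a : U) : G) = 4 := by
      rw [Subgroup.orderOf_coe]
      haveI : Fact (Nat.Prime 2) := ⟨Nat.prime_two⟩
      exact orderOf_eq_prime_pow (p := 2) (n := 1) (by rw [pow_one, pow_two, hi]; exact hz1)
        (by rw [show 2 ^ (1 + 1) = 2 * 2 from rfl, pow_mul, pow_two, pow_two, hi, hz])
    have hdC : d ∈ C := pow_mem hc _
    have hdU : d ∈ U := Subgroup.zpowers_le.mpr (l a).2
      (hG.mem_zpowers_of_commute (hdC _ (l a).2) (by rw [hio, hd]))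
    have h2' : d * d = 1 := congrArg Subtype.val (hUC ⟨d, hdU⟩ hdC)
    have := orderOf_dvd_of_pow_eq_one ((pow_two d).trans h2')
    rw [hd] at this
    norm_num at this
  obtain ⟨P, N, hN, hcomp⟩ := (hG.subgroup C).hasNormalPComplement_of_sq hC2
  have hodd : Odd (Nat.card N) := by
    rw [Nat.odd_iff, ← Nat.two_dvd_ne_zero]
    intro h2
    have := P.not_dvd_index
    rw [hcomp.index_eq_card] at this
    exact this h2
  set M := N.map C.subtype with hM
  have hMcard : Nat.card M = Nat.card N := Subgroup.card_map_of_injective C.subtype_injective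
  have hModd : ∀ c ∈ C, Odd (orderOf c) → c ∈ M := by
    intro c hc ho
    refine ⟨⟨c, hc⟩, ?_, rfl⟩
    have hcore := InvChar.mem_pPrimeCore_of_coprime (p := 2) ⟨P, N, hN, hcomp⟩ (g := ⟨c, hc⟩)
      (Nat.coprime_two_right.mpr (by rwa [Subgroup.orderOf_mk]))
    haveI := hN
    refine (QuotientGroup.eq_one_iff (N := N) _).mp ?_
    apply orderOf_eq_one_iff.mp
    have h1 : orderOf (QuotientGroup.mk (⟨c, hc⟩ : C) : C ⧸ N) ∣ orderOf c := by
      have := orderOf_map_dvd (QuotientGroup.mk' N) (⟨c, hc⟩ : C)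
      rwa [Subgroup.orderOf_mk] at this
    have h2 : orderOf (QuotientGroup.mk (⟨c, hc⟩ : C) : C ⧸ N) ∣ Nat.card P := by
      rw [← show N.index = Nat.card P from hcomp.symm.index_eq_card.trans rfl]
      exact orderOf_dvd_natCard _
    obtain ⟨k, hk⟩ := IsPGroup.iff_card.mp P.isPGroup'
    rw [hk] at h2
    exact Nat.eq_one_of_dvd_coprimes
      ((Nat.prime_two.coprime_iff_not_dvd.mpr (Nat.two_dvd_ne_zero.mpr (Nat.odd_iff.mp ho))).pow_left k) h2 h1
  have hMC : M ≤ C := Subgroup.map_subtype_le N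
  have hMn : M.Normal := ⟨fun m hm g => by
    have hCn : C.Normal := inferInstance
    refine hModd _ (hCn.conj_mem m (hMC hm) g) ?_
    rw [show g * m * g⁻¹ = MulAut.conj g m from rfl, MulEquiv.orderOf_eq]
    exact (hMcard.symm ▸ hodd).of_dvd_nat (Subgroup.orderOf_dvd_natCard M hm)⟩
  have hdisj : U ⊓ M = ⊥ := by
    rw [Subgroup.eq_bot_iff_forall]
    rintro m ⟨hmU, hmM⟩
    have h2 : m * m = 1 := congrArg Subtype.val (hUC ⟨m, hmU⟩ (hMC hmM))
    have ho : Odd (orderOf m) := (hMcard.symm ▸ hodd).of_dvd_nat (Subgroup.orderOf_dvd_natCard M hmM)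
    apply orderOf_eq_one_iff.mp
    exact Nat.eq_one_of_dvd_coprimes (Nat.coprime_two_right.mpr ho) dvd_rfl
      (orderOf_dvd_of_pow_eq_one ((pow_two m).trans h2))
  have hno : ∀ q : ℕ, q.Prime → (q = 2 ∨ q = 3 ∨ q = 5) → ¬ q ∣ Nat.card M := by
    intro q hq hcases hd
    rcases hcases with rfl | rfl | rfl
    · exact Nat.two_dvd_ne_zero.mpr (Nat.odd_iff.mp hodd) (hMcard ▸ hd)
    · haveI : Fact (Nat.Prime 3) := ⟨hq⟩
      obtain ⟨m, hm⟩ := exists_prime_orderOf_dvd_card' (G := M) 3 hd
      rw [← Subgroup.orderOf_coe] at hm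
      have := Subgroup.eq_bot_iff_forall _ |>.mp hdisj (m : G) ⟨hall _ hm, m.2⟩
      rw [this, orderOf_one] at hm
      norm_num at hm
    · haveI : Fact (Nat.Prime 5) := ⟨hq⟩
      obtain ⟨m, hm⟩ := exists_prime_orderOf_dvd_card' (G := M) 5 hd
      obtain ⟨u, hu⟩ := exists_prime_orderOf_dvd_card' (G := U) 5 (by rw [hUc]; norm_num)
      rw [← Subgroup.orderOf_coe] at hm hu
      have hmU : (m : G) ∈ U := Subgroup.zpowers_le.mpr u.2
        (hG.mem_zpowers_of_commute (hMC m.2 _ u.2) (by rw [hu, hm]))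
      have := Subgroup.eq_bot_iff_forall _ |>.mp hdisj (m : G) ⟨hmU, m.2⟩
      rw [this, orderOf_one] at hm
      norm_num at hm
  refine ⟨U, M, hUn, hMn, hU, hMcard.symm ▸ hodd, ?_, hG.isZGroup_of_odd M (hMcard.symm ▸ hodd), hdisj,
    fun s hs x hx => hMC hx s hs, ?_, Θ, hΘ, hModd⟩
  · rw [show (30 : ℕ) = 2 * 3 * 5 from rfl, Nat.coprime_mul_iff_right, Nat.coprime_mul_iff_right]
    exact ⟨⟨(Nat.prime_two.coprime_iff_not_dvd.mpr (hno 2 Nat.prime_two (Or.inl rfl))).symm,
      (Nat.prime_three.coprime_iff_not_dvd.mpr (hno 3 Nat.prime_three (Or.inr (Or.inl rfl)))).symm⟩,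
      (Nat.prime_five.coprime_iff_not_dvd.mpr (hno 5 Nat.prime_five (Or.inr (Or.inr rfl)))).symm⟩
  · -- the index
    have hCle : C ≤ U ⊔ M := by
      intro c hc
      obtain ⟨⟨n, p⟩, hnp⟩ := hcomp.2 ⟨c, hc⟩
      obtain ⟨k, hk⟩ := IsPGroup.iff_orderOf.mp P.isPGroup' p
      have hp2 := hC2 (p : C) ⟨k, by rw [Subgroup.orderOf_coe]; exact hk⟩
      have hpU : ((p : C) : G) ∈ U := by
        by_cases h1 : ((p : C) : G) = 1
        · rw [h1]; exact U.one_mem
        · rw [hG.eq_of_sq (congrArg Subtype.val hp2) h1 (congrArg Subtype.val hz)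
            (fun e => hz1 (Subtype.ext e))]
          exact z.2
      rw [show c = ((n : C) : G) * ((p : C) : G) from (congrArg Subtype.val hnp).symm]
      exact mul_mem (Subgroup.mem_sup_right ⟨n, n.2, rfl⟩) (Subgroup.mem_sup_left hpU)
    have hsup : (U ⊔ M) = U ⊔ C := le_antisymm (sup_le le_sup_left (hMC.trans le_sup_right))
      (sup_le le_sup_left hCle)
    have hdvd : (U ⊔ M).relIndex ⊤ * 60 ∣ 120 := by
      have hcard : Nat.card (U.map Θ) = 60 := by
        set r := (Θ.comp U.subtype)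
        have hr : r.range = U.map Θ := by rw [MonoidHom.range_comp, Subgroup.range_subtype]
        have hk : r.ker = f.ker := by
          ext u
          rw [MonoidHom.mem_ker, MonoidHom.mem_ker]
          show Θ (u : G) = 1 ↔ _
          rw [← MonoidHom.mem_ker, hΘ, hker]
          refine ⟨hUC u, fun hu y hy => ?_⟩
          exact hG.central_of_sq (congrArg Subtype.val hu) y
        have h1 := r.ker.card_mul_index
        rw [Subgroup.index_ker, hr, hk] at h1
        have h2 := f.ker.card_mul_index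
        rw [Subgroup.index_ker, MonoidHom.range_eq_top.mpr hf, Subgroup.card_top, card_alt_five, hUc] at h2
        rw [hUc] at h1
        have h3 : Nat.card f.ker = 2 := by omega
        rw [h3] at h1
        omega
      have haut : Nat.card (MulAut (alternatingGroup (Fin 5))) = 120 := by
        rw [← Nat.card_congr (Equiv.ofBijective _ (S2119.result 5 (by norm_num) (by norm_num))),
          Nat.card_eq_fintype_card, Fintype.card_perm]
        rfl
      have h1 : (U ⊔ M).index * 60 = Nat.card Θ.range := by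
        have h := Subgroup.index_map (U ⊔ M) Θ
        rw [show (U ⊔ M) ⊔ Θ.ker = U ⊔ M from sup_eq_left.mpr (hΘ ▸ hCle)] at h
        have h' := ((U ⊔ M).map Θ).card_mul_index
        have hrng := Θ.range.card_mul_index
        have hmap : (U ⊔ M).map Θ = U.map Θ := by
          rw [hsup, Subgroup.map_sup, sup_eq_left]
          rw [← hΘ]
          rintro _ ⟨c, hc, rfl⟩
          rw [MonoidHom.mem_ker.mp hc]; exact one_mem _
        rw [hmap, hcard] at h'
        rw [hmap] at h
        rw [h, ← mul_assoc] at h'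
        have hpos : 0 < Θ.range.index := Nat.pos_of_ne_zero Subgroup.index_ne_zero_of_finite
        nlinarith
      rw [Subgroup.relIndex_top_right, h1, ← haut]
      exact Subgroup.card_subgroup_dvd_card _
    rw [Subgroup.relIndex_top_right, show (120 : ℕ) = 2 * 60 from rfl] at hdvd
    exact (Nat.dvd_prime Nat.prime_two).mp (Nat.dvd_of_mul_dvd_mul_right (by norm_num) hdvd)

end Cfsg.Agent.Lib.Frobenius.Zassenhaus
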