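import Cfsg.Agent.Lib.Frobenius.Zassenhaus.Structure
import Cfsg.Agent.Lib.Cores.Fitting

/-!
A solvable fixed-point-free group has a normal `2`-complement or a normal quaternion group of order eight.
-/

set_option autoImplicit false
set_option linter.style.haveILetI false
set_option linter.unusedSectionVars false

namespace Cfsg.Agent.Lib.Frobenius.Zassenhaus

open scoped commutatorElement

variable {G : Type*} [Group G] [Finite G]

theorem IsFPF.qCase_or_npc (hG : IsFPF G) (hs : Group.IsSolvable G) :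
    QCase G ∨ Cfsg.HasNormalPComplement 2 G := by
  by_cases hnpc : Cfsg.HasNormalPComplement 2 G
  · exact Or.inr hnpc
  left
  -- a witness of the failure
  obtain ⟨Q₀, hQ₀, s, hsn, hso, hsc⟩ : ∃ Q₀ : Subgroup G, IsPGroup 2 Q₀ ∧ ∃ s : G,
      s ∈ Subgroup.normalizer (Q₀ : Set G) ∧ Odd (orderOf s) ∧ s ∉ Subgroup.centralizer (Q₀ : Set G) := by
    by_contra hcon
    apply hnpc
    refine Transfer.hasNormalPComplement_of_frobenius default fun Q hQ g hg hco => ?_
    by_contra hgc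
    exact hcon ⟨Q, (default : Sylow 2 G).2.to_le hQ, g, hg, Nat.coprime_two_right.mp hco, hgc⟩
  haveI hQn : (Cfsg.pCore 2 G).Normal := Subgroup.sSup_normal _ (fun _ h => h.1)
  have hQp : IsPGroup 2 (Cfsg.pCore 2 G) := by
    haveI : Fact (Nat.Prime 2) := ⟨Nat.prime_two⟩
    exact Cores.pCore_isPGroup 2 G
  by_cases hsQ : s ∈ Subgroup.centralizer ((Cfsg.pCore 2 G : Subgroup G) : Set G)
  swap
  · rcases hG.aut_two_cases hQp hso (Subgroup.normalizer_eq_top_iff.mpr hQn ▸ Subgroup.mem_top s) with h | h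
    · exact absurd h hsQ
    · exact ⟨_, hQn, h.2.1, s, hso, hsQ⟩
  exfalso
  obtain ⟨-, ⟨e⟩, -⟩ := (hG.aut_two_cases hQ₀ hso hsn).resolve_left hsc
  obtain ⟨k, hk⟩ := hso
  -- a commutator of order four
  obtain ⟨q, hq, hx⟩ : ∃ q ∈ Q₀, ¬ (⁅s, q⁆ * ⁅s, q⁆ = 1) := by
    by_contra hcon
    apply hsc
    intro q hq
    have h1 : ⁅s, q⁆ * ⁅s, q⁆ = 1 := by_contra fun h => hcon ⟨q, hq, h⟩
    set w := ⁅s, q⁆ with hw
    have hcw : ∀ g : G, g * w = w * g := hG.central_of_sq h1
    have hit : ∀ n : ℕ, s ^ n * q * (s ^ n)⁻¹ = w ^ n * q := by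
      intro n
      induction n with
      | zero => simp
      | succ n ih =>
        rw [pow_succ' s, mul_inv_rev, show s * s ^ n * q * ((s ^ n)⁻¹ * s⁻¹) = s * (s ^ n * q * (s ^ n)⁻¹) * s⁻¹
          by group, ih, show s * (w ^ n * q) * s⁻¹ = (s * w ^ n * s⁻¹) * (s * q * s⁻¹) by group,
          ((show Commute s w from hcw s).pow_right n).eq, mul_inv_cancel_right,
          show s * q * s⁻¹ = w * q by rw [hw, commutatorElement_def]; group, ← mul_assoc, ← pow_succ]
    have h2 := hit (orderOf s)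
    rw [pow_orderOf_eq_one, hk, pow_succ, pow_mul, pow_two, h1, one_pow, one_mul, one_mul, inv_one, mul_one] at h2
    have hw1 : w = 1 := by rw [eq_comm, mul_eq_right] at h2; exact h2
    exact (commutatorElement_eq_one_iff_mul_comm.mp (hw ▸ hw1)).symm
  set x := ⁅s, q⁆ with hxd
  have hxQ : x ∈ Q₀ := by
    rw [hxd, commutatorElement_def]
    exact mul_mem ((Subgroup.mem_normalizer_iff.mp hsn q).mp hq) (inv_mem hq)
  have hord : ∀ u ∈ Q₀, u * u * (u * u) = 1 := by
    intro u hu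
    have h4 : ∀ v : QuaternionGroup 2, v * v * (v * v) = 1 := by decide +kernel
    exact congrArg Subtype.val (e.injective (by rw [map_mul, map_mul, map_one]; exact h4 _) :
      (⟨u, hu⟩ : Q₀) * ⟨u, hu⟩ * (⟨u, hu⟩ * ⟨u, hu⟩) = 1)
  haveI : Fact (Nat.Prime 2) := ⟨Nat.prime_two⟩
  have hx4 : orderOf x = 4 := orderOf_eq_prime_pow (p := 2) (n := 1) (by rw [pow_one, pow_two]; exact hx)
    (by rw [show 2 ^ (1 + 1) = 2 * 2 from rfl, pow_mul, pow_two, pow_two]; exact hord x hxQ)
  have hne : s * x * s⁻¹ ≠ x := by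
    intro hfix
    have hit : ∀ n : ℕ, s ^ n * q * (s ^ n)⁻¹ = x ^ n * q := by
      intro n
      induction n with
      | zero => simp
      | succ n ih =>
        rw [pow_succ' s, mul_inv_rev, show s * s ^ n * q * ((s ^ n)⁻¹ * s⁻¹) = s * (s ^ n * q * (s ^ n)⁻¹) * s⁻¹
          by group, ih, show s * (x ^ n * q) * s⁻¹ = (s * x ^ n * s⁻¹) * (s * q * s⁻¹) by group,
          ← conj_pow, hfix, show s * q * s⁻¹ = x * q by rw [hxd, commutatorElement_def]; group,
          ← mul_assoc, ← pow_succ]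
    have h2 := hit (orderOf s)
    rw [pow_orderOf_eq_one, one_mul, inv_one, mul_one, eq_comm, mul_eq_right, hk] at h2
    have h5 := orderOf_dvd_of_pow_eq_one h2
    rw [hx4] at h5
    omega
  set C := Subgroup.centralizer ((Cfsg.pCore 2 G : Subgroup G) : Set G)
  haveI hCn : C.Normal := inferInstance
  have hxC : x ∈ C := by
    rw [hxd, commutatorElement_def, show s * q * s⁻¹ * q⁻¹ = s * (q * s⁻¹ * q⁻¹) by group]
    exact mul_mem hsQ (hCn.conj_mem _ (inv_mem hsQ) q)
  have hyC : s * x * s⁻¹ ∈ C := hCn.conj_mem x hxC s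
  -- the `2`-core has no element of order four
  have hO : ∀ u ∈ Cfsg.pCore 2 G, u * u = 1 := by
    intro u hu
    by_contra hu2
    obtain ⟨j, hj⟩ := IsPGroup.iff_orderOf.mp hQp ⟨u, hu⟩
    rw [Subgroup.orderOf_mk] at hj
    rcases j with _ | _ | j
    · rw [pow_zero, orderOf_eq_one_iff] at hj; exact hu2 (by rw [hj, one_mul])
    · exact hu2 (by rw [← pow_two, ← orderOf_dvd_iff_pow_eq_one, hj]; norm_num)
    set d := u ^ 2 ^ j
    have hd : orderOf d = 4 := by
      have h := orderOf_pow_orderOf_div (orderOf_pos u).ne' (n := 4) (by rw [hj]; exact ⟨2 ^ j, by ring⟩)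
      rwa [hj, show 2 ^ (j + 1 + 1) / 4 = 2 ^ j by
        rw [show 2 ^ (j + 1 + 1) = 2 ^ j * 4 by ring, Nat.mul_div_cancel _ (by norm_num)]] at h
    have hdQ : d ∈ Cfsg.pCore 2 G := pow_mem hu _
    have h1 : Subgroup.zpowers d = Subgroup.zpowers x :=
      Subgroup.eq_of_le_of_card_ge (Subgroup.zpowers_le.mpr
        (hG.mem_zpowers_of_commute (hxC d hdQ).symm (by rw [hd, hx4])))
        (by rw [Nat.card_zpowers, Nat.card_zpowers, hd, hx4])
    have hyo : orderOf (s * x * s⁻¹) = 4 := by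
      rw [show s * x * s⁻¹ = MulAut.conj s x from rfl, MulEquiv.orderOf_eq, hx4]
    obtain ⟨i, hi⟩ : s * x * s⁻¹ ∈ Subgroup.zpowers x :=
      h1 ▸ hG.mem_zpowers_of_commute (hyC d hdQ) (by rw [hyo, hd])
    -- `s` inverts or fixes `x`, hence fixes it
    apply hne
    have hi' : x ^ i = s * x * s⁻¹ := hi
    have hodd : i % 2 ≠ 0 := fun h0 => by
      obtain ⟨c, hc⟩ : (2 : ℤ) ∣ i := Int.dvd_of_emod_eq_zero h0
      have : (s * x * s⁻¹) ^ 2 = 1 := by
        rw [← hi', hc, ← zpow_natCast, ← zpow_mul, show 2 * c * ((2 : ℕ) : ℤ) = 4 * c by push_cast; ring, zpow_mul,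
          show (4 : ℤ) = ((4 : ℕ) : ℤ) from rfl, zpow_natCast, ← hx4, pow_orderOf_eq_one, one_zpow]
      have h5 := orderOf_dvd_of_pow_eq_one this
      rw [hyo] at h5; norm_num at h5
    have h2 : s * (s * x * s⁻¹) * s⁻¹ = x := by
      rw [← hi', ← conj_zpow, ← hi', ← zpow_mul]
      conv_rhs => rw [← zpow_one x]
      rw [zpow_eq_zpow_iff_modEq, hx4]
      have : i % 4 = 1 ∨ i % 4 = 3 := by omega
      rw [Int.ModEq, Int.mul_emod]
      rcases this with e | e <;> simp [e]
    have hit : ∀ n : ℕ, s ^ (2 * n) * x * (s ^ (2 * n))⁻¹ = x := by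
      intro n
      induction n with
      | zero => simp
      | succ n ih =>
        rw [show 2 * (n + 1) = 2 + 2 * n by ring, pow_add, mul_inv_rev,
          show s ^ 2 * s ^ (2 * n) * x * ((s ^ (2 * n))⁻¹ * (s ^ 2)⁻¹) =
            s ^ 2 * (s ^ (2 * n) * x * (s ^ (2 * n))⁻¹) * (s ^ 2)⁻¹ by group, ih, pow_two, mul_inv_rev]
        conv_rhs => rw [← h2]
        group
    have h3 := hit (k + 1)
    rwa [show 2 * (k + 1) = (2 * k + 1) + 1 by ring, pow_succ, ← hk, pow_orderOf_eq_one, one_mul] at h3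
  -- the Fitting subgroup is cyclic
  set F := Cfsg.fittingSubgroup G
  haveI hFn : F.Normal := Subgroup.sSup_normal _ (fun _ h => h.1)
  haveI hFnil : Group.IsNilpotent F := Cores.fittingSubgroup_isNilpotent G
  have hFsq : ∀ u ∈ F, (∃ j, orderOf u = 2 ^ j) → u * u = 1 := by
    intro u hu ⟨j, hj⟩
    obtain ⟨P⟩ : Nonempty (Sylow 2 F) := inferInstance
    obtain ⟨P', hP'⟩ := (IsPGroup.of_card (p := 2) (n := j) (G := Subgroup.zpowers (⟨u, hu⟩ : F))
      (by rw [Nat.card_zpowers, Subgroup.orderOf_mk, hj])).exists_le_sylow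
    have hPn : (P' : Subgroup F).Normal := by
      have h := (Group.isNilpotent_of_finite_tfae (G := F)).out 0 3
      exact h.mp hFnil 2 inferInstance P'
    haveI : (P' : Subgroup F).Characteristic := P'.characteristic_of_normal hPn
    haveI : ((P' : Subgroup F).map F.subtype).Normal := inferInstance
    have hle : (P' : Subgroup F).map F.subtype ≤ Cfsg.pCore 2 G :=
      le_sSup ⟨inferInstance, P'.isPGroup'.map _⟩
    exact hO u (hle ⟨⟨u, hu⟩, hP' (Subgroup.mem_zpowers _), rfl⟩)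
  have hFcyc : IsCyclic F := by
    haveI : IsZGroup F := ⟨fun p hp P => by
      haveI := Fact.mk hp
      by_cases hp2 : p = 2
      · subst hp2
        refine (hG.subgroup F).isCyclic_of_comm _ fun a ha b hb => ?_
        obtain ⟨j, hj⟩ := IsPGroup.iff_orderOf.mp P.isPGroup' ⟨a, ha⟩
        rw [Subgroup.orderOf_mk] at hj
        exact Subtype.ext (hG.central_of_sq (hFsq (a : G) a.2 ⟨j, by rw [Subgroup.orderOf_coe]; exact hj⟩) (b : G)).symm
      · exact (hG.subgroup F).isCyclic_odd hp2 _ P.isPGroup'⟩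
    infer_instance
  -- the derived subgroup lies in it
  have hxF : x ∈ F := by
    set Ψ : G →* MulAut F := MulAut.conjNormal
    have hcomm : Ψ x = 1 := by
      rw [hxd, map_commutatorElement, commutatorElement_eq_one_iff_mul_comm]
      apply MulEquiv.ext
      intro u
      obtain ⟨i, hi⟩ := MonoidHom.map_cyclic (Ψ s).toMonoidHom
      obtain ⟨j, hj⟩ := MonoidHom.map_cyclic (Ψ q).toMonoidHom
      show (Ψ s).toMonoidHom ((Ψ q).toMonoidHom u) = (Ψ q).toMonoidHom ((Ψ s).toMonoidHom u)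
      rw [hi, hj, hj, hi, ← zpow_mul, ← zpow_mul, mul_comm]
    refine Cores.centralizer_fittingSubgroup_le hs ?_
    intro u hu
    have h1 := congrArg (fun τ : MulAut F => ((τ ⟨u, hu⟩ : F) : G)) hcomm
    rw [MulAut.conjNormal_apply] at h1
    exact (mul_inv_eq_iff_eq_mul.mp h1).symm
  exact hx (hFsq x hxF ⟨2, hx4⟩)

end Cfsg.Agent.Lib.Frobenius.Zassenhaus
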