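import Cfsg.Agent.Lib.Frobenius.Zassenhaus.Plane
import Cfsg.Agent.Lib.Geometry.Dickson.Solv
import Cfsg.Agent.Lib.Geometry.Dickson.Overgroup
import Mathlib.LinearAlgebra.Charpoly.Basic
import Mathlib.FieldTheory.IntermediateField.Adjoin.Basic

/-!
Groups generated by two (or suitable three) elements of order three in a fixed-point-free group are
binary tetrahedral or binary icosahedral.
-/

set_option autoImplicit false
set_option linter.style.haveILetI false
set_option linter.unusedSectionVars false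

namespace Cfsg.Agent.Lib.Frobenius.Zassenhaus

open Matrix
open Cfsg.Agent.Lib.Geometry
open Cfsg.Agent.Lib.SL2Trace (toPSL toPSL_eq_one tr sq_eq)

/-- A double cover of `Alt(n)` with a unique involution, of the stated order. -/
def Cover (n m : ℕ) (K : Type*) [Group K] : Prop :=
  Nat.card K = m ∧ ∃ f : K →* alternatingGroup (Fin n), Function.Surjective f ∧
    ∀ k, f k = 1 ↔ k * k = 1

/-- Binary tetrahedral. -/
def Tet (K : Type*) [Group K] : Prop := Cover 4 24 K

/-- Binary icosahedral. -/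
def Ico (K : Type*) [Group K] : Prop := Cover 5 120 K

theorem card_alt_five : Nat.card (alternatingGroup (Fin 5)) = 60 := Dickson.card_alt5

theorem card_alt_four : Nat.card (alternatingGroup (Fin 4)) = 12 := Dickson.card_alt4

theorem sq_eq_one_sl {L : Type*} [Field L] (h2 : (2 : L) ≠ 0) {A : Matrix.SpecialLinearGroup (Fin 2) L}
    (h : A * A = 1) : A = 1 ∨ A = -1 := by
  have e := sq_eq A
  rw [← Matrix.SpecialLinearGroup.coe_mul, h, Matrix.SpecialLinearGroup.coe_one] at e
  have e' : tr A • (A : Matrix (Fin 2) (Fin 2) L) = (2 : L) • (1 : Matrix (Fin 2) (Fin 2) L) := by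
    rw [two_smul]; exact (eq_add_of_sub_eq e.symm)
  have ht : tr A ≠ 0 := fun ht => by
    rw [ht, zero_smul] at e'
    have := congrFun (congrFun e' 0) 0
    simp at this
    exact h2 this.symm
  have h00 := congrFun (congrFun e' 0) 0
  have h11 := congrFun (congrFun e' 1) 1
  have h01 := congrFun (congrFun e' 0) 1
  have h10 := congrFun (congrFun e' 1) 0
  simp [ht] at h00 h11 h01 h10
  exact Cfsg.Agent.Lib.SL2Trace.eq_scalar_of_entries h10 h01 (mul_left_cancel₀ ht (h00.trans h11.symm))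

section classify

variable {K : Type*} [Group K] [Finite K]

theorem cover_of_hom {L : Type*} [Field L] [Fintype L] (ℓ : ℕ) [Fact ℓ.Prime] [CharP L ℓ]
    (hℓ : ¬ ℓ ∣ Nat.card K) (φ : K →* Matrix.SpecialLinearGroup (Fin 2) L) (hφ : Function.Injective φ)
    {n : ℕ} {H : Subgroup (Matrix.ProjectiveSpecialLinearGroup (Fin 2) L)}
    (hH : (toPSL.comp φ).range = H) (e : H ≃* alternatingGroup (Fin n))
    (hn : 2 ∣ Nat.card (alternatingGroup (Fin n))) :
    Cover n (2 * Nat.card (alternatingGroup (Fin n))) K := by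
  set π := toPSL.comp φ
  subst hH
  set f : K →* alternatingGroup (Fin n) := e.toMonoidHom.comp π.rangeRestrict
  have hf : Function.Surjective f := e.surjective.comp π.rangeRestrict_surjective
  have h2K : 2 ∣ Nat.card K := hn.trans (Subgroup.card_dvd_of_surjective f hf)
  have hℓ2 : ℓ ≠ 2 := fun h => hℓ (h ▸ h2K)
  have h2 : (2 : L) ≠ 0 := by
    intro h
    rw [show (2 : L) = ((2 : ℕ) : L) by norm_num, CharP.cast_eq_zero_iff L ℓ] at h
    exact hℓ2 ((Nat.prime_dvd_prime_iff_eq Fact.out Nat.prime_two).mp h)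
  have hker : ∀ k, f k = 1 ↔ k * k = 1 := fun k => by
    have : f k = 1 ↔ π k = 1 := by
      show e (π.rangeRestrict k) = 1 ↔ _
      rw [e.map_eq_one_iff]
      exact ⟨fun h => congrArg Subtype.val h, fun h => Subtype.ext h⟩
    rw [this, MonoidHom.comp_apply, toPSL_eq_one]
    refine ⟨fun h => hφ ?_, fun h => sq_eq_one_sl h2 ?_⟩
    · rw [map_mul, map_one]
      rcases h with h | h <;> rw [h] <;> simp
    · rw [← map_mul, h, map_one]
  refine ⟨?_, f, hf, hker⟩
  have hc := f.ker.card_mul_index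
  rw [Subgroup.index_ker, MonoidHom.range_eq_top.mpr hf, Subgroup.card_top] at hc
  rw [← hc]
  congr 1
  obtain ⟨z, hz⟩ := exists_prime_orderOf_dvd_card' (G := K) 2 h2K
  have hzz : z * z = 1 := by rw [← pow_two, ← hz, pow_orderOf_eq_one]
  have hz1 : φ z = -1 := (sq_eq_one_sl h2 (by rw [← map_mul, hzz, map_one])).resolve_left fun h => by
      rw [hφ (h.trans (map_one φ).symm), orderOf_one] at hz; omega
  refine (Nat.card_eq_two_iff).mpr ⟨1, ⟨z, ?_⟩, fun h => ?_, Set.eq_univ_iff_forall.mpr fun k => ?_⟩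
  · rw [MonoidHom.mem_ker, hker, hzz]
  · have hz1' : z = 1 := (congrArg Subtype.val h).symm
    rw [hz1', orderOf_one] at hz; omega
  · have hk := (hker k).mp k.2
    rcases sq_eq_one_sl h2 (A := φ k) (by rw [← map_mul, hk, map_one]) with h | h
    · exact Or.inl (Subtype.ext (hφ (h.trans (map_one φ).symm)))
    · exact Or.inr (Subtype.ext (hφ (h.trans hz1.symm)))

theorem commute_of_image_commute {L : Type*} [Field L]
    {φ : K →* Matrix.SpecialLinearGroup (Fin 2) L} (hφ : Function.Injective φ)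
    {x y : K} (hy : orderOf y = 3) (h : toPSL (φ x) * toPSL (φ y) = toPSL (φ y) * toPSL (φ x)) :
    x * y = y * x := by
  have h1 : toPSL (φ (x * y * x⁻¹ * y⁻¹)) = 1 := by
    simp only [map_mul, map_inv]; rw [h]; group
  set c := x * y * x⁻¹ * y⁻¹ with hc
  have hcc : c * c = 1 := hφ (by
    rw [map_mul, map_one]
    rcases toPSL_eq_one.mp h1 with h | h <;> rw [h] <;> simp)
  have hcy : c * y = y * c := hφ (by
    rw [map_mul φ c y, map_mul φ y c]
    rcases toPSL_eq_one.mp h1 with h | h <;> rw [h] <;> simp)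
  have hy3 : y ^ 3 = 1 := hy ▸ pow_orderOf_eq_one y
  have h3 : (c * y) ^ 3 = 1 := by
    rw [show c * y = x * y * x⁻¹ by rw [hc]; group, conj_pow, hy3]; group
  rw [(show Commute c y from hcy).mul_pow, hy3, mul_one, pow_three, hcc, mul_one] at h3
  calc x * y = c * (y * x) := by rw [hc]; group
    _ = y * x := by rw [h3, one_mul]

theorem sign_of_orderOf_three {g : Equiv.Perm (Fin 4)} (h : g ^ 3 = 1) : Equiv.Perm.sign g = 1 := by
  revert g; decide +kernel

theorem classify {L : Type*} [Field L] [Fintype L] (ℓ : ℕ) [Fact ℓ.Prime] [CharP L ℓ]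
    (hℓ : ¬ ℓ ∣ Nat.card K) (φ : K →* Matrix.SpecialLinearGroup (Fin 2) L) (hφ : Function.Injective φ)
    (hgen : Subgroup.closure {x : K | orderOf x = 3} = ⊤)
    {a b : K} (hb : orderOf b = 3) (hab : a * b ≠ b * a) : Tet K ∨ Ico K := by
  set π := toPSL.comp φ
  have hnc : ¬ ∀ u v : π.range, u * v = v * u := fun h => hab
    (commute_of_image_commute hφ hb (congrArg Subtype.val (h (π.rangeRestrict a) (π.rangeRestrict b))))
  have hcardπ : Nat.card π.range ∣ Nat.card K := Subgroup.card_range_dvd π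
  rcases Dickson.subType ℓ π.range with ⟨k, -, hc, -⟩ | ⟨k, -, ⟨e⟩⟩ | ⟨S, hS⟩ | ⟨⟨e⟩⟩ | ⟨⟨e⟩⟩ | ⟨⟨e⟩⟩ | ⟨M, hM⟩
  · haveI := hc.commutative
    exact absurd (fun u v => mul_comm' u v) hnc
  · exfalso
    apply hnc
    set g : K →* DihedralGroup k := e.toMonoidHom.comp π.rangeRestrict
    let rot : Subgroup (DihedralGroup k) :=
      { carrier := Set.range DihedralGroup.r
        one_mem' := ⟨0, rfl⟩
        mul_mem' := by rintro _ _ ⟨i, rfl⟩ ⟨j, rfl⟩; exact ⟨i + j, (DihedralGroup.r_mul_r i j).symm⟩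
        inv_mem' := by rintro _ ⟨i, rfl⟩; exact ⟨-i, (DihedralGroup.inv_r i).symm⟩ }
    have hle : (⊤ : Subgroup K) ≤ rot.comap g := by
      rw [← hgen, Subgroup.closure_le]
      intro u hu
      have h3 : (g u) ^ 3 = 1 := by rw [← map_pow, ← hu, pow_orderOf_eq_one, map_one]
      rw [SetLike.mem_coe, Subgroup.mem_comap]
      rcases hgu : g u with i | i
      · exact ⟨i, rfl⟩
      · exfalso
        rw [hgu, pow_three, DihedralGroup.sr_mul_self, mul_one] at h3
        cases h3
    intro u v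
    obtain ⟨u', rfl⟩ := π.rangeRestrict_surjective u
    obtain ⟨v', rfl⟩ := π.rangeRestrict_surjective v
    obtain ⟨i, hi⟩ : g u' ∈ rot := hle (Subgroup.mem_top u')
    obtain ⟨j, hj⟩ : g v' ∈ rot := hle (Subgroup.mem_top v')
    apply e.injective
    rw [map_mul, map_mul, show e (π.rangeRestrict u') = DihedralGroup.r i from hi.symm,
      show e (π.rangeRestrict v') = DihedralGroup.r j from hj.symm, DihedralGroup.r_mul_r,
      DihedralGroup.r_mul_r, add_comm]
  · exfalso
    apply hnc
    intro u v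
    have h := Dickson.orderOf_commutator_dvd ℓ S (hS u.2) (hS v.2)
    set c : π.range := u * v * u⁻¹ * v⁻¹
    have hc : orderOf (c : Matrix.ProjectiveSpecialLinearGroup (Fin 2) L) ∣ Nat.card K := by
      rw [Subgroup.orderOf_coe]; exact (orderOf_dvd_natCard c).trans hcardπ
    have h1 : orderOf (c : Matrix.ProjectiveSpecialLinearGroup (Fin 2) L) = 1 :=
      Nat.eq_one_of_dvd_coprimes ((Fact.out : ℓ.Prime).coprime_iff_not_dvd.mpr hℓ) h hc
    have h2 : u * v * u⁻¹ * v⁻¹ = 1 := Subtype.ext (orderOf_eq_one_iff.mp h1)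
    calc u * v = (u * v * u⁻¹ * v⁻¹) * (v * u) := by group
      _ = v * u := by rw [h2, one_mul]
  · left
    have := cover_of_hom ℓ hℓ φ hφ rfl e (by rw [card_alt_four]; norm_num)
    rwa [card_alt_four] at this
  · exfalso
    set g : K →* Equiv.Perm (Fin 4) := e.toMonoidHom.comp π.rangeRestrict
    have hs : Function.Surjective g := e.surjective.comp π.rangeRestrict_surjective
    have hle : (⊤ : Subgroup K) ≤ (Equiv.Perm.sign.comp g).ker := by
      rw [← hgen, Subgroup.closure_le]
      intro u hu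
      exact sign_of_orderOf_three (by rw [← map_pow, ← hu, pow_orderOf_eq_one, map_one])
    obtain ⟨u, hu⟩ := hs (Equiv.swap 0 1)
    have h : Equiv.Perm.sign (g u) = 1 := hle (Subgroup.mem_top u)
    rw [hu, Equiv.Perm.sign_swap (by decide)] at h
    exact absurd h (by decide)
  · right
    have := cover_of_hom ℓ hℓ φ hφ rfl e (by rw [card_alt_five]; norm_num)
    rwa [card_alt_five] at this
  · exfalso
    apply hℓ
    refine dvd_trans ?_ hcardπ
    haveI := Fintype.ofFinite M
    haveI : CharP M ℓ := M.subtype.charP M.subtype.injective ℓ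
    have hM1 : ℓ ∣ Fintype.card M := by
      obtain ⟨m, hm, hm'⟩ := FiniteField.card M ℓ
      rw [hm']; exact dvd_pow_self ℓ m.ne_zero
    have hnd : ℓ ∣ Fintype.card M * (Fintype.card M ^ 2 - 1) := hM1.mul_right _
    rcases hM with ⟨⟨e⟩⟩ | ⟨⟨e⟩⟩
    · rw [Nat.card_congr e.toEquiv]
      rw [← Cfsg.Agent.Lib.Classical.card_PSL2_mul] at hnd
      refine Nat.Coprime.dvd_of_dvd_mul_left ?_ hnd
      rw [(Fact.out : ℓ.Prime).coprime_iff_not_dvd]
      intro hd
      have h2 := hd.trans (Nat.gcd_dvd_right _ _)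
      exact (Fact.out : ℓ.Prime).not_dvd_one
        ((Nat.dvd_add_right h2).mp (by rw [Nat.sub_add_cancel Fintype.card_pos]; exact hM1))
    · rw [Nat.card_congr e.toEquiv, Cfsg.Agent.Lib.Classical.card_PGL, Cfsg.Agent.Lib.Classical.card_SL2]
      exact hnd

end classify

section linear

variable {G : Type*} [Group G] [Finite G] {ℓ : ℕ} [Fact ℓ.Prime] {V : Type*} [AddCommGroup V]
  [Module (AlgebraicClosure (ZMod ℓ)) V] [FiniteDimensional (AlgebraicClosure (ZMod ℓ)) V] [Nontrivial V]
  {ρ : G →* Module.End (AlgebraicClosure (ZMod ℓ)) V}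

theorem preserves_of_closure {S : Set G} {P : Submodule (AlgebraicClosure (ZMod ℓ)) V}
    (hS : ∀ s ∈ S, ∀ u ∈ P, ρ s u ∈ P) {g : G} (hg : g ∈ Subgroup.closure S) : ∀ u ∈ P, ρ g u ∈ P := by
  rw [← Subgroup.mem_toSubmonoid, Subgroup.closure_toSubmonoid_of_finite] at hg
  induction hg using Submonoid.closure_induction with
  | mem s hs => exact hS s hs
  | one => intro u hu; rw [apply_one]; exact hu
  | mul a b _ _ ha hb => intro u hu; rw [apply_mul]; exact ha _ (hb u hu)

theorem generated_of_plane (hρ : FixedFree ρ) (hℓ : ¬ ℓ ∣ Nat.card G) {S : Set G}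
    (hS3 : ∀ s ∈ S, orderOf s = 3) {x y : G} (hxS : x ∈ S) (hyS : y ∈ S) (hxy : x * y ≠ y * x)
    {P : Submodule (AlgebraicClosure (ZMod ℓ)) V} (hP : Module.finrank (AlgebraicClosure (ZMod ℓ)) P = 2)
    (hinv : ∀ s ∈ S, ∀ u ∈ P, ρ s u ∈ P) :
    Tet (Subgroup.closure S) ∨ Ico (Subgroup.closure S) := by
  classical
  set K := Subgroup.closure S
  have hK : ∀ k : K, ∀ u ∈ P, ρ (k : G) u ∈ P := fun k => preserves_of_closure hinv k.2
  let σ : K →* Module.End (AlgebraicClosure (ZMod ℓ)) P :=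
    { toFun := fun k => (ρ (k : G)).restrict (hK k)
      map_one' := LinearMap.ext fun u => Subtype.ext (apply_one (ρ := ρ) _)
      map_mul' := fun a b => LinearMap.ext fun u => Subtype.ext (apply_mul (ρ := ρ) _ _ _) }
  have hσv : ∀ (k : K) (u : P), ((σ k u : P) : V) = ρ (k : G) (u : V) := fun k u => rfl
  haveI : FiniteDimensional (AlgebraicClosure (ZMod ℓ)) P := inferInstance
  set bP := Module.finBasisOfFinrankEq (AlgebraicClosure (ZMod ℓ)) P hP
  let τ : K →* Matrix (Fin 2) (Fin 2) (AlgebraicClosure (ZMod ℓ)) :=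
    ((LinearMap.toMatrixAlgEquiv bP).toAlgHom.toRingHom.toMonoidHom).comp σ
  have hscal : ∀ (s : G) (hs : s ∈ S) (a : AlgebraicClosure (ZMod ℓ)),
      (∀ u : P, σ ⟨s, Subgroup.subset_closure hs⟩ u = a • u) → False := by
    intro s hs a ha
    have hcomm : ∀ g ∈ S, s * g = g * s := by
      intro g hg
      haveI : Nontrivial P := Module.nontrivial_of_finrank_pos (R := AlgebraicClosure (ZMod ℓ)) (by omega)
      obtain ⟨b, hb⟩ := Module.End.exists_eigenvalue (σ ⟨g, Subgroup.subset_closure hg⟩)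
      obtain ⟨u, hu⟩ := hb.exists_hasEigenvector
      refine hρ.commute_of_common (v := (u : V)) (fun e => hu.2 (Subtype.ext e)) (a := a) (b := b) ?_ ?_
      · exact congrArg Subtype.val (ha u)
      · exact congrArg Subtype.val hu.apply_eq_smul
    have hx := hρ.mem_zpowers_of_commute (hcomm x hxS) (by rw [hS3 x hxS, hS3 s hs])
    have hy := hρ.mem_zpowers_of_commute (hcomm y hyS) (by rw [hS3 y hyS, hS3 s hs])
    obtain ⟨i, rfl⟩ := hx
    obtain ⟨j, rfl⟩ := hy
    exact hxy (by rw [← _root_.zpow_add, ← _root_.zpow_add, add_comm])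
  have hdetS : ∀ (s : G) (hs : s ∈ S), (τ ⟨s, Subgroup.subset_closure hs⟩).det = 1 := by
    intro s hs
    set A := τ ⟨s, Subgroup.subset_closure hs⟩ with hA
    have hq : A * A = -1 - A := by
      show LinearMap.toMatrixAlgEquiv bP _ * LinearMap.toMatrixAlgEquiv bP _ = _
      rw [← map_mul, show σ ⟨s, _⟩ * σ ⟨s, _⟩ = -1 - σ ⟨s, Subgroup.subset_closure hs⟩ from
        LinearMap.ext fun u => Subtype.ext (hρ.quad_three (hS3 s hs) _)]
      simp only [map_sub, map_neg, map_one]
      rfl
    by_contra hne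
    have h00 := congrFun (congrFun hq 0) 0
    have h01 := congrFun (congrFun hq 0) 1
    have h10 := congrFun (congrFun hq 1) 0
    have h11 := congrFun (congrFun hq 1) 1
    simp [Matrix.mul_apply, Fin.sum_univ_two] at h00 h01 h10 h11
    rw [Matrix.det_fin_two] at hne
    have ht : A 0 0 + A 1 1 + 1 ≠ 0 := fun ht => hne (by linear_combination A 0 0 * ht - h00)
    have hb : A 0 1 = 0 := ((mul_eq_zero (a := A 0 0 + A 1 1 + 1)).mp
      (by linear_combination h01)).resolve_left ht
    have hc : A 1 0 = 0 := ((mul_eq_zero (a := A 0 0 + A 1 1 + 1)).mp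
      (by linear_combination h10)).resolve_left ht
    have hd : A 0 0 = A 1 1 := sub_eq_zero.mp (((mul_eq_zero (a := A 0 0 + A 1 1 + 1)).mp
      (by linear_combination h00 - h11)).resolve_left ht)
    have hAs : A = (A 0 0) • (1 : Matrix (Fin 2) (Fin 2) (AlgebraicClosure (ZMod ℓ))) := by
      ext i j; fin_cases i <;> fin_cases j <;> simp [hb, hc, hd]
    refine hscal s hs (A 0 0) fun u => ?_
    have e : σ ⟨s, Subgroup.subset_closure hs⟩ = (A 0 0) • (1 : Module.End (AlgebraicClosure (ZMod ℓ)) P) := by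
      apply (LinearMap.toMatrixAlgEquiv bP).injective
      rw [map_smul, map_one]
      exact hAs
    rw [e]; rfl
  have hdet : ∀ k : K, (τ k).det = 1 := by
    rintro ⟨g, hg⟩
    induction hg using Subgroup.closure_induction with
    | mem s hs => exact hdetS s hs
    | one => exact (congrArg Matrix.det (map_one τ)).trans Matrix.det_one
    | mul a b ha hb iha ihb =>
      rw [show (⟨a * b, _⟩ : K) = ⟨a, ha⟩ * ⟨b, hb⟩ from rfl, map_mul, Matrix.det_mul, iha, ihb, mul_one]
    | inv a ha iha =>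
      have h := congrArg Matrix.det (map_mul τ ⟨a⁻¹, K.inv_mem ha⟩ ⟨a, ha⟩)
      rw [show (⟨a⁻¹, K.inv_mem ha⟩ : K) * ⟨a, ha⟩ = 1 from Subtype.ext (inv_mul_cancel a), map_one,
        Matrix.det_one, Matrix.det_mul, iha, mul_one] at h
      exact h.symm
  let φ : K →* Matrix.SpecialLinearGroup (Fin 2) (AlgebraicClosure (ZMod ℓ)) :=
    { toFun := fun k => ⟨τ k, hdet k⟩
      map_one' := Subtype.ext (map_one τ)
      map_mul' := fun a b => Subtype.ext (map_mul τ a b) }
  have hφ : Function.Injective φ := by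
    intro a b hab
    have h : σ a = σ b := (LinearMap.toMatrixAlgEquiv bP).injective (congrArg Subtype.val hab)
    haveI : Nontrivial P := Module.nontrivial_of_finrank_pos (R := AlgebraicClosure (ZMod ℓ)) (by omega)
    obtain ⟨u, hu⟩ := exists_ne (0 : P)
    exact Subtype.ext (hρ.eq_of_apply_eq (v := (u : V)) (fun e => hu (Subtype.ext e))
      (congrArg Subtype.val (LinearMap.congr_fun h u)))
  -- descend to a finite field
  set E : Set (AlgebraicClosure (ZMod ℓ)) := Set.range (fun t : K × Fin 2 × Fin 2 => τ t.1 t.2.1 t.2.2)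
  haveI : Finite E := (Set.finite_range _).to_subtype
  set L := IntermediateField.adjoin (ZMod ℓ) E
  haveI : FiniteDimensional (ZMod ℓ) L :=
    IntermediateField.finiteDimensional_adjoin fun a _ => Algebra.IsIntegral.isIntegral a
  haveI : Finite L := Module.finite_of_finite (ZMod ℓ)
  haveI := Fintype.ofFinite L
  haveI : CharP L ℓ := charP_of_injective_algebraMap (algebraMap (ZMod ℓ) L).injective ℓ
  let τL : K → Matrix (Fin 2) (Fin 2) L := fun k i j =>
    ⟨τ k i j, IntermediateField.subset_adjoin _ _ ⟨(k, i, j), rfl⟩⟩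
  have hτL : ∀ k, L.val.toRingHom.mapMatrix (τL k) = τ k := fun k => rfl
  have hinj : Function.Injective (L.val.toRingHom.mapMatrix (m := Fin 2)) :=
    Matrix.map_injective Subtype.val_injective
  let ψ : K →* Matrix.SpecialLinearGroup (Fin 2) L :=
    { toFun := fun k => ⟨τL k, L.val.toRingHom.injective (by
        rw [RingHom.map_det, hτL, hdet, map_one])⟩
      map_one' := Subtype.ext (hinj (by
        show L.val.toRingHom.mapMatrix (τL 1) = L.val.toRingHom.mapMatrix 1
        rw [hτL, map_one, map_one]))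
      map_mul' := fun a b => Subtype.ext (hinj (by
        show L.val.toRingHom.mapMatrix (τL (a * b)) = L.val.toRingHom.mapMatrix (τL a * τL b)
        rw [map_mul, hτL, hτL, hτL, map_mul])) }
  have hψ : Function.Injective ψ := fun a b hab => hφ (Subtype.ext (by
    show τ a = τ b
    rw [← hτL, ← hτL]
    exact congrArg _ (congrArg Subtype.val hab)))
  refine classify ℓ (fun h => hℓ (h.trans (Subgroup.card_subgroup_dvd_card K))) ψ hψ ?_
    (a := ⟨x, Subgroup.subset_closure hxS⟩) (b := ⟨y, Subgroup.subset_closure hyS⟩)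
    (by rw [← Subgroup.orderOf_coe]; exact hS3 y hyS) (fun h => hxy (congrArg Subtype.val h))
  rw [eq_top_iff]
  intro k _
  have : Subgroup.closure ((K.subtype) ⁻¹' S) = ⊤ := Subgroup.closure_closure_coe_preimage
  refine (Subgroup.closure_mono ?_ : _ ≤ Subgroup.closure {u : K | orderOf u = 3}) (this.ge (Subgroup.mem_top k))
  intro u hu
  show orderOf u = 3
  rw [← Subgroup.orderOf_coe]; exact hS3 _ hu

theorem pair (hρ : FixedFree ρ) (hℓ : ¬ ℓ ∣ Nat.card G) {x y : G} (hx : orderOf x = 3)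
    (hy : orderOf y = 3) (hxy : x * y ≠ y * x) :
    Tet (Subgroup.closure ({x, y} : Set G)) ∨ Ico (Subgroup.closure ({x, y} : Set G)) := by
  obtain ⟨P, hP, h1, h2⟩ := hρ.exists_plane_pair hx hy hxy
  refine generated_of_plane hρ hℓ ?_ (Set.mem_insert _ _) (Set.mem_insert_of_mem _ rfl) hxy hP ?_
  · rintro s (rfl | rfl) <;> assumption
  · rintro s (rfl | rfl) <;> assumption

theorem alt_four_exp : ∀ a : alternatingGroup (Fin 4), a ^ 2 = 1 ∨ a ^ 3 = 1 := by decide +kernel

theorem scalar_of_tet (hρ : FixedFree ρ) {x y : G} (hx : orderOf x = 3) (hy : orderOf y = 3)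
    (hxy : x * y ≠ y * x) (h : Tet (Subgroup.closure ({x, y} : Set G))) :
    ∃ c : AlgebraicClosure (ZMod ℓ), ∀ v, FixedFree.traceOp ρ x y v = c • v := by
  obtain ⟨-, f, -, hf⟩ := h
  set g : Subgroup.closure ({x, y} : Set G) := ⟨x * y, mul_mem (Subgroup.subset_closure (Set.mem_insert _ _))
    (Subgroup.subset_closure (Set.mem_insert_of_mem _ rfl))⟩
  set k := x * y with hk
  have hk2 : k * k ≠ 1 := by
    intro e
    apply hxy
    have hfk : f g = 1 := (hf g).mpr (Subtype.ext e)
    set X : Subgroup.closure ({x, y} : Set G) := ⟨x, Subgroup.subset_closure (Set.mem_insert _ _)⟩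
    set Y : Subgroup.closure ({x, y} : Set G) := ⟨y, Subgroup.subset_closure (Set.mem_insert_of_mem _ rfl)⟩
    have hfY : f Y = (f X)⁻¹ := by
      rw [eq_inv_iff_mul_eq_one, ← map_mul]
      have : f (X * Y) = 1 := hfk
      rw [map_mul] at this ⊢
      exact mul_eq_one_comm.mp this
    -- `Y * X` lies in the kernel, so it is a central involution or trivial
    have hYX : (y * x) * (y * x) = 1 := congrArg Subtype.val ((hf (Y * X)).mp (by rw [map_mul, hfY, inv_mul_cancel]))
    by_contra hne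
    have e1 : ∀ {u : G}, u ≠ 1 → u * u = 1 → ∀ v, ρ u v = -v := fun {u} hu hu2 v => by
      have hw : ρ u (v + ρ u v) = v + ρ u v := by
        rw [map_add, ← apply_mul, hu2, apply_one, add_comm]
      exact eq_neg_of_add_eq_zero_right (hρ u hu _ hw)
    have h1 : x * y ≠ 1 := fun h => hne (h.trans (mul_eq_one_comm.mp h).symm)
    have h2 : y * x ≠ 1 := fun h => hne ((mul_eq_one_comm.mp h).trans h.symm)
    obtain ⟨v, hv⟩ := exists_ne (0 : V)
    exact hne (hρ.eq_of_apply_eq hv ((e1 h1 e v).trans (e1 h2 hYX v).symm))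
  have hneg : ∀ u : G, u ≠ 1 → u * u = 1 → ∀ v, ρ u v = -v := fun u hu hu2 v => by
    have hw : ρ u (v + ρ u v) = v + ρ u v := by
      rw [map_add, ← apply_mul, hu2, apply_one, add_comm]
    exact eq_neg_of_add_eq_zero_right (hρ u hu _ hw)
  rcases alt_four_exp (f g) with h | h
  · refine ⟨0, fun v => ?_⟩
    have h4 : (k * k) * (k * k) = 1 := congrArg Subtype.val ((hf (g * g)).mp (by rw [map_mul, ← pow_two, h]))
    show ρ k v + ρ k⁻¹ v = _
    rw [show k⁻¹ = (k * k) * k by rw [inv_eq_iff_mul_eq_one, ← h4]; group, apply_mul (k * k) k, hneg _ hk2 h4,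
      zero_smul, add_neg_cancel]
  · have h6 : (k * k * k) * (k * k * k) = 1 := congrArg Subtype.val
      ((hf (g * g * g)).mp (by rw [map_mul, map_mul, ← pow_three', h]))
    by_cases h3 : k * k * k = 1
    · have hk3 : orderOf k = 3 := orderOf_eq_prime (by rw [pow_three', h3]) fun e => hk2 (by rw [e, one_mul])
      refine ⟨-1, fun v => ?_⟩
      show ρ k v + ρ k⁻¹ v = _
      rw [show k⁻¹ = k * k by rw [inv_eq_iff_mul_eq_one, ← h3]; group, apply_mul k k, hρ.quad_three hk3]
      module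
    · refine ⟨1, fun v => ?_⟩
      have hk3 : orderOf (k * k) = 3 := orderOf_eq_prime (by rw [pow_three', ← h6]; group) hk2
      have hq := hρ.quad_three hk3 v
      show ρ k v + ρ k⁻¹ v = _
      rw [show k⁻¹ = (k * k * k) * (k * k) by rw [inv_eq_iff_mul_eq_one, ← h6]; group,
        apply_mul (k * k * k) (k * k), hneg _ h3 h6]
      have e : ρ k v = - ρ (k * k) (ρ (k * k) v) := by
        rw [← apply_mul (k * k) (k * k), show (k * k) * (k * k) = (k * k * k) * k by group,
          apply_mul (k * k * k) k, hneg _ h3 h6, neg_neg]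
      rw [e, hq]
      module

theorem triple (hρ : FixedFree ρ) (hℓ : ¬ ℓ ∣ Nat.card G) {x y w : G} (hx : orderOf x = 3)
    (hy : orderOf y = 3) (hw : orderOf w = 3) (hxy : x * y ≠ y * x) (hyw : y * w ≠ w * y)
    (h₁ : Tet (Subgroup.closure ({x, y} : Set G))) (h₂ : Tet (Subgroup.closure ({y, w} : Set G))) :
    Tet (Subgroup.closure ({x, y, w} : Set G)) ∨ Ico (Subgroup.closure ({x, y, w} : Set G)) := by
  obtain ⟨c₁, hc₁⟩ := scalar_of_tet hρ hx hy hxy h₁
  obtain ⟨c₂, hc₂⟩ := scalar_of_tet hρ hy hw hyw h₂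
  have h24 : (24 : ℕ) ∣ Nat.card G := h₁.1 ▸ Subgroup.card_subgroup_dvd_card _
  have hne : ∀ p : ℕ, p.Prime → p ∣ 24 → (p : AlgebraicClosure (ZMod ℓ)) ≠ 0 := fun p hp hd h => by
    rw [CharP.cast_eq_zero_iff (AlgebraicClosure (ZMod ℓ)) ℓ] at h
    exact hℓ ((Nat.prime_dvd_prime_iff_eq Fact.out hp).mp h ▸ hd.trans h24)
  obtain ⟨P, hP, a, b, c⟩ := hρ.exists_plane_triple hx hy hw hxy
    (by simpa using hne 2 Nat.prime_two (by norm_num)) (by simpa using hne 3 Nat.prime_three (by norm_num))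
    hc₁ hc₂
  refine generated_of_plane hρ hℓ ?_ (Set.mem_insert _ _)
    (Set.mem_insert_of_mem _ (Set.mem_insert _ _)) hxy hP ?_
  · rintro s (rfl | rfl | rfl) <;> assumption
  · rintro s (rfl | rfl | rfl) <;> assumption

end linear

end Cfsg.Agent.Lib.Frobenius.Zassenhaus
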